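import Cfsg.Agent.BC85.Star.Nilpotent
import Cfsg.Agent.Lib.CharCore.Virtual
import Cfsg.Agent.Lib.CharCore.Linear

/-!
# The characters of a nilpotent block
-/

set_option linter.unusedSectionVars false
set_option linter.style.longLine false

namespace Cfsg.Agent.BC85.Star

open BlocksCore BlocksDefect
open scoped Classical ComplexConjugate

universe u

variable {G : Type u} [Group G] [Fintype G] {p : ℕ} [Fact p.Prime] {M : Ideal AlgInt}
  [hP : M.IsPrime] (hM : IsPModular p M) {B : Set (IrrCharacter G)} {P : Subgroup G}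
  {e : Set (IrrCharacter (Subgroup.centralizer (P : Set G)))}
  (hmax : IsMaximalBrauerPair p M B P e) (hnil : IsNilpotentBlock p M B)
include hM

theorem contribAt_self {χ : IrrCharacter G} {v : G} (hv : ∃ n : ℕ, orderOf v = p ^ n)
    {a : BrauerPairIdx G} (ha : a ∈ pairsAt M (Subgroup.zpowers v)) :
    ∃ r : ℝ, contribAt p a v (χ : G → ℂ) (χ : G → ℂ) = (r : ℂ) ∧ 0 ≤ r ∧
      ((∃ s ∈ Subgroup.centralizer ({v} : Set G), ¬ p ∣ orderOf s ∧
        proj a v (χ : G → ℂ) s ≠ 0) → 0 < r) := by
  obtain ⟨b, hb, hcoe, -⟩ := exists_block_induced hM hv ha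
  set f : Subgroup.centralizer ({v} : Set G) → ℂ := fun c => (χ : G → ℂ) (v * c) with hf
  have hidem : ∀ s, blockPart b (blockPart b f) s = blockPart b f s := by
    intro s
    rw [CharCore.BlockSections.blockPart_eq_sum b (blockPart b f),
      CharCore.BlockSections.blockPart_eq_sum b f]
    refine Finset.sum_congr rfl fun θ hθ => ?_
    congr 1
    rw [show blockPart b f = ∑ η ∈ Finset.univ.filter (· ∈ b),
        classInner f (η : _ → ℂ) • (η : Subgroup.centralizer ({v} : Set G) → ℂ) from
      funext fun x => by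
        rw [CharCore.BlockSections.blockPart_eq_sum, Finset.sum_apply]
        rfl, CharCore.classInner_sum_irr, if_pos hθ]
  set S := Finset.univ.filter fun s : Subgroup.centralizer ({v} : Set G) => ¬ p ∣ orderOf s
  refine ⟨∑ s ∈ S, Complex.normSq (blockPart b f s), ?_,
    Finset.sum_nonneg fun s _ => Complex.normSq_nonneg _, ?_⟩
  · rw [contribAt, ← Finset.sum_filter]
    have h1 : ∑ s ∈ S, blockPart b f s * conj (f s) =
        ∑ s ∈ S, blockPart b f s * conj (blockPart b f s) := by
      rw [← sum_regular_blockPart_symm hM hb (blockPart b f) f]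
      exact Finset.sum_congr rfl fun s _ => by rw [hidem]
    refine Eq.trans ?_ (h1.trans ?_)
    · refine (Finset.sum_bij (fun (s : Subgroup.centralizer ({v} : Set G)) _ => (s : G))
        (fun s hs => Finset.mem_filter.mpr ⟨Finset.mem_univ _, s.2,
          by rw [Subgroup.orderOf_coe]; exact (Finset.mem_filter.mp hs).2⟩)
        (fun _ _ _ _ h => Subtype.ext h)
        (fun s hs => ⟨⟨s, (Finset.mem_filter.mp hs).2.1⟩, Finset.mem_filter.mpr ⟨Finset.mem_univ _,
          by rw [← Subgroup.orderOf_coe]; exact (Finset.mem_filter.mp hs).2.2⟩, rfl⟩)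
        fun s _ => ?_).symm
      rw [proj_eq_blockPart (irr_class χ) hcoe]
    · push_cast
      exact Finset.sum_congr rfl fun s _ => Complex.mul_conj _
  · rintro ⟨s, hsv, hs, hne⟩
    refine Finset.sum_pos' (fun s _ => Complex.normSq_nonneg _) ⟨⟨s, hsv⟩,
      Finset.mem_filter.mpr ⟨Finset.mem_univ _, by rwa [← Subgroup.orderOf_coe]⟩, ?_⟩
    refine Complex.normSq_pos.mpr fun h => hne ?_
    exact (proj_eq_blockPart (irr_class χ) hcoe ⟨s, hsv⟩).trans h

/-- A positive generalized character of mean one is the trivial one. -/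
theorem eq_one_of_pos_of_mean_one {H : Type u} [Group H] [Fintype H] {w : H → ℂ}
    (hw : IsGeneralizedCharacter H w) {r : H → ℝ} (hr : ∀ x, w x = (r x : ℂ))
    (hpos : ∀ x, 0 < r x) (hsum : ∑ x, r x = Nat.card H) (x : H) : w x = 1 := by
  obtain ⟨a, b, ha, hb, hab⟩ := hw
  have hint : IsIntegral ℤ (∏ x, w x) := by
    refine IsIntegral.prod _ fun x _ => ?_
    rw [hab]
    obtain ⟨n, ρ, rfl⟩ := ha
    obtain ⟨m, τ, rfl⟩ := hb
    exact (CharCore.isIntegral_character ρ x).sub (CharCore.isIntegral_character τ x)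
  have hfix : ∀ σ : ℂ →+* ℂ, σ (∏ x, w x) = ∏ x, w x := by
    intro σ
    obtain ⟨m, hm, hσ⟩ := CharClifford.exists_pow_of_ringHom σ (Nat.card_pos (α := H)).ne'
    have h : ∀ x, σ (w x) = w (x ^ m) := by
      intro x
      rw [hab]
      obtain ⟨n, ρ, rfl⟩ := ha
      obtain ⟨k, τ, rfl⟩ := hb
      simp only [Pi.sub_apply, map_sub]
      rw [CharClifford.map_character ρ σ x Nat.card_pos.ne' pow_card_eq_one' hσ,
        CharClifford.map_character τ σ x Nat.card_pos.ne' pow_card_eq_one' hσ]
    rw [map_prod]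
    simp only [h]
    exact Fintype.prod_equiv (powCoprime hm.symm) _ _ fun x => rfl
  obtain ⟨k, hk⟩ := CharClifford.exists_int_of_fixed hint hfix
  simp only [hr] at hk
  rw [← Complex.ofReal_prod, ← Complex.ofReal_intCast, Complex.ofReal_inj] at hk
  have hk1 : (1 : ℝ) ≤ ∏ x, r x := by
    rw [hk]
    have h0 : (0 : ℝ) < (k : ℝ) := by rw [← hk]; exact Finset.prod_pos fun x _ => hpos x
    exact_mod_cast (Int.cast_pos.mp h0 : 0 < k)
  rw [hr]
  by_contra hne
  have hne' : r x ≠ 1 := fun h => hne (by rw [h, Complex.ofReal_one])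
  have h1 : ∑ y, Real.log (r y) < ∑ y, (r y - 1) :=
    Finset.sum_lt_sum (fun y _ => Real.log_le_sub_one_of_pos (hpos y))
      ⟨x, Finset.mem_univ _, Real.log_lt_sub_one_of_pos (hpos x) hne'⟩
  rw [← Real.log_prod (fun y _ => (hpos y).ne'), Finset.sum_sub_distrib, hsum] at h1
  simp only [Finset.sum_const, Finset.card_univ, nsmul_eq_mul, mul_one,
    ← Nat.card_eq_fintype_card, sub_self] at h1
  exact absurd h1 (not_lt.mpr (Real.log_nonneg hk1))

include hmax hnil

variable {χ₀ : IrrCharacter G} (hχ₀ : χ₀ ∈ B) (h0 : blockHeight p B (χ₀ : G → ℂ) = 0)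
include hχ₀ h0

/-- The weight of a character of height zero is one. -/
theorem nilWeight_eq_one (x : P) : nilWeight hM hmax (χ₀ : G → ℂ) (χ₀ : G → ℂ) x = 1 := by
  set w : P → ℂ := nilWeight hM hmax (χ₀ : G → ℂ) (χ₀ : G → ℂ) with hw
  have key : ∀ y : P, ∃ r : ℝ, w y = (r : ℂ) ∧ 0 < r := by
    intro y
    obtain ⟨r, hr, -, hpos⟩ := contribAt_self hM (χ := χ₀) (orderOf_pow_of_mem hmax.1.1.1 y.2)
      (atBelow_mem hM hmax y)
    have hr' := hpos (exists_proj_ne_zero_of_height_zero hM hmax hχ₀ h0 y (atBelow_le hM hmax y))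
    refine ⟨(Nat.card (Subgroup.centralizer ({y} : Set P)) : ℝ) /
      (Nat.card (Subgroup.centralizer ({(y : G)} : Set G)) : ℝ) * r, ?_, ?_⟩
    · rw [hw, nilWeight, hr]
      push_cast
      rfl
    · exact mul_pos (div_pos (Nat.cast_pos.mpr Nat.card_pos) (Nat.cast_pos.mpr Nat.card_pos)) hr'
  choose r hr hpos using key
  have hcl : IsClassFunction P w := fun y u =>
    nilWeight_conj hM hmax hnil (irr_class χ₀) (irr_class χ₀) y u
  have hgen : IsGeneralizedCharacter P w := by
    refine CharCore.isGeneralizedCharacter_iff.mpr ⟨hcl, fun η => ?_⟩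
    have hst := isPairStable_class hM hmax hnil (irr_class η)
    obtain ⟨k, hk⟩ := CharCore.IsGeneralizedCharacter.exists_classInner_irr_eq_intCast
      (starMul_gen hM hmax (CharCore.irr_isGeneralized η) hst χ₀) χ₀
    rw [classInner_starMul_eq hM hmax hnil (irr_class η) (irr_class χ₀) (irr_class χ₀)] at hk
    refine ⟨k, ?_⟩
    have h := congrArg conj hk
    rw [map_mul, map_inv₀, map_natCast, map_sum, map_intCast] at h
    rw [← h, classInner]
    congr 1
    refine Finset.sum_congr rfl fun y _ => ?_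
    rw [map_mul, ← hw, hr, Complex.conj_ofReal, mul_comm]
  refine eq_one_of_pos_of_mean_one hM hgen hr hpos ?_ x
  have h := classInner_starMul_eq hM hmax hnil (φ := fun _ => (1 : ℂ)) (fun _ _ => rfl)
    (irr_class χ₀) (irr_class χ₀)
  rw [starMul_one hM hmax hχ₀, CharCore.classInner_irr_self] at h
  simp only [one_mul, ← hw, hr] at h
  rw [eq_inv_mul_iff_mul_eq₀ (Nat.cast_ne_zero.mpr Nat.card_pos.ne'), mul_one,
    ← Complex.ofReal_sum, ← Complex.ofReal_natCast, Complex.ofReal_inj] at h
  exact h.symm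

/-- The star products with a character of height zero preserve scalar products. -/
theorem classInner_starMul_starMul_eq {φ φ' : P → ℂ} (hφ : IsClassFunction P φ)
    (hφ' : IsClassFunction P φ') :
    classInner (starMul p M P e φ (χ₀ : G → ℂ)) (starMul p M P e φ' (χ₀ : G → ℂ)) =
      classInner φ φ' := by
  rw [classInner_starMul_starMul hM hmax (isPairStable_class hM hmax hnil hφ)
    (isPairStable_class hM hmax hnil hφ') (irr_class χ₀) (irr_class χ₀),
    classInner_starMul_eq hM hmax hnil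
      (fun x u => by show conj (φ' _) * φ _ = _; rw [hφ x u, hφ' x u]) (irr_class χ₀) (irr_class χ₀)]
  simp only [nilWeight_eq_one hM hmax hnil hχ₀ h0, mul_one, classInner]
  congr 1
  exact Finset.sum_congr rfl fun y _ => mul_comm _ _

theorem exists_nilIrr (θ : IrrCharacter P) :
    ∃ ψ : IrrCharacter G, ψ ∈ B ∧ (ψ : G → ℂ) = starMul p M P e (θ : P → ℂ) (χ₀ : G → ℂ) := by
  refine exists_irr_of_norm_one hM hmax (CharCore.irr_isGeneralized θ)
    (isPairStable_class hM hmax hnil (irr_class θ)) ?_ hχ₀ ?_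
  · rw [irr_one_eq, Complex.natCast_re]
    exact_mod_cast BlocksCore.charDegree_pos θ
  · rw [classInner_starMul_starMul_eq hM hmax hnil hχ₀ h0 (irr_class θ) (irr_class θ),
      CharCore.classInner_irr_self]

/-- The characters of the block are the star products with one of height zero. -/
theorem exists_nilEquiv : ∃ Ψ : IrrCharacter P ≃ B,
    ∀ θ, (((Ψ θ : B) : IrrCharacter G) : G → ℂ) = starMul p M P e (θ : P → ℂ) (χ₀ : G → ℂ) := by
  choose ψ hψB hψ using exists_nilIrr hM hmax hnil hχ₀ h0
  refine ⟨Equiv.ofBijective (fun θ => ⟨ψ θ, hψB θ⟩) ⟨?_, ?_⟩, fun θ => hψ θ⟩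
  · intro θ θ' h
    by_contra hne
    have h' : ψ θ = ψ θ' := congrArg Subtype.val h
    have := classInner_starMul_starMul_eq hM hmax hnil hχ₀ h0 (irr_class θ) (irr_class θ')
    rw [← hψ θ, ← hψ θ', h', CharCore.classInner_irr_self,
      CharCore.classInner_irr_of_ne hne] at this
    exact one_ne_zero this
  · rintro ⟨χ, hχ⟩
    by_contra hno
    push Not at hno
    have horth : ∀ θ : IrrCharacter P,
        classInner (starMul p M P e (θ : P → ℂ) (χ₀ : G → ℂ)) (χ : G → ℂ) = 0 := by
      intro θ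
      rw [← hψ θ]
      exact CharCore.classInner_irr_of_ne fun h => hno θ (Subtype.ext h)
    set w := nilWeight hM hmax (χ₀ : G → ℂ) (χ : G → ℂ) with hw
    have hP0 : (Nat.card P : ℂ) ≠ 0 := Nat.cast_ne_zero.mpr Nat.card_pos.ne'
    have h1 : ∀ θ : IrrCharacter P, ∑ y : P, (θ : P → ℂ) y * w y = 0 := by
      intro θ
      have := horth θ
      rw [classInner_starMul_eq hM hmax hnil (irr_class θ) (irr_class χ₀) (irr_class χ)] at this
      exact (mul_eq_zero.mp this).resolve_left (inv_ne_zero hP0)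
    have hw1 : w 1 = 0 := by
      have h2 : ∑ y : P, (∑ θ : IrrCharacter P, (θ : P → ℂ) 1 * (θ : P → ℂ) y) * w y = 0 := by
        simp only [Finset.sum_mul, mul_assoc]
        rw [Finset.sum_comm]
        refine Finset.sum_eq_zero fun θ _ => ?_
        rw [← Finset.mul_sum, h1, mul_zero]
      simp only [CharCore.sum_degree_mul_apply, ite_mul, zero_mul, Finset.sum_ite_eq',
        Finset.mem_univ, if_true] at h2
      exact (mul_eq_zero.mp h2).resolve_left hP0
    have hc : contribAt p (atBelow hM hmax (1 : P)) ((1 : P) : G) (χ₀ : G → ℂ) (χ : G → ℂ) = 0 := by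
      refine (mul_eq_zero.mp hw1).resolve_left (div_ne_zero ?_ ?_) <;>
        exact Nat.cast_ne_zero.mpr Nat.card_pos.ne'
    have hp1 : ∀ s : G, ¬ p ∣ orderOf s →
        proj (atBelow hM hmax (1 : P)) ((1 : P) : G) (χ₀ : G → ℂ) s = (χ₀ : G → ℂ) s := by
      intro s hs
      have hsum := sum_proj (M := M) hM ((1 : P) : G) (χ₀ : G → ℂ) s
      rw [Finset.sum_eq_single (atBelow hM hmax (1 : P))] at hsum
      · rw [hsum]; simp
      · intro a ha hne
        by_cases hB : IsBrauerPairOf p M B a.1 a.2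
        · exfalso
          apply hne
          have ha1 := (mem_pairsAt.mp ha).1
          obtain ⟨t, ht, -⟩ := exists_conj_mem hM hmax ha1 hB
          rw [conjPair_fixed_of_centralizer ha1 (Subgroup.mem_centralizer_singleton_iff.mpr (by simp))]
            at ht
          exact below_ext hM hmax ht (atBelow_le hM hmax _) ha1
        · exact proj_eq_zero_of_not_pairOf hM hmax.1.2.1 hχ₀ ⟨0, by simp⟩ ha hB
            (s := ⟨s, Subgroup.mem_centralizer_singleton_iff.mpr (by simp)⟩)
            (by rwa [← Subgroup.orderOf_coe])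
      · exact fun h => absurd (atBelow_mem hM hmax 1) h
    have hu : ¬ MemLocalIdeal M (regPair p (χ : G → ℂ) χ₀) :=
      (regPair_unit_iff hM hmax.1.2.1 hχ hχ₀).mpr h0
    apply hu
    have hz : regPair p (χ : G → ℂ) χ₀ = 0 := by
      rw [regPair, omega_eq_sum, div_eq_zero_iff]
      refine Or.inl ?_
      rw [show ∑ g : G, regInv p (χ₀ : G → ℂ) g * (χ : G → ℂ) g =
        conj (contribAt p (atBelow hM hmax (1 : P)) ((1 : P) : G) (χ₀ : G → ℂ) (χ : G → ℂ)) from ?_,
        hc, map_zero]
      rw [contribAt, map_sum]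
      refine Finset.sum_congr rfl fun g _ => ?_
      by_cases hg : p ∣ orderOf g
      · rw [regInv, if_pos hg, zero_mul, if_neg fun h => h.2 hg, map_zero]
      · rw [regInv, if_neg hg, if_pos ⟨Subgroup.mem_centralizer_singleton_iff.mpr (by simp), hg⟩,
          hp1 g hg, map_mul, Complex.conj_conj, BlocksCore.conj_irr, Subgroup.coe_one, one_mul]
    rw [hz]
    exact memLocalIdeal_zero

theorem starMul_pRegularPart (θ : IrrCharacter P) (x : G) :
    pRegularPart p (starMul p M P e (θ : P → ℂ) (χ₀ : G → ℂ)) x =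
      (charDegree (θ : P → ℂ) : ℂ) * pRegularPart p (χ₀ : G → ℂ) x := by
  by_cases hx : p ∣ orderOf x
  · rw [BC85.pRegularPart_neg hx, BC85.pRegularPart_neg hx, mul_zero]
  · rw [BC85.pRegularPart_pos hx, BC85.pRegularPart_pos hx,
      starMul_regular hM hmax (isPairStable_class hM hmax hnil (irr_class θ)) hχ₀ hx, irr_one_eq]

end Cfsg.Agent.BC85.Star
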