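import Cfsg.Agent.BC85.Star.Stable
import Cfsg.Agent.Lib.CharCore.SubsectionRows
import Cfsg.Agent.Lib.CharCore.Linear
import Cfsg.Agent.S4428
import Mathlib.GroupTheory.FiniteAbelian.Duality
import Mathlib.RingTheory.RootsOfUnity.AlgebraicallyClosed

/-!
# The characters of the focal quotient act on the characters of a block by height

The linear characters of the defect group that are trivial on the focal subgroup act on the
characters of each height; the stabilizers are trivial at height zero and are trivial on the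
centre of the defect group in general.
-/

namespace Cfsg.Agent.BC85.Star

open BlocksCore BlocksDefect
open scoped Classical ComplexConjugate

universe u

theorem index_dvd_card_of_stabilizer_le {Λ X : Type*} [Group Λ] [MulAction Λ X] [Finite X]
    [Finite Λ] (K : Subgroup Λ) (h : ∀ x : X, MulAction.stabilizer Λ x ≤ K) :
    K.index ∣ Nat.card X := by
  have := Fintype.ofFinite (MulAction.orbitRel.Quotient Λ X)
  rw [Nat.card_congr (MulAction.selfEquivSigmaOrbits Λ X), Nat.card_sigma]
  refine Finset.dvd_sum fun ω _ => ?_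
  have h1 := Subgroup.index_dvd_of_le (h ω.out)
  rw [MulAction.index_stabilizer, ← Nat.card_coe_set_eq] at h1
  exact h1

variable {G : Type u} [Group G] [Fintype G] {p : ℕ} [Fact p.Prime] {M : Ideal AlgInt}
  [hP : M.IsPrime] {B : Set (IrrCharacter G)} {P : Subgroup G}
  {e : Set (IrrCharacter (Subgroup.centralizer (P : Set G)))}
  (hM : IsPModular p M) (hmax : IsMaximalBrauerPair p M B P e)
include hM hmax

/-- A linear character, stable along the fusion, carries the block to itself height by height. -/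
theorem exists_twist (l : P →* ℂˣ) (hl : IsPairStable p M P e fun x => (l x : ℂ))
    {χ : IrrCharacter G} (hχ : χ ∈ B) :
    ∃ ψ : IrrCharacter G, ψ ∈ B ∧
      (ψ : G → ℂ) = starMul p M P e (fun x => (l x : ℂ)) (χ : G → ℂ) ∧
      blockHeight p B (ψ : G → ℂ) = blockHeight p B (χ : G → ℂ) := by
  have hg : IsGeneralizedCharacter P (fun x => (l x : ℂ)) :=
    CharCore.IsCharacter.isGeneralized
      (CharCore.IsIrrCharacter.isCharacter (CharCore.isIrrCharacter_hom l))
  have hn : classInner (starMul p M P e (fun x => (l x : ℂ)) (χ : G → ℂ))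
      (starMul p M P e (fun x => (l x : ℂ)) (χ : G → ℂ)) = 1 := by
    rw [classInner_starMul_starMul hM hmax hl hl (irr_class χ) (irr_class χ),
      show (fun x : P => conj (l x : ℂ) * (l x : ℂ)) = fun _ => 1 from funext fun x => by
        rw [mul_comm, Complex.mul_conj, Complex.normSq_eq_norm_sq, CharCore.norm_hom_apply]
        simp,
      starMul_one hM hmax hχ]
    exact CharCore.classInner_irr_self χ
  obtain ⟨ψ, hψ, hψe⟩ := exists_irr_of_norm_one hM hmax hg hl
    (by simp [map_one]) hχ hn
  refine ⟨ψ, hψ, hψe, ?_⟩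
  have hdeg : charDegree (ψ : G → ℂ) = charDegree (χ : G → ℂ) := by
    have h := congrFun hψe 1
    rw [starMul_regular hM hmax hl hχ (by simpa using (Fact.out : p.Prime).ne_one),
      show ((l (1 : P) : ℂˣ) : ℂ) = 1 by simp, one_mul, irr_one_eq, irr_one_eq] at h
    exact_mod_cast h
  unfold blockHeight
  rw [hdeg]

/-- A character fixed by a twist has the value one where the projection does not vanish. -/
theorem twist_fixed_apply {l : P →* ℂˣ} (hl : IsPairStable p M P e fun x => (l x : ℂ))
    {χ : IrrCharacter G}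
    (hfix : starMul p M P e (fun x => (l x : ℂ)) (χ : G → ℂ) = χ) (v : P)
    {f : Set (IrrCharacter (Subgroup.centralizer
      ((Subgroup.zpowers (v : G) : Subgroup G) : Set G)))}
    (hf : SubpairLE p M (Subgroup.zpowers (v : G)) f P e)
    {s : G} (hsv : s ∈ Subgroup.centralizer ({(v : G)} : Set G)) (hs : ¬ p ∣ orderOf s)
    (hne : proj (⟨Subgroup.zpowers (v : G), f⟩ : BrauerPairIdx G) v (χ : G → ℂ) s ≠ 0) :
    l v = 1 := by
  have hord := orderOf_pow_of_mem hmax.1.1.1 v.2
  have hfb : (⟨Subgroup.zpowers (v : G), f⟩ : BrauerPairIdx G) ∈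
      pairsAt M (Subgroup.zpowers (v : G)) :=
    mk_mem_pairsAt (subpairLE_isBrauerPair hf hmax.1.1).2
  have h := proj_starMul hM hmax hl (irr_class χ) hord hfb hsv hs
  rw [hfix, etaOf_eq hl rfl (x := 1) (by rw [conjPair_one]; exact hf) (by simp)] at h
  have h1 : ((l ⟨1 * (v : G) * 1⁻¹, by simp⟩ : ℂˣ) : ℂ) = 1 :=
    (mul_eq_right₀ hne).mp h.symm
  rw [show (⟨1 * (v : G) * 1⁻¹, by simp⟩ : P) = v from Subtype.ext (by simp)] at h1
  exact Units.val_eq_one.mp h1

/-- The twists act on the characters of a given height. -/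
theorem index_dvd_card_height {F : FusionSystem P} (hF : IsBlockFusionSystemOn p M B P e F)
    (h : ℕ) (S : Set P)
    (hS : ∀ χ : IrrCharacter G, χ ∈ B → blockHeight p B (χ : G → ℂ) = h → ∀ v ∈ S,
      ∀ f : Set (IrrCharacter (Subgroup.centralizer
        ((Subgroup.zpowers (v : G) : Subgroup G) : Set G))),
        SubpairLE p M (Subgroup.zpowers (v : G)) f P e →
          ∃ s ∈ Subgroup.centralizer ({(v : G)} : Set G), ¬ p ∣ orderOf s ∧
            proj (⟨Subgroup.zpowers (v : G), f⟩ : BrauerPairIdx G) v (χ : G → ℂ) s ≠ 0)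
    (Z : Subgroup G) (hZ : Z ≤ P) (hZS : ∀ v : P, (v : G) ∈ Z → v ∈ S) :
    ((Z ⊓ F.focalSubgroup).subgroupOf Z).index ∣
      Nat.card {χ : IrrCharacter G // χ ∈ B ∧ blockHeight p B (χ : G → ℂ) = h} := by
  set N := F.focalSubgroup.subgroupOf P with hN
  have hNn : N.Normal := ⟨fun x hx g => by
    have h1 := N.mul_mem hx (commutator_mem_focal F g x)
    rwa [mul_inv_cancel_left] at h1⟩
  let _ : CommGroup (P ⧸ N) :=
    { (inferInstance : Group (P ⧸ N)) with
      mul_comm := by
        intro a b
        induction a using QuotientGroup.induction_on with | _ a =>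
        induction b using QuotientGroup.induction_on with | _ b =>
        rw [← QuotientGroup.mk_mul, ← QuotientGroup.mk_mul, QuotientGroup.eq]
        have h1 := commutator_mem_focal F b⁻¹ a
        rw [show (a * b)⁻¹ * (b * a) = b⁻¹ * (a⁻¹ * (b * a * b⁻¹)) * b by group]
        have h2 := hNn.conj_mem _ (commutator_mem_focal F b a) b⁻¹
        simpa [mul_assoc] using h2 }
  let lin : ((P ⧸ N) →* ℂˣ) → (P →* ℂˣ) := fun L => L.comp (QuotientGroup.mk' N)
  have hlin : ∀ L, IsPairStable p M P e fun x => (lin L x : ℂ) := fun L =>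
    isPairStable_of_focal hM hF (lin L) fun x hx => by
      show L (QuotientGroup.mk x) = 1
      rw [(QuotientGroup.eq_one_iff x).mpr hx, map_one]
  let X := {χ : IrrCharacter G // χ ∈ B ∧ blockHeight p B (χ : G → ℂ) = h}
  have : Finite (IrrCharacter G) := finite_irr
  have : Finite ((P ⧸ N) →* ℂˣ) := Nat.finite_of_card_ne_zero (by
    rw [CommGroup.card_monoidHom_of_hasEnoughRootsOfUnity]; exact Nat.card_pos.ne')
  have hact : ∀ (L : (P ⧸ N) →* ℂˣ) (x : X), ∃ y : X, (y.1 : G → ℂ) =
      starMul p M P e (fun z => (lin L z : ℂ)) (x.1 : G → ℂ) := fun L x => by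
    obtain ⟨ψ, hψ, hψe, hh⟩ := exists_twist hM hmax (lin L) (hlin L) x.2.1
    exact ⟨⟨ψ, hψ, hh.trans x.2.2⟩, hψe⟩
  choose act hact using hact
  let _ : MulAction ((P ⧸ N) →* ℂˣ) X :=
    { smul := act
      one_smul := fun x => Subtype.ext (Subtype.ext (by
        refine (hact 1 x).trans ?_
        simp only [lin, MonoidHom.one_comp, MonoidHom.one_apply, Units.val_one]
        exact starMul_one hM hmax x.2.1))
      mul_smul := fun L L' x => Subtype.ext (Subtype.ext (by
        refine (hact (L * L') x).trans ?_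
        show _ = ((act L (act L' x)).1 : G → ℂ)
        rw [hact L (act L' x), hact L' x, starMul_starMul hM hmax (hlin L) (hlin L') (irr_class _)]
        congr 1)) }
  let f : Z →* P ⧸ N := (QuotientGroup.mk' N).comp (Subgroup.inclusion hZ)
  have hker : f.ker = (Z ⊓ F.focalSubgroup).subgroupOf Z := by
    ext z
    rw [MonoidHom.mem_ker, Subgroup.mem_subgroupOf, Subgroup.mem_inf, and_iff_right z.2]
    exact QuotientGroup.eq_one_iff (Subgroup.inclusion hZ z)
  set K := (MonoidHom.domRestrictHom f.range ℂˣ : ((P ⧸ N) →* ℂˣ) →* _).ker with hK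
  have hKidx : K.index = ((Z ⊓ F.focalSubgroup).subgroupOf Z).index := by
    rw [hK, Subgroup.index_ker, MonoidHom.range_eq_top.mpr
      (MonoidHom.domRestrict_surjective (M := ℂ) f.range), Subgroup.card_top,
      CommGroup.card_monoidHom_of_hasEnoughRootsOfUnity, ← hker, Subgroup.index_ker]
  rw [← hKidx]
  refine index_dvd_card_of_stabilizer_le (X := X) K fun x L hL => ?_
  have hfix : starMul p M P e (fun z => (lin L z : ℂ)) (x.1 : G → ℂ) = x.1 := by
    rw [← hact L x]
    exact congrArg (fun y : X => (y.1 : G → ℂ)) hL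
  rw [hK, MonoidHom.mem_ker]
  refine MonoidHom.ext fun z => ?_
  obtain ⟨_, z, rfl⟩ := z
  obtain ⟨f', hf'⟩ := exists_below hM hmax.1.1
    (Subgroup.zpowers_le.mpr (Subgroup.inclusion hZ z).2)
  obtain ⟨s, hsv, hs, hne⟩ :=
    hS x.1 x.2.1 x.2.2 (Subgroup.inclusion hZ z) (hZS _ z.2) f' hf'
  exact twist_fixed_apply hM hmax (hlin L) hfix (Subgroup.inclusion hZ z) hf' hsv hs hne

/-- A character of height zero has a nonzero projection at every pair of the block. -/
theorem exists_proj_ne_zero_of_height_zero {χ : IrrCharacter G} (hχ : χ ∈ B)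
    (h0 : blockHeight p B (χ : G → ℂ) = 0) (v : P)
    {f : Set (IrrCharacter (Subgroup.centralizer
      ((Subgroup.zpowers (v : G) : Subgroup G) : Set G)))}
    (hf : SubpairLE p M (Subgroup.zpowers (v : G)) f P e) :
    ∃ s ∈ Subgroup.centralizer ({(v : G)} : Set G), ¬ p ∣ orderOf s ∧
      proj (⟨Subgroup.zpowers (v : G), f⟩ : BrauerPairIdx G) v (χ : G → ℂ) s ≠ 0 := by
  have hord := orderOf_pow_of_mem hmax.1.1.1 v.2
  have ha : (⟨Subgroup.zpowers (v : G), f⟩ : BrauerPairIdx G) ∈
      pairsAt M (Subgroup.zpowers (v : G)) :=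
    mk_mem_pairsAt (subpairLE_isBrauerPair hf hmax.1.1).2
  obtain ⟨b, -, hcoe, hiff⟩ := exists_block_induced hM hord ha
  obtain ⟨y, hy, hne⟩ := S4428.result p M hM B hmax.1.2.1 χ hχ h0 v hord b
    ((hiff B).mp ((subpairLE_pairOf_iff hM hf B).mp hmax.1))
  refine ⟨y, y.2, by rwa [Subgroup.orderOf_coe], ?_⟩
  rwa [proj_eq_blockPart (irr_class χ) hcoe]

/-- At a central element of the defect group every character has a nonzero projection. -/
theorem exists_proj_ne_zero_of_central {χ : IrrCharacter G} (hχ : χ ∈ B) (v : P)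
    (hvC : (v : G) ∈ Subgroup.centralizer (P : Set G))
    {f : Set (IrrCharacter (Subgroup.centralizer
      ((Subgroup.zpowers (v : G) : Subgroup G) : Set G)))}
    (hf : SubpairLE p M (Subgroup.zpowers (v : G)) f P e) :
    ∃ s ∈ Subgroup.centralizer ({(v : G)} : Set G), ¬ p ∣ orderOf s ∧
      proj (⟨Subgroup.zpowers (v : G), f⟩ : BrauerPairIdx G) v (χ : G → ℂ) s ≠ 0 := by
  have hord := orderOf_pow_of_mem hmax.1.1.1 v.2
  have hfp := subpairLE_isBrauerPair hf hmax.1.1
  have ha : (⟨Subgroup.zpowers (v : G), f⟩ : BrauerPairIdx G) ∈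
      pairsAt M (Subgroup.zpowers (v : G)) := mk_mem_pairsAt hfp.2
  obtain ⟨b, hb, hcoe, hiff⟩ := exists_block_induced hM hord ha
  have hind := (hiff B).mp ((subpairLE_pairOf_iff hM hf B).mp hmax.1)
  have hcomm : ∀ x ∈ P, x * (v : G) = v * x := fun x hx =>
    Subgroup.mem_centralizer_iff.mp hvC x hx
  have hPH : P ≤ (Subgroup.centralizer ({(v : G)} : Set G)) := fun x hx => Subgroup.mem_centralizer_singleton_iff.mpr (hcomm x hx)
  have hCH : Subgroup.centralizer (P : Set G) ≤ (Subgroup.centralizer ({(v : G)} : Set G)) := fun c hc =>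
    Subgroup.mem_centralizer_singleton_iff.mpr (Subgroup.mem_centralizer_iff.mp hc v v.2).symm
  have hPN : P ≤ Subgroup.normalizer ((Subgroup.zpowers (v : G) : Subgroup G) : Set G) := by
    refine hPH.trans ?_
    rw [← centralizer_zpowers]
    exact Subgroup.centralizer_le_normalizer _
  obtain ⟨-, -, hQP, -, hinv, hsub⟩ :=
    (isNormalSubpair_iff hM).mp (normalSubpair_of_below hM hmax.1.1 hf hPN)
  rw [← hcoe] at hsub
  obtain ⟨c, hc, hcu⟩ := exists_unit_of_subset_cset hM
    (isBrFun_subgroupBlockCoeff hM (isBlockUnion_isPBlock hb) hPH hCH)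
    (isPBlock_nonempty hmax.1.1.2) hsub
  obtain ⟨D, hD⟩ := exists_isDefectGroup hM hb
  have hsc : SubConj (P.subgroupOf (Subgroup.centralizer ({(v : G)} : Set G))) D :=
    subConj_defectGroup_of_coeff hM hb hD (isPGroup_subgroupOf hmax.1.1.1 (Subgroup.centralizer ({(v : G)} : Set G)))
      (h := ⟨c, hCH hc⟩) ((mem_centralizer_subgroupOf hPH _).mpr hc)
      (by rwa [← subgroupBlockCoeff_coe])
  obtain ⟨E, hE, hDE⟩ := exists_defectGroup_ge hM hind hD
  have hPdef := isDefectGroup_of_maximal hM hmax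
  have h1 := Nat.le_of_dvd Nat.card_pos hsc.card_dvd
  rw [Nat.card_congr (Subgroup.subgroupOfEquivOfLe hPH).toEquiv] at h1
  have h2 := Subgroup.card_le_of_le hDE
  rw [← Nat.card_congr (D.equivMapOfInjective _ (Subgroup.centralizer ({(v : G)} : Set G)).subtype_injective).toEquiv] at h2
  have hEP : Nat.card E = Nat.card P := by
    rw [defectGroup_natCard hM hmax.1.2.1 hE, defectGroup_natCard hM hmax.1.2.1 hPdef]
  have hd : blockDefect p b = blockDefect p B := by
    apply Nat.pow_right_injective (Fact.out : p.Prime).two_le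
    show p ^ blockDefect p b = p ^ blockDefect p B
    rw [← defectGroup_natCard hM hb hD, ← defectGroup_natCard hM hmax.1.2.1 hPdef]
    omega
  obtain ⟨j, hj⟩ := hord
  obtain ⟨θ₀, hθ₀, h00⟩ := exists_height_zero hM hmax.1.2.1
  have hne := (CharCore.SubContrib.major_ne_zero b hM ⟨j, hj⟩
    (CharCore.SubContrib.pow_eq_one_of_le (k := j) hj (Nat.le_succ j)) hind hd hθ₀ h00 hχ).2
  by_contra hno
  push Not at hno
  apply hne
  have hcoord : ∀ θ, CharCore.SubContrib.coord p b χ θ = 0 := fun θ => by
    rw [CharCore.SubContrib.coord_eq_classInner]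
    rw [show pRegularPart p (CharCore.SubContrib.part b χ) = 0 from funext fun y => by
      by_cases hy : p ∣ orderOf y
      · exact BC85.pRegularPart_neg hy
      · rw [BC85.pRegularPart_pos hy, CharCore.SubContrib.part,
          ← proj_eq_blockPart (irr_class χ) hcoe]
        exact hno y y.2 (by rwa [Subgroup.orderOf_coe])]
    exact CharCore.classInner_zero_left _
  simp only [CharCore.SubContrib.contrib, CharCore.SubContrib.sub, hcoord, zero_mul,
    Finset.sum_const_zero, mul_zero]

end Cfsg.Agent.BC85.Star
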