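import Cfsg.Agent.BC85.Star.Stable
import Cfsg.Agent.BC85.Pairs.NilpotentFusion
import Cfsg.Agent.BC85.Pairs.Saturation
import Cfsg.Agent.BC85.Star.Focal
import Cfsg.Agent.Lib.CharClifford.Galois
import Cfsg.Agent.Lib.CharCore.Complete
import Cfsg.Prelude.Def_BlockRank
import Mathlib.Analysis.SpecialFunctions.Log.Basic

/-!
# Nilpotent blocks

In a nilpotent block the star products with one character of height zero give all the characters.
The scalar product on the block turns into a weighted scalar product on the defect group, and a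
Galois argument shows that the weight is one.
-/

set_option linter.unusedSectionVars false
set_option linter.style.longLine false

namespace Cfsg.Agent.BC85.Star

open BlocksCore BlocksDefect
open scoped Classical ComplexConjugate

universe u

variable {G : Type u} [Group G] [Fintype G] {p : ℕ} [Fact p.Prime] {M : Ideal AlgInt}
  [hP : M.IsPrime]

variable (p) in
/-- The contribution of a pair to the scalar product. -/
noncomputable def contribAt (a : BrauerPairIdx G) (v : G) (F F' : G → ℂ) : ℂ :=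
  ∑ s : G, if s ∈ Subgroup.centralizer ({v} : Set G) ∧ ¬ p ∣ orderOf s then
    proj a v F s * conj (F' (v * s)) else 0

theorem proj_conjPair {F : G → ℂ} (hF : IsClassFunction G F) (a : BrauerPairIdx G) (t v s : G) :
    proj (conjPair t a) (t * v * t⁻¹) F (t * s * t⁻¹) = proj a v F s := by
  refine (Fintype.sum_equiv (MulAut.conj t).toEquiv _ _ fun c => ?_).symm
  simp only [MulEquiv.toEquiv_eq_coe, EquivLike.coe_coe, MulAut.conj_apply]
  rw [bp_conjPair, show t⁻¹ * (t * c * t⁻¹) * t = c by group,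
    show t * v * t⁻¹ * (t * c * t⁻¹) * (t * s * t⁻¹) = t * (v * c * s) * t⁻¹ by group, hF]

theorem contribAt_conjPair {F F' : G → ℂ} (hF : IsClassFunction G F) (hF' : IsClassFunction G F')
    (a : BrauerPairIdx G) (t v : G) :
    contribAt p (conjPair t a) (t * v * t⁻¹) F F' = contribAt p a v F F' := by
  refine (Fintype.sum_equiv (MulAut.conj t).toEquiv _ _ fun s => ?_).symm
  simp only [MulEquiv.toEquiv_eq_coe, EquivLike.coe_coe, MulAut.conj_apply]
  have ho : orderOf (t * s * t⁻¹) = orderOf s := orderOf_conjugate s t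
  have hc : t * s * t⁻¹ ∈ Subgroup.centralizer ({t * v * t⁻¹} : Set G) ↔
      s ∈ Subgroup.centralizer ({v} : Set G) := by
    rw [Subgroup.mem_centralizer_singleton_iff, Subgroup.mem_centralizer_singleton_iff,
      show t * s * t⁻¹ * (t * v * t⁻¹) = t * (s * v) * t⁻¹ by group,
      show t * v * t⁻¹ * (t * s * t⁻¹) = t * (v * s) * t⁻¹ by group]
    exact ⟨fun h => mul_left_cancel (mul_right_cancel h), fun h => by rw [h]⟩
  simp only [ho, hc]
  refine if_congr Iff.rfl ?_ rfl
  rw [proj_conjPair hF, show t * v * t⁻¹ * (t * s * t⁻¹) = t * (v * s) * t⁻¹ by group, hF']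

theorem conjPair_fixed_of_centralizer {a : BrauerPairIdx G} {v c : G}
    (ha : a.1 = Subgroup.zpowers v) (hc : c ∈ Subgroup.centralizer ({v} : Set G)) :
    conjPair c a = a := by
  obtain ⟨Q, f⟩ := a
  dsimp only at ha
  subst ha
  have hc' : c ∈ Subgroup.centralizer ((Subgroup.zpowers v : Subgroup G) : Set G) := by
    rwa [centralizer_zpowers]
  refine pair_ext (map_conj_of_mem_normalizer (Subgroup.centralizer_le_normalizer _ hc'))
    (funext fun g => ?_)
  rw [bp_conjPair]
  have := subgroupBlockCoeff_conj_of_mem f (inv_mem hc') g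
  rwa [inv_inv] at this

variable (hM : IsPModular p M)
include hM

theorem classInner_starFun_eq (η : BrauerPairIdx G → G → ℂ) (F F' : G → ℂ) :
    classInner (starFun p M η F) F' = (Nat.card G : ℂ)⁻¹ *
      ∑ v ∈ Finset.univ.filter (fun v : G => ∃ n : ℕ, orderOf v = p ^ n),
        ∑ a ∈ pairsAt M (Subgroup.zpowers v), η a v * contribAt p a v F F' := by
  simp only [classInner]
  congr 1
  rw [← Finset.sum_fiberwise_of_maps_to
    (t := Finset.univ.filter (fun v : G => ∃ n : ℕ, orderOf v = p ^ n)) (g := pp p (G := G))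
    (fun g _ => Finset.mem_filter.mpr ⟨Finset.mem_univ _,
      (pp_spec (p := p) g).choose_spec.2.2.1⟩)]
  refine Finset.sum_congr rfl fun v hv => ?_
  have hv := (Finset.mem_filter.mp hv).2
  simp only [contribAt, Finset.mul_sum]
  rw [Finset.sum_comm]
  simp only [mul_ite, mul_zero, ← mul_assoc]
  rw [show (∑ s : G, ∑ a ∈ pairsAt M (Subgroup.zpowers v),
      if s ∈ Subgroup.centralizer ({v} : Set G) ∧ ¬ p ∣ orderOf s then
        η a v * proj a v F s * conj (F' (v * s)) else 0) =
      ∑ s ∈ Finset.univ.filter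
        (fun s : G => s ∈ Subgroup.centralizer ({v} : Set G) ∧ ¬ p ∣ orderOf s),
        starFun p M η F (v * s) * conj (F' (v * s)) from ?_]
  · refine Finset.sum_bij' (fun g _ => v⁻¹ * g) (fun s _ => v * s) (fun g hg => ?_) (fun s hs => ?_)
      (fun g _ => by group) (fun s _ => by group) (fun g _ => by rw [mul_inv_cancel_left])
    · obtain ⟨hc, hr⟩ := regular_inv_pp_mul (p := p) g
      rw [(Finset.mem_filter.mp hg).2] at hc hr
      exact Finset.mem_filter.mpr ⟨Finset.mem_univ _,
        Subgroup.mem_centralizer_singleton_iff.mpr hc.eq.symm, hr⟩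
    · obtain ⟨-, hs1, hs2⟩ := Finset.mem_filter.mp hs
      exact Finset.mem_filter.mpr ⟨Finset.mem_univ _,
        pp_mul hv hs2 (Subgroup.mem_centralizer_singleton_iff.mp hs1).symm⟩
  · rw [Finset.sum_filter]
    refine Finset.sum_congr rfl fun s _ => ?_
    split_ifs with hs
    · rw [starFun_apply η F hv hs.1 hs.2, Finset.sum_mul]
    · exact Finset.sum_const_zero

variable {B : Set (IrrCharacter G)} {P : Subgroup G}
  {e : Set (IrrCharacter (Subgroup.centralizer (P : Set G)))}
  (hmax : IsMaximalBrauerPair p M B P e)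
include hmax

/-- The pair at a cyclic subgroup of `P` below the maximal pair. -/
noncomputable def atBelow (x : P) : BrauerPairIdx G :=
  ⟨Subgroup.zpowers (x : G),
    (exists_below hM hmax.1.1 (Subgroup.zpowers_le.mpr x.2 : Subgroup.zpowers (x : G) ≤ P)).choose⟩

theorem atBelow_le (x : P) :
    Relation.ReflTransGen (NormalSubpairRel p M) (atBelow hM hmax x) ⟨P, e⟩ :=
  (exists_below hM hmax.1.1 (Subgroup.zpowers_le.mpr x.2 : Subgroup.zpowers (x : G) ≤ P)).choose_spec

theorem below_ext {a b : BrauerPairIdx G}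
    (ha : Relation.ReflTransGen (NormalSubpairRel p M) a ⟨P, e⟩)
    (hb : Relation.ReflTransGen (NormalSubpairRel p M) b ⟨P, e⟩) (h : a.1 = b.1) : a = b := by
  obtain ⟨Q, f⟩ := a
  obtain ⟨R, f'⟩ := b
  dsimp only at h
  subst h
  rw [below_unique hM hmax.1.1 ha hb]

theorem conj_atBelow (x u : P) :
    conjPair (u : G) (atBelow hM hmax x) = atBelow hM hmax (u * x * u⁻¹) := by
  refine below_ext hM hmax ?_ (atBelow_le hM hmax _) ?_
  · have h := subpairLE_conj hM (a := atBelow hM hmax x) (b := ⟨P, e⟩) (atBelow_le hM hmax x) (u : G)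
    rwa [conjPair_fixed_of_mem e u.2] at h
  · rw [conjPair_fst]
    exact map_conj_zpowers _ _

theorem atBelow_pairOf (x : P) :
    IsBrauerPairOf p M B (atBelow hM hmax x).1 (atBelow hM hmax x).2 :=
  (subpairLE_pairOf_iff hM (atBelow_le hM hmax x) B).mp hmax.1

theorem atBelow_mem (x : P) : atBelow hM hmax x ∈ pairsAt M (Subgroup.zpowers (x : G)) :=
  mk_mem_pairsAt (subpairLE_isBrauerPair (atBelow_le hM hmax x) hmax.1.1).2

variable (hnil : IsNilpotentBlock p M B)
include hnil

/-- Fusion below the maximal pair of a nilpotent block is inner. -/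
theorem exists_inner_conj (v w : P) (g : G) (a : BrauerPairIdx G)
    (ha : a.1 = Subgroup.zpowers (v : G))
    (h : Relation.ReflTransGen (NormalSubpairRel p M) a ⟨P, e⟩)
    (h' : Relation.ReflTransGen (NormalSubpairRel p M) (conjPair g a) ⟨P, e⟩)
    (he : g * v * g⁻¹ = w) : ∃ u : P, u * v * u⁻¹ = w := by
  have hF := isBlockFusionSystemOn_blockFusion hM hmax
  obtain ⟨Q, f⟩ := a
  dsimp only at ha
  subst ha
  set φ : Subgroup.zpowers (v : G) →* G :=
    (MulAut.conj g).toMonoidHom.comp (Subgroup.zpowers (v : G)).subtype with hφ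
  have hmem : φ ∈ (blockFusion hM hmax.1.1).Hom (Subgroup.zpowers (v : G)) := by
    rw [hF.2]
    exact ⟨Subgroup.zpowers_le.mpr v.2, g, fun u => rfl,
      subpairLE_le (Q := (conjPair g ⟨_, f⟩).1) (f := (conjPair g ⟨_, f⟩).2) h', f, h, h'⟩
  rw [(nilpotent_iff_inner hM hF).mp hnil] at hmem
  obtain ⟨-, u, hu, hφu⟩ := hmem
  refine ⟨⟨u, hu⟩, Subtype.ext ?_⟩
  rw [Subgroup.coe_mul, Subgroup.coe_mul, Subgroup.coe_inv, ← he]
  exact (hφu ⟨v, Subgroup.mem_zpowers _⟩).symm

theorem isPairStable_class {φ : P → ℂ} (hφ : IsClassFunction P φ) : IsPairStable p M P e φ := by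
  intro v w g a ha h h' he
  obtain ⟨u, rfl⟩ := exists_inner_conj hM hmax hnil v w g a ha h h' he
  exact (hφ v u).symm

/-- The weight at a point of the defect group. -/
noncomputable def nilWeight (F F' : G → ℂ) (x : P) : ℂ :=
  (Nat.card (Subgroup.centralizer ({x} : Set P)) : ℂ) /
    (Nat.card (Subgroup.centralizer ({(x : G)} : Set G)) : ℂ) *
      contribAt p (atBelow hM hmax x) (x : G) F F'

theorem natCard_centralizer_conj (x u : P) :
    Nat.card (Subgroup.centralizer ({u * x * u⁻¹} : Set P)) =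
      Nat.card (Subgroup.centralizer ({x} : Set P)) := by
  have h : IsConj x (u * x * u⁻¹) := isConj_iff.mpr ⟨u, rfl⟩
  have h1 := natCard_isConj x
  have h2 := natCard_isConj (u * x * u⁻¹)
  rw [Nat.card_congr (Equiv.subtypeEquivRight fun y =>
    ⟨fun hy => h.trans hy, fun hy => h.symm.trans hy⟩), h1] at h2
  have h3 := (Subgroup.centralizer ({x} : Set P)).card_mul_index
  rw [← (Subgroup.centralizer ({u * x * u⁻¹} : Set P)).card_mul_index, ← h2] at h3
  exact (Nat.eq_of_mul_eq_mul_right (Nat.pos_of_ne_zero Subgroup.FiniteIndex.index_ne_zero) h3).symm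

theorem nilWeight_conj {F F' : G → ℂ} (hF : IsClassFunction G F) (hF' : IsClassFunction G F')
    (x u : P) : nilWeight hM hmax F F' (u * x * u⁻¹) = nilWeight hM hmax F F' x := by
  rw [nilWeight, nilWeight, natCard_centralizer_conj hM hmax hnil, ← conj_atBelow hM hmax]
  push_cast
  rw [contribAt_conjPair hF hF']
  congr 3
  refine Nat.card_congr (Equiv.subtypeEquiv (MulAut.conj (u : G)⁻¹).toEquiv fun s => ?_)
  simp only [Subgroup.mem_centralizer_singleton_iff, MulEquiv.toEquiv_eq_coe, EquivLike.coe_coe,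
    MulAut.conj_apply, inv_inv]
  constructor
  · intro h
    calc (u : G)⁻¹ * s * u * x = (u : G)⁻¹ * (s * ((u : G) * x * (u : G)⁻¹)) * u := by group
      _ = _ := by rw [h]; group
  · intro h
    calc s * ((u : G) * x * (u : G)⁻¹) = (u : G) * ((u : G)⁻¹ * s * u * x) * (u : G)⁻¹ := by group
      _ = _ := by rw [h]; group

/-- The scalar product on the block as a weighted scalar product on `P`. -/
theorem classInner_starMul_eq {φ : P → ℂ} (hφ : IsClassFunction P φ) {F F' : G → ℂ}
    (hF : IsClassFunction G F) (hF' : IsClassFunction G F') :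
    classInner (starMul p M P e φ F) F' =
      (Nat.card P : ℂ)⁻¹ * ∑ x : P, φ x * nilWeight hM hmax F F' x := by
  set S : Finset (Σ _ : G, BrauerPairIdx G) :=
    (Finset.univ.filter (fun v : G => ∃ n : ℕ, orderOf v = p ^ n)).sigma fun v =>
      (pairsAt M (Subgroup.zpowers v)).filter fun a => IsBrauerPairOf p M B a.1 a.2 with hS
  set Φ : G × P → Σ _ : G, BrauerPairIdx G :=
    fun z => ⟨z.1 * z.2 * z.1⁻¹, conjPair z.1 (atBelow hM hmax z.2)⟩ with hΦ
  set c : P → ℂ := fun x => (Nat.card (Subgroup.centralizer ({x} : Set P)) : ℂ) /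
    ((Nat.card (Subgroup.centralizer ({(x : G)} : Set G)) : ℂ) * Nat.card P) with hc
  set f : (Σ _ : G, BrauerPairIdx G) → ℂ :=
    fun y => etaOf p M P e φ y.2 y.1 * contribAt p y.2 y.1 F F' with hf
  have hLHS : classInner (starMul p M P e φ F) F' = (Nat.card G : ℂ)⁻¹ * ∑ y ∈ S, f y := by
    rw [starMul, classInner_starFun_eq hM, hS, Finset.sum_sigma]
    congr 1
    refine Finset.sum_congr rfl fun v _ => (Finset.sum_subset (Finset.filter_subset _ _) ?_).symm
    intro a ha hna
    show etaOf p M P e φ a v * _ = 0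
    rw [etaOf_eq_zero hM hmax fun hB => hna (Finset.mem_filter.mpr ⟨ha, hB⟩), zero_mul]
  have hmaps : ∀ z ∈ (Finset.univ : Finset (G × P)), Φ z ∈ S := by
    rintro ⟨g, x⟩ -
    have hB := pairOf_conj hM (atBelow_pairOf hM hmax x) g
    obtain ⟨n, hn⟩ := orderOf_pow_of_mem hmax.1.1.1 x.2
    refine Finset.mem_sigma.mpr ⟨Finset.mem_filter.mpr ⟨Finset.mem_univ _, n, ?_⟩,
      Finset.mem_filter.mpr ⟨mem_pairsAt.mpr ⟨?_, hB.1.2⟩, hB⟩⟩
    · show orderOf (g * (x : G) * g⁻¹) = _
      rw [orderOf_conjugate, hn]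
    · show (conjPair g (atBelow hM hmax x)).1 = Subgroup.zpowers (g * (x : G) * g⁻¹)
      rw [conjPair_fst]
      exact map_conj_zpowers _ _
  have hval : ∀ (g : G) (x : P), f (Φ (g, x)) =
      φ x * contribAt p (atBelow hM hmax x) (x : G) F F' := by
    intro g x
    show etaOf p M P e φ (conjPair g (atBelow hM hmax x)) (g * x * g⁻¹) *
      contribAt p (conjPair g (atBelow hM hmax x)) (g * x * g⁻¹) F F' = _
    rw [etaOf_conj hM hmax (isPairStable_class hM hmax hnil hφ) _ g (x : G)
      (atBelow_mem hM hmax x), contribAt_conjPair hF hF',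
      etaOf_eq (isPairStable_class hM hmax hnil hφ) rfl (x := 1)
        (by rw [conjPair_one]; exact atBelow_le hM hmax x) (by simp)]
    congr 2
    exact Subtype.ext (by simp)
  have hfib : ∀ y ∈ S, ∑ z ∈ Finset.univ.filter (fun z => Φ z = y), c z.2 = 1 := by
    rintro ⟨v, a⟩ hy
    obtain ⟨-, hy⟩ := Finset.mem_sigma.mp hy
    obtain ⟨ha, hB⟩ := Finset.mem_filter.mp hy
    dsimp only at ha hB
    have ha1 := (mem_pairsAt.mp ha).1
    obtain ⟨t, ht, htv⟩ := exists_conj_mem hM hmax ha1 hB
    set x₀ : P := ⟨t * v * t⁻¹, htv⟩ with hx₀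
    have h₀ : conjPair t a = atBelow hM hmax x₀ := below_ext hM hmax ht (atBelow_le hM hmax _)
      (by rw [conjPair_fst, ha1]; exact map_conj_zpowers _ _)
    have ha0 : a = conjPair t⁻¹ (atBelow hM hmax x₀) := by
      rw [← h₀, conjPair_conjPair, inv_mul_cancel, conjPair_one]
    have hv0 : v = t⁻¹ * (x₀ : G) * t⁻¹⁻¹ := by
      show v = t⁻¹ * (t * v * t⁻¹) * t⁻¹⁻¹
      group
    let u : P → P := fun x => if h : IsConj x₀ x then (isConj_iff.mp h).choose else 1
    have hu : ∀ x, IsConj x₀ x → u x * x₀ * (u x)⁻¹ = x := fun x h => by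
      simp only [u, dif_pos h]
      exact (isConj_iff.mp h).choose_spec
    have hu' : ∀ x, IsConj x₀ x → conjPair ((u x : G))⁻¹ (atBelow hM hmax x) = atBelow hM hmax x₀ ∧
        ((u x : G))⁻¹ * x * u x = x₀ := by
      intro x h
      have h1 := hu x h
      generalize u x = y at h1 ⊢
      subst h1
      constructor
      · rw [← conj_atBelow hM hmax, conjPair_conjPair, inv_mul_cancel, conjPair_one]
      · push_cast
        group
    have hcard : (Finset.univ.filter fun z : G × P => Φ z = ⟨v, a⟩).card =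
        Nat.card (Subgroup.centralizer ({(x₀ : G)} : Set G)) *
          (Subgroup.centralizer ({x₀} : Set P)).index := by
      rw [← natCard_isConj, ← Nat.card_prod, Nat.card_eq_fintype_card, ← Finset.card_univ]
      refine (Finset.card_bij (fun (q : Subgroup.centralizer ({(x₀ : G)} : Set G) ×
        {x : P // IsConj x₀ x}) _ => (t⁻¹ * (q.1 : G) * ((u q.2.1 : G))⁻¹, q.2.1)) ?_ ?_ ?_).symm
      · rintro ⟨⟨k, hk⟩, ⟨x, hx⟩⟩ -
        refine Finset.mem_filter.mpr ⟨Finset.mem_univ _, ?_⟩
        obtain ⟨hux, hux'⟩ := hu' x hx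
        have hk' := Subgroup.mem_centralizer_singleton_iff.mp hk
        refine Sigma.ext ?_ (heq_of_eq ?_)
        · show t⁻¹ * k * (u x : G)⁻¹ * x * (t⁻¹ * k * (u x : G)⁻¹)⁻¹ = v
          calc t⁻¹ * k * (u x : G)⁻¹ * x * (t⁻¹ * k * (u x : G)⁻¹)⁻¹
              = t⁻¹ * (k * ((u x : G)⁻¹ * x * u x) * k⁻¹) * t⁻¹⁻¹ := by group
            _ = v := by rw [hux', hk', mul_inv_cancel_right, ← hv0]
        · show conjPair (t⁻¹ * k * (u x : G)⁻¹) (atBelow hM hmax x) = a
          rw [← conjPair_conjPair, hux, ← conjPair_conjPair,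
            conjPair_fixed_of_centralizer (v := (x₀ : G)) rfl hk, ← ha0]
      · rintro ⟨⟨k, hk⟩, ⟨x, hx⟩⟩ - ⟨⟨k', hk'⟩, ⟨x', hx'⟩⟩ - h
        simp only [Prod.mk.injEq] at h
        obtain ⟨h1, rfl⟩ := h
        simp only [Prod.mk.injEq, Subtype.mk.injEq, and_true]
        exact mul_left_cancel (mul_right_cancel h1)
      · rintro ⟨g, x⟩ hz
        have hz := (Finset.mem_filter.mp hz).2
        simp only [hΦ, Sigma.mk.injEq, heq_eq_eq] at hz
        obtain ⟨hz1, hz2⟩ := hz
        have h1 : t * g * (x : G) * (t * g)⁻¹ = x₀ := by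
          show _ = t * v * t⁻¹
          rw [← hz1]; group
        have h2 : conjPair (t * g) (atBelow hM hmax x) = atBelow hM hmax x₀ := by
          rw [← conjPair_conjPair, hz2, h₀]
        obtain ⟨w, hw⟩ := exists_inner_conj hM hmax hnil x x₀ (t * g) _ rfl (atBelow_le hM hmax x)
          (h2 ▸ atBelow_le hM hmax x₀) h1
        have hx : IsConj x₀ x := (isConj_iff.mpr ⟨w, hw⟩).symm
        have hk : t * g * (u x : G) ∈ Subgroup.centralizer ({(x₀ : G)} : Set G) := by
          rw [Subgroup.mem_centralizer_singleton_iff]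
          have h3 := (hu' x hx).2
          calc t * g * (u x : G) * x₀ = t * g * x * u x := by rw [← h3]; group
            _ = t * g * x * (t * g)⁻¹ * (t * g * u x) := by group
            _ = _ := by rw [h1]
        exact ⟨(⟨_, hk⟩, ⟨x, hx⟩), Finset.mem_univ _, Prod.ext (by
          show t⁻¹ * (t * g * (u x : G)) * (u x : G)⁻¹ = g
          group) rfl⟩
    have hconst : ∀ z ∈ Finset.univ.filter (fun z : G × P => Φ z = ⟨v, a⟩), c z.2 = c x₀ := by
      rintro ⟨g, x⟩ hz
      have hz := (Finset.mem_filter.mp hz).2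
      simp only [hΦ, Sigma.mk.injEq, heq_eq_eq] at hz
      obtain ⟨hz1, hz2⟩ := hz
      have h1 : t * g * (x : G) * (t * g)⁻¹ = x₀ := by
        show _ = t * v * t⁻¹
        rw [← hz1]; group
      have h2 : conjPair (t * g) (atBelow hM hmax x) = atBelow hM hmax x₀ := by
        rw [← conjPair_conjPair, hz2, h₀]
      obtain ⟨w, hw⟩ := exists_inner_conj hM hmax hnil x x₀ (t * g) _ rfl (atBelow_le hM hmax x)
        (h2 ▸ atBelow_le hM hmax x₀) h1
      simp only [hc, ← hw, natCard_centralizer_conj hM hmax hnil]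
      congr 3
      refine Nat.card_congr (Equiv.subtypeEquiv (MulAut.conj (w : G)).toEquiv fun s => ?_)
      simp only [Subgroup.mem_centralizer_singleton_iff, MulEquiv.toEquiv_eq_coe, EquivLike.coe_coe,
        MulAut.conj_apply, Subgroup.coe_mul, Subgroup.coe_inv]
      constructor
      · intro h
        calc (w : G) * s * (w : G)⁻¹ * ((w : G) * x * (w : G)⁻¹) = (w : G) * (s * x) * (w : G)⁻¹ := by group
          _ = _ := by rw [h]; group
      · intro h
        calc s * (x : G) = (w : G)⁻¹ * ((w : G) * s * (w : G)⁻¹ * ((w : G) * x * (w : G)⁻¹)) * w := by group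
          _ = _ := by rw [h]; group
    rw [Finset.sum_congr rfl hconst, Finset.sum_const, nsmul_eq_mul, hcard, hc]
    have h3 := (Subgroup.centralizer ({x₀} : Set P)).card_mul_index
    have hne : (Nat.card (Subgroup.centralizer ({(x₀ : G)} : Set G)) : ℂ) ≠ 0 :=
      Nat.cast_ne_zero.mpr Nat.card_pos.ne'
    have hne' : (Nat.card P : ℂ) ≠ 0 := Nat.cast_ne_zero.mpr Nat.card_pos.ne'
    push_cast
    field_simp
    rw [mul_comm]
    exact_mod_cast h3
  have hR : ∑ z : G × P, c z.2 * f (Φ z) = ∑ y ∈ S, f y := by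
    rw [← Finset.sum_fiberwise_of_maps_to hmaps]
    refine Finset.sum_congr rfl fun y hy => ?_
    rw [Finset.sum_congr rfl fun z hz => by rw [(Finset.mem_filter.mp hz).2], ← Finset.sum_mul,
      hfib y hy, one_mul]
  rw [hLHS, ← hR, Fintype.sum_prod_type, Finset.sum_comm, Finset.mul_sum, Finset.mul_sum]
  refine Finset.sum_congr rfl fun x _ => ?_
  simp only [hval]
  rw [Finset.sum_const, Finset.card_univ, ← Nat.card_eq_fintype_card, nsmul_eq_mul, hc, nilWeight]
  have hne : (Nat.card G : ℂ) ≠ 0 := Nat.cast_ne_zero.mpr Nat.card_pos.ne'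
  field_simp

end Cfsg.Agent.BC85.Star
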