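import Cfsg.Agent.BC85.Star.NilpotentIrr
import Cfsg.Agent.BC85.Pairs.Maximal

/-!
# Rank and heights of a nilpotent block
-/

set_option linter.unusedSectionVars false

namespace Cfsg.Agent.BC85.Star

open BlocksCore BlocksDefect
open scoped Classical ComplexConjugate

universe u

variable {G : Type u} [Group G] [Fintype G] {p : ℕ} [Fact p.Prime] {M : Ideal AlgInt}
  {B : Set (IrrCharacter G)}

theorem subConj_refl' (D : Subgroup G) : SubConj D D :=
  ⟨1, fun x hx => by simpa using hx⟩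

theorem exists_maximal_of_defect (hM : IsPModular p M) (hB : IsPBlock M B) {P : Subgroup G}
    (hD : IsDefectGroup p M B P) :
    ∃ e, IsMaximalBrauerPair p M B P e := by
  have := BlocksCore.isPrime hM
  obtain ⟨e, he⟩ := exists_pairOf_of_subConj hM hB hD (isPGroup_of_isDefectGroup hD)
    (subConj_refl' P)
  exact ⟨e, isMaximal_of_defect hM hD he⟩

theorem nilpotent_rank_one (hM : IsPModular p M) (hnil : IsNilpotentBlock p M B) :
    blockRank p B = 1 ∧ ∃ χ₀ ∈ B, ∀ χ ∈ B, ∃ d : ℕ, ∀ x : G,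
      pRegularPart p (χ : G → ℂ) x = (d : ℂ) * pRegularPart p (χ₀ : G → ℂ) x := by
  have := BlocksCore.isPrime hM
  obtain ⟨D, hD⟩ := exists_isDefectGroup hM hnil.1
  obtain ⟨e, hmax⟩ := exists_maximal_of_defect hM hnil.1 hD
  obtain ⟨χ₀, hχ₀, h0⟩ := exists_height_zero hM hnil.1
  obtain ⟨Ψ, hΨ⟩ := exists_nilEquiv hM hmax hnil hχ₀ h0
  have key : ∀ χ ∈ B, ∃ d : ℕ, ∀ x : G,
      pRegularPart p (χ : G → ℂ) x = (d : ℂ) * pRegularPart p (χ₀ : G → ℂ) x := by
    intro χ hχ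
    refine ⟨charDegree ((Ψ.symm ⟨χ, hχ⟩ : IrrCharacter D) : D → ℂ), fun x => ?_⟩
    have h := hΨ (Ψ.symm ⟨χ, hχ⟩)
    rw [Equiv.apply_symm_apply] at h
    rw [show (χ : G → ℂ) = starMul p M D e ((Ψ.symm ⟨χ, hχ⟩ : IrrCharacter D) : D → ℂ)
      (χ₀ : G → ℂ) from h]
    exact starMul_pRegularPart hM hmax hnil hχ₀ h0 _ x
  refine ⟨?_, χ₀, hχ₀, key⟩
  have hspan : Submodule.span ℂ ((fun χ : IrrCharacter G => pRegularPart p (χ : G → ℂ)) '' B) =
      Submodule.span ℂ {pRegularPart p (χ₀ : G → ℂ)} := by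
    refine le_antisymm (Submodule.span_le.mpr ?_)
      (Submodule.span_mono (Set.singleton_subset_iff.mpr ⟨χ₀, hχ₀, rfl⟩))
    rintro _ ⟨χ, hχ, rfl⟩
    obtain ⟨d, hd⟩ := key χ hχ
    exact Submodule.mem_span_singleton.mpr ⟨(d : ℂ), funext fun x => (hd x).symm⟩
  rw [blockRank, hspan]
  refine finrank_span_singleton fun h => irr_one_ne_zero χ₀ ?_
  have h1 := congrFun h (1 : G)
  rwa [BC85.pRegularPart_pos (by simpa using (Fact.out : p.Prime).ne_one), Pi.zero_apply] at h1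

theorem nilpotent_height_bijection (hM : IsPModular p M) (hnil : IsNilpotentBlock p M B)
    {P : Subgroup G} (hP : IsDefectGroup p M B P) :
    ∃ Φ : B ≃ IrrCharacter P, ∀ χ : B,
      blockHeight p B ((χ : IrrCharacter G) : G → ℂ) =
        (charDegree ((Φ χ : IrrCharacter P) : P → ℂ)).factorization p := by
  have := BlocksCore.isPrime hM
  obtain ⟨e, hmax⟩ := exists_maximal_of_defect hM hnil.1 hP
  obtain ⟨χ₀, hχ₀, h0⟩ := exists_height_zero hM hnil.1
  obtain ⟨Ψ, hΨ⟩ := exists_nilEquiv hM hmax hnil hχ₀ h0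
  refine ⟨Ψ.symm, fun χ => ?_⟩
  obtain ⟨θ, rfl⟩ := Ψ.surjective χ
  rw [Equiv.symm_apply_apply]
  have hdeg : charDegree (((Ψ θ : B) : IrrCharacter G) : G → ℂ) =
      charDegree (θ : P → ℂ) * charDegree (χ₀ : G → ℂ) := by
    have h : (((Ψ θ : B) : IrrCharacter G) : G → ℂ) 1 = (θ : P → ℂ) 1 * (χ₀ : G → ℂ) 1 := by
      rw [hΨ θ]
      exact starMul_regular hM hmax (isPairStable_class hM hmax hnil (irr_class θ)) hχ₀
        (by simpa using (Fact.out : p.Prime).ne_one)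
    rw [irr_one_eq, irr_one_eq, irr_one_eq] at h
    exact_mod_cast h
  have hmin : sInf ((fun ψ : IrrCharacter G => (charDegree (ψ : G → ℂ)).factorization p) '' B) =
      (charDegree (χ₀ : G → ℂ)).factorization p := by
    refine le_antisymm (Nat.sInf_le ⟨χ₀, hχ₀, rfl⟩) ?_
    exact Nat.sub_eq_zero_iff_le.mp h0
  rw [blockHeight, hmin, hdeg, Nat.factorization_mul (BlocksCore.charDegree_pos θ).ne'
    (BlocksCore.charDegree_pos χ₀).ne', Finsupp.add_apply, Nat.add_sub_cancel]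

end Cfsg.Agent.BC85.Star
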