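import Cfsg.Agent.BC85.Star.Product
import Cfsg.Agent.Lib.CharCore.BlockCount

/-!
# The star product on the sections

On the section of a `p`-element the star product projects onto the blocks of the centralizer;
hence it composes, is adjoint to the conjugate weight, and keeps the blocks.
-/

namespace Cfsg.Agent.BC85.Star

open BlocksCore BlocksDefect
open scoped Classical ComplexConjugate

universe u

variable {G : Type u} [Group G] [Fintype G] {p : ℕ} [Fact p.Prime] {M : Ideal AlgInt}
  [hP : M.IsPrime]

/-- The part at the pair `a` of the translate of `F` by `v`. -/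
noncomputable def proj (a : BrauerPairIdx G) (v : G) (F : G → ℂ) (s : G) : ℂ :=
  ∑ c : G, bp a c * F (v * c * s)

omit [Fact p.Prime] hP in
theorem starFun_def [Fact p.Prime] (η : BrauerPairIdx G → G → ℂ) (F : G → ℂ) (g : G) :
    starFun p M η F g = ∑ a ∈ pairsAt M (Subgroup.zpowers (pp p g)),
      η a (pp p g) * proj a (pp p g) F ((pp p g)⁻¹ * g) := rfl

theorem starFun_apply (η : BrauerPairIdx G → G → ℂ) (F : G → ℂ) {v : G}
    (hv : ∃ n : ℕ, orderOf v = p ^ n) {s : G} (hsv : s ∈ Subgroup.centralizer ({v} : Set G))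
    (hs : ¬ p ∣ orderOf s) :
    starFun p M η F (v * s) =
      ∑ a ∈ pairsAt M (Subgroup.zpowers v), η a v * proj a v F s := by
  rw [starFun_def, pp_mul hv hs (Subgroup.mem_centralizer_singleton_iff.mp hsv).symm,
    inv_mul_cancel_left]

theorem isClassFunction_translate {F : G → ℂ} (hF : IsClassFunction G F) (v : G) :
    IsClassFunction (Subgroup.centralizer ({v} : Set G))
      (fun c : Subgroup.centralizer ({v} : Set G) => F (v * c)) := by
  intro c d
  show F _ = F _
  have hd : (d : G) * v = v * d := Subgroup.mem_centralizer_singleton_iff.mp d.2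
  rw [← hF (v * (c : G)) (d : G)]
  push_cast
  refine congrArg F ?_
  calc v * ((d : G) * c * (d : G)⁻¹) = (v * d) * c * (d : G)⁻¹ := by group
    _ = _ := by rw [← hd, mul_assoc (d : G) v]

omit [Fact p.Prime] in
theorem proj_eq_blockPart {F : G → ℂ} (hF : IsClassFunction G F) {v : G}
    {b : Set (IrrCharacter (Subgroup.centralizer ({v} : Set G)))} {a : BrauerPairIdx G}
    (hb : subgroupBlockCoeff (Subgroup.centralizer ({v} : Set G)) b = bp a)
    (s : Subgroup.centralizer ({v} : Set G)) :
    proj a v F s =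
      blockPart b (fun c : Subgroup.centralizer ({v} : Set G) => F (v * c)) s := by
  rw [proj, blockPart_eq_sum_blockCoeff b (isClassFunction_translate hF v), ← hb,
    ← Finset.sum_filter_add_sum_filter_not Finset.univ
      (fun c : G => c ∈ Subgroup.centralizer ({v} : Set G)),
    Finset.sum_eq_zero (s := Finset.univ.filter fun c : G =>
      ¬ c ∈ Subgroup.centralizer ({v} : Set G)) (fun c hc => by
      rw [subgroupBlockCoeff_of_notMem _ _ (Finset.mem_filter.mp hc).2, zero_mul]), add_zero]
  refine (Finset.sum_bij (fun (c : Subgroup.centralizer ({v} : Set G)) _ => (c : G))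
    (fun c _ => Finset.mem_filter.mpr ⟨Finset.mem_univ _, c.2⟩)
    (fun _ _ _ _ h => Subtype.ext h)
    (fun c hc => ⟨⟨c, (Finset.mem_filter.mp hc).2⟩, Finset.mem_univ _, rfl⟩) fun c _ => ?_).symm
  rw [subgroupBlockCoeff_coe, Subgroup.coe_mul, mul_assoc]

variable (hM : IsPModular p M)
include hM

/-- The pairs of `B` at a cyclic subgroup are the blocks of the centralizer inducing `B`. -/
theorem exists_block_induced {v : G} (hv : ∃ n : ℕ, orderOf v = p ^ n) {a : BrauerPairIdx G}
    (ha : a ∈ pairsAt M (Subgroup.zpowers v)) :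
    ∃ b : Set (IrrCharacter (Subgroup.centralizer ({v} : Set G))), IsPBlock M b ∧
      subgroupBlockCoeff (Subgroup.centralizer ({v} : Set G)) b = bp a ∧
      ∀ B : Set (IrrCharacter G),
        IsBrauerPairOf p M B a.1 a.2 ↔ IsInducedBlock M (Subgroup.centralizer ({v} : Set G)) b B := by
  obtain ⟨R, f⟩ := a
  obtain ⟨h1, hf⟩ := mem_pairsAt.mp ha
  dsimp only at h1
  subst h1
  obtain ⟨m, hm⟩ := hv
  have hpair : IsBrauerPair p M (Subgroup.zpowers v) f :=
    ⟨IsPGroup.of_card (n := m) (by rw [Nat.card_zpowers, hm]), hf⟩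
  have key : ∀ (H : Subgroup G), Subgroup.centralizer (Subgroup.zpowers v : Set G) = H →
      ∃ b : Set (IrrCharacter H), IsPBlock M b ∧
        subgroupBlockCoeff H b =
          subgroupBlockCoeff (Subgroup.centralizer (Subgroup.zpowers v : Set G)) f ∧
        ∀ B : Set (IrrCharacter G), IsInducedBlock M
          (Subgroup.centralizer (Subgroup.zpowers v : Set G)) f B ↔ IsInducedBlock M H b B := by
    rintro H rfl
    exact ⟨f, hf, rfl, fun B => Iff.rfl⟩
  obtain ⟨b, hb, hcoe, hiff⟩ := key _ (centralizer_zpowers v)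
  refine ⟨b, hb, hcoe, fun B => ⟨fun h => (hiff B).mp (CharCore.BlockSections.induced_of_brauerPair hM h),
    fun h => ?_⟩⟩
  obtain ⟨B', hB', -⟩ := existsUnique_block_of_pair hM hpair
  rwa [CharCore.BlockSections.eq_of_induced h ((hiff B').mp (CharCore.BlockSections.induced_of_brauerPair hM hB'))]

/-- The projection only depends on the regular part of the section. -/
theorem proj_congr_regular {F F' : G → ℂ} (hF : IsClassFunction G F) (hF' : IsClassFunction G F')
    {v : G} (hv : ∃ n : ℕ, orderOf v = p ^ n) {a : BrauerPairIdx G}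
    (ha : a ∈ pairsAt M (Subgroup.zpowers v))
    (h : ∀ k : Subgroup.centralizer ({v} : Set G), ¬ p ∣ orderOf k → F (v * k) = F' (v * k))
    {s : Subgroup.centralizer ({v} : Set G)} (hs : ¬ p ∣ orderOf s) :
    proj a v F s = proj a v F' s := by
  obtain ⟨b, hb, hcoe, -⟩ := exists_block_induced hM hv ha
  rw [proj_eq_blockPart hF hcoe, proj_eq_blockPart hF' hcoe]
  exact CharCore.BlockSections.blockPart_congr_regular hM hb h hs

/-- The projections are orthogonal idempotents. -/
theorem proj_proj {v : G} {a b : BrauerPairIdx G} (ha : a ∈ pairsAt M (Subgroup.zpowers v))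
    (hb : b ∈ pairsAt M (Subgroup.zpowers v)) (F : G → ℂ) (s : G) :
    ∑ c : G, bp a c * proj b v F (c * s) = if a = b then proj a v F s else 0 := by
  have e : ∑ c : G, bp a c * proj b v F (c * s) =
      ∑ d : G, conv (bp b) (bp a) d * F (v * d * s) := by
    simp only [proj, conv_apply, Finset.mul_sum, Finset.sum_mul]
    rw [Finset.sum_comm]
    conv_rhs => rw [Finset.sum_comm]
    refine Finset.sum_congr rfl fun c' _ => ?_
    refine Fintype.sum_equiv (Equiv.mulLeft c') _ _ fun c => ?_
    simp only [Equiv.coe_mulLeft]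
    rw [inv_mul_cancel_left, show v * (c' * c) * s = v * c' * (c * s) by simp [mul_assoc]]
    ring
  rw [e]
  obtain ⟨R, f⟩ := a
  obtain ⟨R', f'⟩ := b
  obtain ⟨h1, hf⟩ := mem_pairsAt.mp ha
  obtain ⟨h2, hf'⟩ := mem_pairsAt.mp hb
  dsimp only at h1 h2 hf hf'
  subst h1 h2
  simp only [conv_bp]
  split_ifs with h
  · cases h
    rw [Set.inter_self]
    rfl
  · rw [show f' ∩ f = ∅ from Set.eq_empty_iff_forall_notMem.mpr fun χ hχ =>
      h (by rw [isPBlock_eq_of_mem hf hf' hχ.2 hχ.1])]
    refine Finset.sum_eq_zero fun d _ => ?_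
    by_cases hd : d ∈ Subgroup.centralizer (Subgroup.zpowers v : Set G)
    · rw [show bp (⟨Subgroup.zpowers v, ∅⟩ : BrauerPairIdx G) d = 0 from ?_, zero_mul]
      show subgroupBlockCoeff _ ∅ d = 0
      rw [subgroupBlockCoeff_of_mem _ _ hd, blockCoeff_empty]
      rfl
    · rw [bp_of_notMem _ ∅ hd, zero_mul]

/-- The projections sum to the identity. -/
theorem sum_proj (v : G) (F : G → ℂ) (s : G) :
    ∑ a ∈ pairsAt M (Subgroup.zpowers v), proj a v F s = F (v * s) := by
  have hsum : ∀ c : G, ∑ a ∈ pairsAt M (Subgroup.zpowers v), bp a c = classInd (1 : G) c := by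
    intro c
    have hone : ∀ x : G, MemLocalRing M (classInd (1 : G) x) := fun x => by
      by_cases hx : IsConj (1 : G) x
      · rw [classInd_apply_of_isConj hx]; exact (localRing M).one_mem
      · rw [classInd_apply_of_not_isConj hx]; exact (localRing M).zero_mem
    obtain ⟨S, hS⟩ : ∃ S : Finset (Set (IrrCharacter
        (Subgroup.centralizer (Subgroup.zpowers v : Set G)))),
        ∀ f, f ∈ S ↔ IsPBlock M f := by
      have : Finite (IrrCharacter (Subgroup.centralizer (Subgroup.zpowers v : Set G))) := finite_irr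
      exact ⟨(Set.toFinite {f | IsPBlock M f}).toFinset, fun f => Set.Finite.mem_toFinset _⟩
    have he : pairsAt M (Subgroup.zpowers v) = S.map ⟨Sigma.mk (β := fun Q : Subgroup G => Set (IrrCharacter (Subgroup.centralizer (Q : Set G)))) (Subgroup.zpowers v), sigma_mk_injective⟩ := by
      ext a
      rw [mem_pairsAt, Finset.mem_map]
      constructor
      · obtain ⟨R, f⟩ := a
        rintro ⟨rfl, hf⟩
        exact ⟨f, (hS f).mpr hf, rfl⟩
      · rintro ⟨f, hf, rfl⟩
        exact ⟨rfl, (hS f).mp hf⟩
    rw [he, Finset.sum_map]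
    have hblock : ∑ f ∈ S, blockCoeff f =
        classInd (1 : Subgroup.centralizer (Subgroup.zpowers v : Set G)) := by
      refine eq_of_omega_eq (fun g h => ?_) (isClassFunction_classInd _) fun χ => ?_
      · simp only [Finset.sum_apply]
        exact Finset.sum_congr rfl fun f _ => isClassFunction_blockCoeff f g h
      · rw [omega_sum, omega_classInd_one, Finset.sum_eq_single (blockOf M
          (χ : Subgroup.centralizer (Subgroup.zpowers v : Set G) → ℂ))]
        · rw [omega_blockCoeff, Set.indicator_of_mem (mem_blockOf_self χ)]; rfl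
        · intro f hf hne
          rw [omega_blockCoeff, Set.indicator_of_notMem fun h =>
            hne (isPBlock_eq_blockOf ((hS f).mp hf) h)]
        · exact fun h => absurd ((hS _).mpr (isPBlock_blockOf χ)) h
    by_cases hc : c ∈ Subgroup.centralizer (Subgroup.zpowers v : Set G)
    · refine (Finset.sum_congr rfl fun f _ => bp_apply_coe _ f ⟨c, hc⟩).trans ?_
      have h := congrFun hblock ⟨c, hc⟩
      rw [Finset.sum_apply] at h
      refine h.trans ?_
      by_cases h1 : c = 1
      · subst h1
        rw [show (⟨1, hc⟩ : Subgroup.centralizer (Subgroup.zpowers v : Set G)) = 1 from rfl,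
          classInd_apply_of_isConj (IsConj.refl 1), classInd_apply_of_isConj (IsConj.refl 1)]
      · rw [classInd_apply_of_not_isConj, classInd_apply_of_not_isConj]
        · exact fun h => h1 (isConj_one_right.mp h)
        · exact fun h => h1 (congrArg Subtype.val (isConj_one_right.mp h))
    · rw [classInd_apply_of_not_isConj]
      · exact Finset.sum_eq_zero fun f _ => bp_of_notMem _ f hc
      · intro h
        exact hc ((isConj_one_right.mp h).symm ▸ Subgroup.one_mem _)
  simp only [proj]
  rw [Finset.sum_comm, Finset.sum_congr rfl fun c _ => by rw [← Finset.sum_mul, hsum c],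
    Finset.sum_eq_single 1]
  · rw [classInd_apply_of_isConj (IsConj.refl 1), one_mul, mul_one]
  · intro c _ hc
    rw [classInd_apply_of_not_isConj fun h => hc (isConj_one_right.mp h), zero_mul]
  · exact fun h => absurd (Finset.mem_univ _) h

omit hM in
/-- Conjugation invariance of a weight. -/
theorem starFun_isClassFunction' (hM : IsPModular p M) {η : BrauerPairIdx G → G → ℂ}
    (hη : ∀ (a : BrauerPairIdx G) (x v : G), (∃ n : ℕ, orderOf v = p ^ n) →
      a ∈ pairsAt M (Subgroup.zpowers v) → η (conjPair x a) (x * v * x⁻¹) = η a v)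
    {F : G → ℂ} (hF : IsClassFunction G F) : IsClassFunction G (starFun p M η F) := by
  intro g t
  have hord : ∃ n : ℕ, orderOf (pp p g) = p ^ n := (pp_spec (p := p) g).choose_spec.2.2.1
  set v := pp p g with hv
  have hmem : ∀ (t v : G) (a : BrauerPairIdx G), (∃ n : ℕ, orderOf v = p ^ n) →
      a ∈ pairsAt M (Subgroup.zpowers v) →
      conjPair t a ∈ pairsAt M (Subgroup.zpowers (t * v * t⁻¹)) := by
    intro t v a hv ha
    obtain ⟨h1, h2⟩ := mem_pairsAt.mp ha
    obtain ⟨m, hm⟩ := hv
    refine mem_pairsAt.mpr ⟨by rw [conjPair_fst, h1, map_conj_zpowers], ?_⟩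
    exact (isBrauerPair_conj hM (a := a)
      ⟨h1 ▸ IsPGroup.of_card (n := m) (by rw [Nat.card_zpowers, hm]), h2⟩ t).2
  have hord' : ∃ n : ℕ, orderOf (t * v * t⁻¹) = p ^ n := by
    obtain ⟨m, hm⟩ := hord
    exact ⟨m, by rw [← MulAut.conj_apply, MulEquiv.orderOf_eq, hm]⟩
  simp only [starFun_def, pp_conj, ← hv]
  refine (Finset.sum_bij' (fun a _ => conjPair t a) (fun a _ => conjPair t⁻¹ a)
    (fun a ha => hmem t v a hord ha) (fun a ha => ?_) (fun a _ => ?_) (fun a _ => ?_)
    fun a ha => ?_).symm
  · have := hmem t⁻¹ _ a hord' ha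
    rwa [show t⁻¹ * (t * v * t⁻¹) * t⁻¹⁻¹ = v by group] at this
  · rw [conjPair_conjPair, inv_mul_cancel, conjPair_one]
  · rw [conjPair_conjPair, mul_inv_cancel, conjPair_one]
  · rw [hη a t v hord ha]
    congr 1
    refine Fintype.sum_equiv ((Equiv.mulLeft t).trans (Equiv.mulRight t⁻¹)) _ _ fun c => ?_
    simp only [Equiv.trans_apply, Equiv.coe_mulLeft, Equiv.coe_mulRight]
    rw [bp_conjPair, show t⁻¹ * (t * c * t⁻¹) * t = c by group]
    congr 1
    rw [← hF (v * c * (v⁻¹ * g)) t]
    congr 1
    group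

/-- The star product composes. -/
theorem starFun_starFun {η η' : BrauerPairIdx G → G → ℂ}
    (hη' : ∀ (a : BrauerPairIdx G) (x v : G), (∃ n : ℕ, orderOf v = p ^ n) →
      a ∈ pairsAt M (Subgroup.zpowers v) → η' (conjPair x a) (x * v * x⁻¹) = η' a v)
    {F : G → ℂ} (hF : IsClassFunction G F) :
    starFun p M η (starFun p M η' F) = starFun p M (fun a v => η a v * η' a v) F := by
  funext g
  have hcl := starFun_isClassFunction' hM hη' hF
  have hord : ∃ n : ℕ, orderOf (pp p g) = p ^ n := (pp_spec (p := p) g).choose_spec.2.2.1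
  obtain ⟨hcomm, hreg⟩ := regular_inv_pp_mul (p := p) g
  rw [starFun_def, starFun_def]
  set v := pp p g
  set s : Subgroup.centralizer ({v} : Set G) :=
    ⟨v⁻¹ * g, Subgroup.mem_centralizer_singleton_iff.mpr hcomm.eq.symm⟩ with hs
  have hreg' : ¬ p ∣ orderOf s := by rwa [← Subgroup.orderOf_coe]
  refine Finset.sum_congr rfl fun a ha => ?_
  rw [mul_assoc]
  congr 1
  obtain ⟨b, hb, hcoe, -⟩ := exists_block_induced hM hord ha
  set H : Subgroup.centralizer ({v} : Set G) → ℂ := fun k =>
    ∑ a' ∈ pairsAt M (Subgroup.zpowers v), η' a' v * proj a' v F k with hH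
  show proj a v (starFun p M η' F) (s : G) = _
  rw [proj_eq_blockPart hcl hcoe, CharCore.BlockSections.blockPart_congr_regular hM hb
    (g := H) (fun k hk => starFun_apply η' F hord k.2 (by rwa [Subgroup.orderOf_coe])) hreg']
  have hHc : IsClassFunction (Subgroup.centralizer ({v} : Set G)) H := by
    intro c d
    refine Finset.sum_congr rfl fun a' ha' => ?_
    obtain ⟨b', -, hcoe', -⟩ := exists_block_induced hM hord ha'
    rw [proj_eq_blockPart hF hcoe', proj_eq_blockPart hF hcoe']
    congr 1
    rw [blockPart_eq_sum_blockCoeff b' (isClassFunction_translate hF v),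
      blockPart_eq_sum_blockCoeff b' (isClassFunction_translate hF v)]
    refine (Fintype.sum_equiv ((Equiv.mulLeft d).trans (Equiv.mulRight d⁻¹)) _ _ fun k => ?_).symm
    simp only [Equiv.trans_apply, Equiv.coe_mulLeft, Equiv.coe_mulRight]
    rw [isClassFunction_blockCoeff b' k d,
      show d * k * d⁻¹ * (d * c * d⁻¹) = d * (k * c) * d⁻¹ by group]
    exact congrArg _ (isClassFunction_translate hF v (k * c) d).symm
  rw [blockPart_eq_sum_blockCoeff b hHc]
  have hsum : ∑ k, blockCoeff b k * H (k * s) =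
      ∑ c : G, bp a c * ∑ a' ∈ pairsAt M (Subgroup.zpowers v), η' a' v * proj a' v F (c * s) := by
    rw [← hcoe, ← Finset.sum_filter_add_sum_filter_not Finset.univ
      (fun c : G => c ∈ Subgroup.centralizer ({v} : Set G)),
      Finset.sum_eq_zero (s := Finset.univ.filter fun c : G =>
        ¬ c ∈ Subgroup.centralizer ({v} : Set G)) (fun c hc => by
        rw [subgroupBlockCoeff_of_notMem _ _ (Finset.mem_filter.mp hc).2, zero_mul]), add_zero]
    refine Finset.sum_bij (fun (c : Subgroup.centralizer ({v} : Set G)) _ => (c : G))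
      (fun c _ => Finset.mem_filter.mpr ⟨Finset.mem_univ _, c.2⟩)
      (fun _ _ _ _ h => Subtype.ext h)
      (fun c hc => ⟨⟨c, (Finset.mem_filter.mp hc).2⟩, Finset.mem_univ _, rfl⟩) fun c _ => ?_
    rw [subgroupBlockCoeff_coe]
    rfl
  rw [hsum]
  simp only [Finset.mul_sum, mul_left_comm (bp a _)]
  rw [Finset.sum_comm, Finset.sum_congr rfl fun a' ha' => by
    rw [← Finset.mul_sum, proj_proj hM ha ha' F s], Finset.sum_eq_single a]
  · rw [if_pos rfl]
  · intro a' _ hne
    rw [if_neg (Ne.symm hne), mul_zero]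
  · exact fun h => absurd ha h

/-- Off the pairs of the block of `χ` the projections of `χ` vanish. -/
theorem proj_eq_zero_of_not_pairOf {B : Set (IrrCharacter G)} (hB : IsPBlock M B)
    {χ : IrrCharacter G} (hχ : χ ∈ B) {v : G} (hv : ∃ n : ℕ, orderOf v = p ^ n)
    {a : BrauerPairIdx G} (ha : a ∈ pairsAt M (Subgroup.zpowers v))
    (hnot : ¬ IsBrauerPairOf p M B a.1 a.2) {s : Subgroup.centralizer ({v} : Set G)}
    (hs : ¬ p ∣ orderOf s) : proj a v (χ : G → ℂ) s = 0 := by
  obtain ⟨b, hb, hcoe, hiff⟩ := exists_block_induced hM hv ha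
  rw [proj_eq_blockPart (irr_class χ) hcoe]
  exact S0923.result p M hM v hv B hB χ hχ b hb (fun h => hnot ((hiff B).mpr h)) s hs

/-- On `B` the star product only depends on the weight at the pairs of `B`. -/
theorem starFun_congr_block {B : Set (IrrCharacter G)} (hB : IsPBlock M B) {χ : IrrCharacter G}
    (hχ : χ ∈ B) {η η' : BrauerPairIdx G → G → ℂ}
    (h : ∀ (v : G) (a : BrauerPairIdx G), (∃ n : ℕ, orderOf v = p ^ n) →
      a ∈ pairsAt M (Subgroup.zpowers v) → IsBrauerPairOf p M B a.1 a.2 → η a v = η' a v) :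
    starFun p M η (χ : G → ℂ) = starFun p M η' (χ : G → ℂ) := by
  funext g
  have hord : ∃ n : ℕ, orderOf (pp p g) = p ^ n := (pp_spec (p := p) g).choose_spec.2.2.1
  obtain ⟨hcomm, hreg⟩ := regular_inv_pp_mul (p := p) g
  rw [starFun_def, starFun_def]
  refine Finset.sum_congr rfl fun a ha => ?_
  by_cases hB' : IsBrauerPairOf p M B a.1 a.2
  · rw [h _ a hord ha hB']
  · rw [show proj a (pp p g) (χ : G → ℂ) ((pp p g)⁻¹ * g) = 0 from
      proj_eq_zero_of_not_pairOf hM hB hχ hord ha hB'
        (s := ⟨_, Subgroup.mem_centralizer_singleton_iff.mpr hcomm.eq.symm⟩)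
        (by rwa [← Subgroup.orderOf_coe]), mul_zero, mul_zero]

omit hM in
theorem starFun_one' (hM : IsPModular p M) (F : G → ℂ) :
    starFun p M (fun _ _ => 1) F = F := by
  funext g
  rw [starFun_def]
  simp only [one_mul]
  rw [sum_proj hM, mul_inv_cancel_left]

/-- The part of a block is self-adjoint on the regular elements. -/
theorem sum_regular_blockPart_symm {C : Type u} [Group C] [Fintype C]
    {b : Set (IrrCharacter C)} (hb : IsPBlock M b) (f g : C → ℂ) :
    ∑ s ∈ Finset.univ.filter (fun s : C => ¬ p ∣ orderOf s), blockPart b f s * conj (g s) =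
      ∑ s ∈ Finset.univ.filter (fun s : C => ¬ p ∣ orderOf s), f s * conj (blockPart b g s) := by
  have key : ∀ f g : C → ℂ,
      ∑ s ∈ Finset.univ.filter (fun s : C => ¬ p ∣ orderOf s), blockPart b f s * conj (g s) =
      (Nat.card C : ℂ) * ∑ θ ∈ Finset.univ.filter (· ∈ b),
        classInner (pRegularPart p f) (θ : C → ℂ) *
          classInner (θ : C → ℂ) (pRegularPart p g) := by
    intro f g
    have h1 : ∀ s : C, ¬ p ∣ orderOf s → blockPart b f s = blockPart b (pRegularPart p f) s :=
      fun s hs => CharCore.BlockSections.blockPart_congr_regular hM hb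
        (fun c hc => (BC85.pRegularPart_pos hc).symm) hs
    rw [Finset.sum_congr rfl fun s hs => by rw [h1 s (Finset.mem_filter.mp hs).2,
      ← BC85.pRegularPart_pos (p := p) (χ := g) (Finset.mem_filter.mp hs).2]]
    rw [Finset.sum_filter_of_ne (p := fun s : C => ¬ p ∣ orderOf s)
      (f := fun s => blockPart b (pRegularPart p f) s * conj (pRegularPart p g s))
      (fun s _ hne hd => hne (by rw [BC85.pRegularPart_neg hd, map_zero, mul_zero]))]
    rw [Finset.sum_congr rfl fun s _ => by
      rw [CharCore.BlockSections.blockPart_eq_sum, Finset.sum_mul], Finset.sum_comm, Finset.mul_sum]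
    refine Finset.sum_congr rfl fun θ _ => ?_
    simp only [classInner, mul_assoc, ← Finset.mul_sum]
    have hC : (Nat.card C : ℂ) ≠ 0 := Nat.cast_ne_zero.mpr Nat.card_pos.ne'
    field_simp
  rw [key f g, show ∑ s ∈ Finset.univ.filter (fun s : C => ¬ p ∣ orderOf s),
      f s * conj (blockPart b g s) =
    conj (∑ s ∈ Finset.univ.filter (fun s : C => ¬ p ∣ orderOf s),
      blockPart b g s * conj (f s)) by
        rw [map_sum]
        exact Finset.sum_congr rfl fun s _ => by rw [map_mul, Complex.conj_conj, mul_comm],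
    key g f, map_mul, map_natCast, map_sum]
  refine congrArg _ (Finset.sum_congr rfl fun θ _ => ?_)
  rw [map_mul, CharCore.conj_classInner, CharCore.conj_classInner, mul_comm]

/-- The star product is adjoint to the conjugate weight. -/
theorem classInner_starFun (η : BrauerPairIdx G → G → ℂ) {F F' : G → ℂ}
    (hF : IsClassFunction G F) (hF' : IsClassFunction G F') :
    classInner (starFun p M η F) F' =
      classInner F (starFun p M (fun a v => conj (η a v)) F') := by
  simp only [classInner]
  congr 1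
  rw [← Finset.sum_fiberwise Finset.univ (pp p (G := G)),
    ← Finset.sum_fiberwise Finset.univ (pp p (G := G)) (fun g => F g * conj (starFun p M _ F' g))]
  refine Finset.sum_congr rfl fun v _ => ?_
  by_cases hv : ∃ n : ℕ, orderOf v = p ^ n
  swap
  · rw [Finset.sum_eq_zero, Finset.sum_eq_zero] <;> intro g hg <;> exfalso <;> apply hv <;>
      rw [← (Finset.mem_filter.mp hg).2] <;> exact (pp_spec (p := p) g).choose_spec.2.2.1
  have hfib : ∀ X : G → ℂ, ∑ g ∈ Finset.univ.filter (fun g => pp p g = v), X g =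
      ∑ s ∈ Finset.univ.filter (fun s : Subgroup.centralizer ({v} : Set G) => ¬ p ∣ orderOf s),
        X (v * s) := by
    intro X
    refine (Finset.sum_bij (fun (s : Subgroup.centralizer ({v} : Set G)) _ => v * (s : G))
      (fun s hs => Finset.mem_filter.mpr ⟨Finset.mem_univ _, pp_mul hv
        (by rw [Subgroup.orderOf_coe]; exact (Finset.mem_filter.mp hs).2)
        (Subgroup.mem_centralizer_singleton_iff.mp s.2).symm⟩)
      (fun a _ b _ h => Subtype.ext (mul_left_cancel h)) (fun g hg => ?_) fun s _ => rfl).symm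
    obtain ⟨hc, hr⟩ := regular_inv_pp_mul (p := p) g
    rw [(Finset.mem_filter.mp hg).2] at hc hr
    exact ⟨⟨_, Subgroup.mem_centralizer_singleton_iff.mpr hc.eq.symm⟩,
      Finset.mem_filter.mpr ⟨Finset.mem_univ _, by rwa [← Subgroup.orderOf_coe]⟩,
      mul_inv_cancel_left v g⟩
  rw [hfib, hfib]
  have hev : ∀ (ν : BrauerPairIdx G → G → ℂ) (Y : G → ℂ) (s : Subgroup.centralizer ({v} : Set G)),
      s ∈ Finset.univ.filter (fun s : Subgroup.centralizer ({v} : Set G) => ¬ p ∣ orderOf s) →
      starFun p M ν Y (v * s) = ∑ a ∈ pairsAt M (Subgroup.zpowers v), ν a v * proj a v Y s :=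
    fun ν Y s hs => starFun_apply ν Y hv s.2
      (by rw [Subgroup.orderOf_coe]; exact (Finset.mem_filter.mp hs).2)
  rw [Finset.sum_congr rfl fun s hs => by rw [hev η F s hs, Finset.sum_mul], Finset.sum_comm]
  conv_rhs =>
    rw [Finset.sum_congr rfl fun s hs => by rw [hev _ F' s hs, map_sum, Finset.mul_sum],
      Finset.sum_comm]
  refine Finset.sum_congr rfl fun a ha => ?_
  obtain ⟨b, hb, hcoe, -⟩ := exists_block_induced hM hv ha
  simp only [map_mul, Complex.conj_conj, proj_eq_blockPart hF hcoe, proj_eq_blockPart hF' hcoe,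
    mul_assoc, mul_left_comm (F _), ← Finset.mul_sum]
  rw [sum_regular_blockPart_symm hM hb]

end Cfsg.Agent.BC85.Star
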