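import Mathlib.Algebra.MonoidAlgebra.Basic
import Mathlib.Algebra.CharP.Lemmas
import Mathlib.FieldTheory.IsAlgClosed.Basic
import Mathlib.GroupTheory.PGroup
import Mathlib.GroupTheory.Index
import Mathlib.LinearAlgebra.FiniteDimensional.Basic
import Mathlib.GroupTheory.Subgroup.Centralizer

/-!
# Fixed points, Brauer maps and relative traces in a group algebra
-/

namespace Cfsg.Agent.BC85.Star

variable {k : Type*} [CommRing k] {G : Type*} [Group G]

/-- Conjugation by a group element. -/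
noncomputable def cj (g : G) (a : MonoidAlgebra k G) : MonoidAlgebra k G :=
  MonoidAlgebra.of k G g * a * MonoidAlgebra.of k G g⁻¹

theorem coeff_cj (g : G) (a : MonoidAlgebra k G) (x : G) :
    (cj g a).coeff x = a.coeff (g⁻¹ * x * g) := by
  rw [cj, MonoidAlgebra.of_apply, MonoidAlgebra.of_apply, MonoidAlgebra.coeff_mul_single_apply,
    MonoidAlgebra.coeff_single_mul_apply, one_mul, mul_one, inv_inv, mul_assoc]

theorem cj_mul (g : G) (a b : MonoidAlgebra k G) : cj g (a * b) = cj g a * cj g b := by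
  simp only [cj, mul_assoc]
  rw [← mul_assoc (MonoidAlgebra.of k G g⁻¹) (MonoidAlgebra.of k G g), ← map_mul,
    inv_mul_cancel, map_one, one_mul]

theorem cj_cj (g h : G) (a : MonoidAlgebra k G) : cj g (cj h a) = cj (g * h) a := by
  simp only [cj, mul_inv_rev, map_mul, mul_assoc]

@[simp] theorem cj_one (a : MonoidAlgebra k G) : cj 1 a = a := by simp [cj, ← MonoidAlgebra.one_def]

theorem cj_add (g : G) (a b : MonoidAlgebra k G) : cj g (a + b) = cj g a + cj g b := by
  simp only [cj, mul_add, add_mul]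

theorem cj_smul (g : G) (r : k) (a : MonoidAlgebra k G) : cj g (r • a) = r • cj g a := by
  simp only [cj, mul_smul_comm, smul_mul_assoc]

theorem cj_sum {ι : Type*} (g : G) (s : Finset ι) (a : ι → MonoidAlgebra k G) :
    cj g (∑ i ∈ s, a i) = ∑ i ∈ s, cj g (a i) := by
  simp only [cj, Finset.mul_sum, Finset.sum_mul]

/-- Being fixed under conjugation by a set of group elements. -/
def Fixd (S : Set G) (a : MonoidAlgebra k G) : Prop :=
  ∀ u ∈ S, cj u a = a

theorem fixd_iff_commute {S : Set G} {a : MonoidAlgebra k G} :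
    Fixd S a ↔ ∀ u ∈ S, Commute (MonoidAlgebra.of k G u) a := by
  refine forall₂_congr fun u _ => ⟨fun h => ?_, fun h => ?_⟩
  · calc MonoidAlgebra.of k G u * a
        = cj u a * MonoidAlgebra.of k G u := by
          rw [cj, mul_assoc, mul_assoc, ← map_mul, inv_mul_cancel, map_one, mul_one]
      _ = a * MonoidAlgebra.of k G u := by rw [h]
  · rw [cj, h.eq, mul_assoc, ← map_mul, mul_inv_cancel, map_one, mul_one]

theorem Fixd.coeff {S : Set G} {a : MonoidAlgebra k G} (h : Fixd S a) {u : G} (hu : u ∈ S)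
    (x : G) : a.coeff (u⁻¹ * x * u) = a.coeff x := by
  rw [← coeff_cj, h u hu]

theorem Fixd.mul {S : Set G} {a b : MonoidAlgebra k G} (ha : Fixd S a) (hb : Fixd S b) :
    Fixd S (a * b) := fun u hu => by rw [cj_mul, ha u hu, hb u hu]

theorem Fixd.add {S : Set G} {a b : MonoidAlgebra k G} (ha : Fixd S a) (hb : Fixd S b) :
    Fixd S (a + b) := fun u hu => by rw [cj_add, ha u hu, hb u hu]

theorem Fixd.smul {S : Set G} {a : MonoidAlgebra k G} (ha : Fixd S a) (r : k) :
    Fixd S (r • a) := fun u hu => by rw [cj_smul, ha u hu]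

theorem Fixd.one (S : Set G) : Fixd S (1 : MonoidAlgebra k G) := fun u _ => by
  rw [cj, mul_one, ← map_mul, mul_inv_cancel, map_one]

theorem Fixd.zero (S : Set G) : Fixd S (0 : MonoidAlgebra k G) := fun u _ => by
  rw [cj, mul_zero, zero_mul]

theorem Fixd.sub {S : Set G} {a b : MonoidAlgebra k G} (ha : Fixd S a) (hb : Fixd S b) :
    Fixd S (a - b) := fun u hu => by
  rw [cj, mul_sub, sub_mul, ← cj, ← cj, ha u hu, hb u hu]

theorem Fixd.sum {S : Set G} {ι : Type*} {s : Finset ι} {a : ι → MonoidAlgebra k G}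
    (h : ∀ i ∈ s, Fixd S (a i)) : Fixd S (∑ i ∈ s, a i) := fun u hu => by
  rw [cj_sum]
  exact Finset.sum_congr rfl fun i hi => h i hi u hu

theorem Fixd.mono {S T : Set G} {a : MonoidAlgebra k G} (h : Fixd T a) (hST : S ⊆ T) : Fixd S a :=
  fun u hu => h u (hST hu)

theorem Fixd.cj_of_normalizes {S : Subgroup G} {a : MonoidAlgebra k G} (h : Fixd (S : Set G) a)
    {g : G} (hg : g ∈ Subgroup.normalizer (S : Set G)) : Fixd (S : Set G) (cj g a) := by
  intro u hu
  have hu' : g⁻¹ * u * g ∈ (S : Set G) := by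
    have := (Subgroup.mem_normalizer_iff.mp (Subgroup.inv_mem _ hg) u).mp hu
    rwa [inv_inv] at this
  rw [cj_cj, show u * g = g * (g⁻¹ * u * g) by group, ← cj_cj, h _ hu']

/-! ### The Brauer map -/

open scoped Classical in
/-- Truncation to the centralizer of `Q`. -/
noncomputable def br (Q : Subgroup G) (a : MonoidAlgebra k G) : MonoidAlgebra k G :=
  .ofCoeff (a.coeff.filter (· ∈ Subgroup.centralizer (Q : Set G)))

open scoped Classical in
theorem coeff_br (Q : Subgroup G) (a : MonoidAlgebra k G) (x : G) :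
    (br Q a).coeff x = if x ∈ Subgroup.centralizer (Q : Set G) then a.coeff x else 0 := by
  rw [br, MonoidAlgebra.coeff_ofCoeff, Finsupp.filter_apply]

theorem br_add (Q : Subgroup G) (a b : MonoidAlgebra k G) : br Q (a + b) = br Q a + br Q b := by
  classical
  refine MonoidAlgebra.ext (Finsupp.ext fun x => ?_)
  simp only [coeff_br, MonoidAlgebra.coeff_add, Finsupp.add_apply]
  split_ifs <;> simp

theorem br_sub (Q : Subgroup G) (a b : MonoidAlgebra k G) : br Q (a - b) = br Q a - br Q b := by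
  classical
  refine MonoidAlgebra.ext (Finsupp.ext fun x => ?_)
  simp only [coeff_br, MonoidAlgebra.coeff_sub, Finsupp.sub_apply]
  split_ifs <;> simp

theorem br_zero (Q : Subgroup G) : br Q (0 : MonoidAlgebra k G) = 0 := by
  classical
  refine MonoidAlgebra.ext (Finsupp.ext fun x => ?_)
  simp [coeff_br]

theorem br_sum {ι : Type*} (Q : Subgroup G) (s : Finset ι) (a : ι → MonoidAlgebra k G) :
    br Q (∑ i ∈ s, a i) = ∑ i ∈ s, br Q (a i) :=
  map_sum (⟨⟨br Q, br_zero Q⟩, br_add Q⟩ : MonoidAlgebra k G →+ MonoidAlgebra k G) a s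

theorem br_one (Q : Subgroup G) : br Q (1 : MonoidAlgebra k G) = 1 := by
  classical
  refine MonoidAlgebra.ext (Finsupp.ext fun x => ?_)
  rw [coeff_br, MonoidAlgebra.one_def, MonoidAlgebra.coeff_single, Finsupp.single_apply]
  by_cases h1 : x ∈ Subgroup.centralizer (Q : Set G)
  · rw [if_pos h1]
  · rw [if_neg h1, if_neg fun h2 : 1 = x => h1 (h2 ▸ Subgroup.one_mem _)]

theorem br_mono {Q R : Subgroup G} (h : Q ≤ R) (a : MonoidAlgebra k G) :
    br R (br Q a) = br R a := by
  classical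
  refine MonoidAlgebra.ext (Finsupp.ext fun x => ?_)
  simp only [coeff_br]
  by_cases h1 : x ∈ Subgroup.centralizer (R : Set G)
  · rw [if_pos h1, if_pos h1, if_pos (Subgroup.centralizer_le (SetLike.coe_subset_coe.mpr h) h1)]
  · rw [if_neg h1, if_neg h1]

theorem br_eq_self {Q : Subgroup G} {a : MonoidAlgebra k G}
    (h : ∀ x, a.coeff x ≠ 0 → x ∈ Subgroup.centralizer (Q : Set G)) : br Q a = a := by
  classical
  refine MonoidAlgebra.ext (Finsupp.ext fun x => ?_)
  rw [coeff_br]
  split_ifs with h1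
  · rfl
  · by_contra h2
    exact h1 (h x (Ne.symm h2))

theorem cj_br {Q : Subgroup G} {g : G} (hg : g ∈ Subgroup.normalizer (Q : Set G))
    (a : MonoidAlgebra k G) : cj g (br Q a) = br Q (cj g a) := by
  classical
  refine MonoidAlgebra.ext (Finsupp.ext fun x => ?_)
  rw [coeff_br, coeff_cj, coeff_br, coeff_cj]
  have h : g⁻¹ * x * g ∈ Subgroup.centralizer (Q : Set G) ↔
      x ∈ Subgroup.centralizer (Q : Set G) := by
    simp only [Subgroup.mem_centralizer_iff]
    constructor
    · intro h y hy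
      have h' : g⁻¹ * y * g ∈ (Q : Set G) := by
        have := (Subgroup.mem_normalizer_iff.mp (Subgroup.inv_mem _ hg) y).mp hy
        rwa [inv_inv] at this
      have := h _ h'
      calc y * x = g * (g⁻¹ * y * g * (g⁻¹ * x * g)) * g⁻¹ := by group
        _ = x * y := by rw [this]; group
    · intro h y hy
      have := h _ ((Subgroup.mem_normalizer_iff.mp hg y).mp hy)
      calc y * (g⁻¹ * x * g) = g⁻¹ * (g * y * g⁻¹ * x) * g := by group
        _ = g⁻¹ * x * g * y := by rw [this]; group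
  simp only [h]

theorem Fixd.br {S : Set G} {Q : Subgroup G} {a : MonoidAlgebra k G} (h : Fixd S a)
    (hS : S ⊆ Subgroup.normalizer (Q : Set G)) : Fixd S (br Q a) := fun u hu => by
  rw [cj_br (hS hu), h u hu]

variable [Finite G] {p : ℕ} [Fact p.Prime] [CharP k p]

/-- The Brauer map is multiplicative on fixed points. -/
theorem br_mul {Q : Subgroup G} (hQ : IsPGroup p Q) {a b : MonoidAlgebra k G}
    (ha : Fixd (Q : Set G) a) (hb : Fixd (Q : Set G) b) : br Q (a * b) = br Q a * br Q b := by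
  classical
  have := Fintype.ofFinite G
  refine MonoidAlgebra.ext (Finsupp.ext fun x => ?_)
  have hsum : ∀ c d : MonoidAlgebra k G,
      (c * d).coeff x = ∑ y : G, c.coeff y * d.coeff (y⁻¹ * x) := fun c d => by
    rw [MonoidAlgebra.coeff_mul_apply_left, Finsupp.sum_fintype]
    intro i
    exact zero_mul _
  rw [coeff_br]
  by_cases hx : x ∈ Subgroup.centralizer (Q : Set G)
  swap
  · rw [if_neg hx, hsum]
    refine (Finset.sum_eq_zero fun y _ => ?_).symm
    rw [coeff_br, coeff_br]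
    split_ifs with h1 h2
    · exact absurd (by simpa using mul_mem h1 h2) hx
    all_goals simp
  rw [if_pos hx, hsum, hsum]
  refine Eq.trans ?_ (Finset.sum_congr rfl (g := fun y => (br Q a).coeff y *
    (br Q b).coeff (y⁻¹ * x)) (f := fun y => if y ∈ Subgroup.centralizer (Q : Set G) then
    a.coeff y * b.coeff (y⁻¹ * x) else 0) fun y _ => by
    simp only [coeff_br]
    by_cases hy : y ∈ Subgroup.centralizer (Q : Set G)
    · rw [if_pos hy, if_pos hy, if_pos (mul_mem (inv_mem hy) hx)]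
    · rw [if_neg hy, if_neg hy, zero_mul])
  rw [← Finset.sum_filter]
  let : MulAction Q G := MulAction.compHom G (MulAut.conj.comp Q.subtype)
  set F : G → k := fun y => a.coeff y * b.coeff (y⁻¹ * x) with hF
  have hinv : ∀ (u : Q) (y : G), F (u • y) = F y := by
    intro u y
    show a.coeff ((u : G) * y * (u : G)⁻¹) * b.coeff (((u : G) * y * (u : G)⁻¹)⁻¹ * x) = _
    have e : ((u : G) * y * (u : G)⁻¹)⁻¹ * x = (u : G) * (y⁻¹ * x) * (u : G)⁻¹ := by
      calc ((u : G) * y * (u : G)⁻¹)⁻¹ * x = (u : G) * y⁻¹ * ((u : G)⁻¹ * x) := by group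
        _ = (u : G) * y⁻¹ * (x * (u : G)⁻¹) := by
          rw [Subgroup.mem_centralizer_iff.mp hx _ (Q.inv_mem u.2)]
        _ = _ := by group
    rw [e, show (u : G) * y * (u : G)⁻¹ = ((u : G)⁻¹)⁻¹ * y * (u : G)⁻¹ by rw [inv_inv],
      ha.coeff (Q.inv_mem u.2), show (u : G) * (y⁻¹ * x) * (u : G)⁻¹ =
        ((u : G)⁻¹)⁻¹ * (y⁻¹ * x) * (u : G)⁻¹ by rw [inv_inv], hb.coeff (Q.inv_mem u.2)]
  have hfix : ∀ y : G, y ∈ Subgroup.centralizer (Q : Set G) ↔ ∀ u : Q, u • y = y := fun y => by
    simp only [Subgroup.mem_centralizer_iff]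
    constructor
    · intro h u
      show (u : G) * y * (u : G)⁻¹ = y
      rw [h _ u.2, mul_inv_cancel_right]
    · intro h u hu
      exact mul_inv_eq_iff_eq_mul.mp (h ⟨u, hu⟩)
  have hrest : ∑ y ∈ Finset.univ.filter (fun y : G => ¬ y ∈ Subgroup.centralizer (Q : Set G)),
      F y = 0 := by
    rw [← Finset.sum_fiberwise_of_maps_to (t := (Finset.univ : Finset
      (MulAction.orbitRel.Quotient Q G))) (g := fun y => (Quotient.mk _ y))
      fun _ _ => Finset.mem_univ _]
    refine Finset.sum_eq_zero fun ω _ => ?_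
    induction ω using Quotient.inductionOn with
    | _ y₀ =>
      by_cases hy₀ : y₀ ∈ Subgroup.centralizer (Q : Set G)
      · refine Finset.sum_eq_zero fun y hy => ?_
        exfalso
        obtain ⟨hy1, hy2⟩ := Finset.mem_filter.mp hy
        obtain ⟨u, hu⟩ : y ∈ MulAction.orbit Q y₀ := Quotient.exact hy2
        have hu' : u • y₀ = y := hu
        rw [(hfix y₀).mp hy₀ u] at hu'
        exact (Finset.mem_filter.mp hy1).2 (hu' ▸ hy₀)
      · rw [Finset.sum_congr rfl (g := fun _ => F y₀) fun y hy => by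
          obtain ⟨-, hy2⟩ := Finset.mem_filter.mp hy
          obtain ⟨u, hu⟩ : y ∈ MulAction.orbit Q y₀ := Quotient.exact hy2
          rw [← hu]
          exact hinv u y₀, Finset.sum_const]
        obtain ⟨n, hn⟩ := hQ.card_orbit (α := G) y₀
        have hn0 : n ≠ 0 := by
          rintro rfl
          rw [pow_zero, Nat.card_eq_one_iff_unique] at hn
          refine hy₀ ((hfix y₀).mpr fun u => ?_)
          exact congrArg Subtype.val (@Subsingleton.elim _ hn.1
            (⟨u • y₀, MulAction.mem_orbit _ _⟩ : MulAction.orbit Q y₀)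
            ⟨y₀, MulAction.mem_orbit_self _⟩)
        have hset : (((Finset.univ.filter fun y : G => ¬ y ∈ Subgroup.centralizer (Q : Set G)).filter
            fun y => (Quotient.mk _ y : MulAction.orbitRel.Quotient Q G) = Quotient.mk _ y₀) :
            Set G) = MulAction.orbit Q y₀ := by
          ext y
          simp only [Finset.coe_filter, Finset.mem_filter, Finset.mem_univ, true_and,
            Set.mem_ofPred_eq]
          refine ⟨fun h => Quotient.exact h.2, fun h => ⟨fun hc => ?_, Quotient.sound h⟩⟩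
          obtain ⟨u, hu⟩ := h
          apply hy₀
          rw [hfix] at hc
          have e := hc u⁻¹
          rw [← hu, inv_smul_smul] at e
          rw [e]
          exact (hfix _).mpr (hu ▸ hc)
        rw [Nat.card_coe_set_eq, ← hset, Set.ncard_coe_finset] at hn
        rw [hn, ← Nat.cast_smul_eq_nsmul k, (CharP.cast_eq_zero_iff k p _).mpr (dvd_pow_self p hn0),
          zero_smul]
  show ∑ y : G, F y = _
  rw [← Finset.sum_filter_add_sum_filter_not Finset.univ
    (fun y : G => y ∈ Subgroup.centralizer (Q : Set G)) F, hrest, add_zero]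

/-! ### Relative traces -/

/-- The relative trace from `Q` to `R`. -/
noncomputable def trRel (R Q : Subgroup G) (a : MonoidAlgebra k G) : MonoidAlgebra k G :=
  have := Fintype.ofFinite (R ⧸ Q.subgroupOf R)
  ∑ q : R ⧸ Q.subgroupOf R, cj (q.out : G) a

theorem trRel_def (R Q : Subgroup G) [Fintype (R ⧸ Q.subgroupOf R)] (a : MonoidAlgebra k G) :
    trRel R Q a = ∑ q : R ⧸ Q.subgroupOf R, cj (q.out : G) a := by
  unfold trRel
  convert rfl

omit [Finite G] [CharP k p] in
theorem cj_eq_of_coset {R Q : Subgroup G} {a : MonoidAlgebra k G} (ha : Fixd (Q : Set G) a)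
    {r r' : R} (h : (r : R ⧸ Q.subgroupOf R) = r') : cj (r : G) a = cj (r' : G) a := by
  have hm' : r⁻¹ * r' ∈ Q.subgroupOf R := QuotientGroup.eq.mp h
  have hm : (r : G)⁻¹ * r' ∈ Q := hm'
  rw [show (r' : G) = (r : G) * ((r : G)⁻¹ * r') by group, ← cj_cj, ha _ hm]

theorem fixd_trRel {R Q : Subgroup G} {a : MonoidAlgebra k G} (ha : Fixd (Q : Set G) a) :
    Fixd (R : Set G) (trRel R Q a) := by
  intro u hu
  have := Fintype.ofFinite (R ⧸ Q.subgroupOf R)
  rw [trRel_def, cj_sum]
  refine Fintype.sum_bijective (fun q => (⟨u, hu⟩ : R) • q) (MulAction.bijective _) _ _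
    fun q => ?_
  rw [cj_cj]
  generalize hq' : ((⟨u, hu⟩ : R) • q).out = r'
  have hcos : (((⟨u, hu⟩ : R) * q.out : R) : R ⧸ Q.subgroupOf R) =
      (r' : R ⧸ Q.subgroupOf R) := by
    rw [← hq', QuotientGroup.out_eq']
    exact MulAction.Quotient.mk_smul_out (Q.subgroupOf R) (⟨u, hu⟩ : R) q
  have h2 := cj_eq_of_coset ha hcos
  rw [Subgroup.coe_mul] at h2
  exact h2

theorem mul_trRel_mul {R Q : Subgroup G} {e f : MonoidAlgebra k G} (he : Fixd (R : Set G) e)
    (hf : Fixd (R : Set G) f) (a : MonoidAlgebra k G) :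
    e * trRel R Q a * f = trRel R Q (e * a * f) := by
  have := Fintype.ofFinite (R ⧸ Q.subgroupOf R)
  simp only [trRel_def, Finset.mul_sum, Finset.sum_mul]
  refine Finset.sum_congr rfl fun q _ => ?_
  rw [cj_mul, cj_mul, he _ q.out.2, hf _ q.out.2]

omit [Finite G] in
/-- Cosets of a normal subgroup of prime index are powers of any element outside it. -/
theorem bijective_pow_coset {R N : Subgroup G} [(N.subgroupOf R).Normal]
    (hidx : (N.subgroupOf R).index = p) {u : G} (hu : u ∈ R) (huN : u ∉ N) :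
    Function.Bijective fun l : Fin p =>
      (((⟨u, hu⟩ : R) : R ⧸ N.subgroupOf R)) ^ (l : ℕ) := by
  have hne : ((⟨u, hu⟩ : R) : R ⧸ N.subgroupOf R) ≠ 1 := fun h =>
    huN (show (⟨u, hu⟩ : R) ∈ N.subgroupOf R from (QuotientGroup.eq_one_iff _).mp h)
  have hcard : Nat.card (R ⧸ N.subgroupOf R) = p := hidx
  have : Finite (R ⧸ N.subgroupOf R) :=
    Nat.finite_of_card_ne_zero (hcard ▸ (Fact.out : p.Prime).ne_zero)
  have := Fintype.ofFinite (R ⧸ N.subgroupOf R)
  have hord := orderOf_eq_prime (hcard ▸ pow_card_eq_one') hne (p := p)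
  refine (Fintype.bijective_iff_injective_and_card _).mpr ⟨fun l l' h => Fin.ext ?_, ?_⟩
  · exact pow_injOn_Iio_orderOf (by simp [hord]) (by simp [hord]) h
  · rw [Fintype.card_fin, ← Nat.card_eq_fintype_card, hcard]

omit [CharP k p] in
theorem trRel_eq_sum_pow {R N : Subgroup G} [(N.subgroupOf R).Normal]
    (hidx : (N.subgroupOf R).index = p) {u : G} (hu : u ∈ R) (huN : u ∉ N)
    {a : MonoidAlgebra k G} (ha : Fixd (N : Set G) a) :
    trRel R N a = ∑ l ∈ Finset.range p, cj (u ^ l) a := by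
  have := Fintype.ofFinite (R ⧸ N.subgroupOf R)
  rw [trRel_def, ← Fin.sum_univ_eq_sum_range (fun l => cj (u ^ l) a)]
  refine (Fintype.sum_bijective _ (bijective_pow_coset hidx hu huN) _ _ fun l => ?_).symm
  rw [show u ^ (l : ℕ) = (((⟨u, hu⟩ : R) ^ (l : ℕ) : R) : G) by simp]
  refine cj_eq_of_coset ha ?_
  rw [QuotientGroup.out_eq', QuotientGroup.mk_pow]

theorem br_trRel_eq_zero {R N : Subgroup G} [(N.subgroupOf R).Normal]
    (hidx : (N.subgroupOf R).index = p) {u : G} (hu : u ∈ R) (huN : u ∉ N)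
    {a : MonoidAlgebra k G} (ha : Fixd (N : Set G) a) {Q : Subgroup G} (hQ : u ∈ Q) :
    br Q (trRel R N a) = 0 := by
  classical
  refine MonoidAlgebra.ext (Finsupp.ext fun x => ?_)
  rw [coeff_br]
  split_ifs with hx
  · rw [trRel_eq_sum_pow hidx hu huN ha, MonoidAlgebra.coeff_sum, Finsupp.finsetSum_apply]
    rw [Finset.sum_congr rfl (g := fun _ => a.coeff x) fun l _ => by
      rw [coeff_cj]
      congr 1
      rw [mul_assoc, ← Subgroup.mem_centralizer_iff.mp hx _ (Q.pow_mem hQ l)]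
      group]
    rw [Finset.sum_const, Finset.card_range, nsmul_eq_mul, CharP.cast_eq_zero, zero_mul]
    rfl
  · rfl

open scoped Classical in
/-- An element supported on orbits with stabilizers inside a normal subgroup is a relative
trace. -/
theorem exists_trRel_eq {R Q : Subgroup G} (hQR : Q ≤ R) [hn : (Q.subgroupOf R).Normal]
    {x : MonoidAlgebra k G} (hx : Fixd (R : Set G) x)
    (hst : ∀ g, x.coeff g ≠ 0 → ∀ r ∈ R, r * g * r⁻¹ = g → r ∈ Q) :
    ∃ y, Fixd (Q : Set G) y ∧ (∀ g, y.coeff g ≠ 0 → x.coeff g ≠ 0) ∧ trRel R Q y = x := by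
  have := Fintype.ofFinite (R ⧸ Q.subgroupOf R)
  let s : Setoid G :=
    { r := fun a b => ∃ r ∈ R, r * a * r⁻¹ = b
      iseqv :=
        ⟨fun a => ⟨1, R.one_mem, by group⟩,
          fun ⟨r, hr, h⟩ => ⟨r⁻¹, R.inv_mem hr, by rw [← h]; group⟩,
          fun ⟨r, hr, h⟩ ⟨r', hr', h'⟩ =>
            ⟨r' * r, R.mul_mem hr' hr, by rw [← h', ← h]; group⟩⟩ }
  let rep : G → G := fun g => (Quotient.mk s g).out
  let Y : G → Prop := fun g => ∃ q ∈ Q, q * rep g * q⁻¹ = g
  let y : MonoidAlgebra k G := .ofCoeff (x.coeff.filter Y)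
  have hycoe : ∀ g, y.coeff g = if Y g then x.coeff g else 0 := fun g => by
    rw [MonoidAlgebra.coeff_ofCoeff, Finsupp.filter_apply]
  have hrepr : ∀ g, ∀ r ∈ R, rep (r * g * r⁻¹) = rep g := fun g r hr =>
    congrArg Quotient.out (Quotient.sound (s := s) ⟨r⁻¹, R.inv_mem hr, by group⟩)
  have hrep : ∀ g, ∃ r ∈ R, r * rep g * r⁻¹ = g := fun g =>
    Quotient.exact (Quotient.out_eq (Quotient.mk s g))
  have hyQ : Fixd (Q : Set G) y := by
    intro u hu
    refine MonoidAlgebra.ext (Finsupp.ext fun g => ?_)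
    rw [coeff_cj, hycoe, hycoe, hx.coeff (hQR hu)]
    have : Y (u⁻¹ * g * u) ↔ Y g := by
      have hr := hrepr g u⁻¹ (R.inv_mem (hQR hu))
      rw [inv_inv] at hr
      simp only [Y, hr]
      constructor
      · rintro ⟨q, hq, h⟩
        exact ⟨u * q, Q.mul_mem hu hq, by rw [mul_inv_rev]; calc
          u * q * rep g * (q⁻¹ * u⁻¹) = u * (q * rep g * q⁻¹) * u⁻¹ := by group
          _ = g := by rw [h]; group⟩
      · rintro ⟨q, hq, h⟩
        exact ⟨u⁻¹ * q, Q.mul_mem (Q.inv_mem hu) hq, by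
          calc u⁻¹ * q * rep g * (u⁻¹ * q)⁻¹ = u⁻¹ * (q * rep g * q⁻¹) * u := by group
            _ = _ := by rw [h]⟩
    simp only [this]
  refine ⟨y, hyQ, fun g hg => ?_, ?_⟩
  · rw [hycoe] at hg
    split_ifs at hg with h
    · exact hg
    · exact absurd rfl hg
  refine MonoidAlgebra.ext (Finsupp.ext fun g => ?_)
  rw [trRel_def, MonoidAlgebra.coeff_sum, Finsupp.finsetSum_apply]
  simp only [coeff_cj, hycoe, hx.coeff (SetLike.coe_mem _)]
  by_cases h0 : x.coeff g = 0
  · simp [h0]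
  obtain ⟨r₀, hr₀, hg₀⟩ := hrep g
  have hiff : ∀ q : R ⧸ Q.subgroupOf R,
      Y ((q.out : G)⁻¹ * g * (q.out : G)) ↔ q = ((⟨r₀, hr₀⟩ : R) : R ⧸ Q.subgroupOf R) := by
    intro q
    have hr := hrepr g (q.out : G)⁻¹ (R.inv_mem q.out.2)
    rw [inv_inv] at hr
    conv_rhs => rw [← QuotientGroup.out_eq' q]
    rw [QuotientGroup.eq]
    simp only [Y, hr]
    constructor
    · rintro ⟨u, hu, h⟩
      have hmem : (q.out : G) * u * r₀⁻¹ ∈ Q := by
        refine hst g h0 _ (R.mul_mem (R.mul_mem q.out.2 (hQR hu)) (R.inv_mem hr₀)) ?_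
        calc (q.out : G) * u * r₀⁻¹ * g * ((q.out : G) * u * r₀⁻¹)⁻¹
            = (q.out : G) * (u * (r₀⁻¹ * g * r₀) * u⁻¹) * (q.out : G)⁻¹ := by group
          _ = (q.out : G) * (u * rep g * u⁻¹) * (q.out : G)⁻¹ := by
            conv_lhs => rw [← hg₀]
            group
          _ = g := by rw [h]; group
      show ((q.out : G))⁻¹ * r₀ ∈ Q
      have h2 : ((⟨(q.out : G) * u * r₀⁻¹, R.mul_mem (R.mul_mem q.out.2 (hQR hu))
          (R.inv_mem hr₀)⟩ : R)) ∈ Q.subgroupOf R := hmem
      have h3 := hn.conj_mem _ (Subgroup.inv_mem _ h2) (q.out)⁻¹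
      rw [Subgroup.mem_subgroupOf] at h3
      have h4 := Q.mul_mem h3 hu
      have e : (q.out : G)⁻¹ * ((q.out : G) * u * r₀⁻¹)⁻¹ * ((q.out : G)⁻¹)⁻¹ * u =
          (q.out : G)⁻¹ * r₀ * u⁻¹ * (q.out : G)⁻¹ * (q.out : G) * u := by group
      simp only [Subgroup.coe_mul, Subgroup.coe_inv] at h4
      rw [e] at h4
      simpa [mul_assoc] using h4
    · intro h
      refine ⟨(q.out : G)⁻¹ * r₀, h, ?_⟩
      conv_rhs => rw [← hg₀]
      group
  simp only [hiff]
  rw [Finset.sum_ite_eq' Finset.univ, if_pos (Finset.mem_univ _)]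

end Cfsg.Agent.BC85.Star
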