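import Cfsg.Agent.BC85.Star.Trace
import Cfsg.Agent.BC85.Pairs.Saturation

/-!
# Block idempotents of Brauer pairs in the group algebra

The idempotent of a pair, reduced modulo the local ideal; the pair below a given one is the only
block that survives in the Brauer image of a primitive idempotent.
-/

namespace Cfsg.Agent.BC85.Star

open BlocksCore BlocksDefect
open scoped Classical

universe u

variable {G : Type u} [Group G] [Fintype G] {p : ℕ} [Fact p.Prime] {M : Ideal AlgInt}
  [hP : M.IsPrime]

/-! ### Functions as elements of the group algebra -/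

variable (M) in
/-- A function with values in the local ring, as an element of the group algebra. -/
noncomputable def embO (F : G → ℂ) : OG M G :=
  .ofCoeff (Finsupp.equivFunOnFinite.symm fun g =>
    if h : MemLocalRing M (F g) then ⟨F g, h⟩ else 0)

variable (M) in
/-- A function with values in the local ring, modulo the local ideal. -/
noncomputable def emb (F : G → ℂ) : KG M G :=
  red M G (embO M F)

theorem coe_coeff_embO {F : G → ℂ} (hF : ∀ g, MemLocalRing M (F g)) (g : G) :
    (((embO M F).coeff g : localRing M) : ℂ) = F g := by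
  classical
  rw [embO, MonoidAlgebra.coeff_ofCoeff, Finsupp.equivFunOnFinite_symm_apply_apply,
    dif_pos (hF g)]

theorem coeff_embO_eq_zero {F : G → ℂ} {g : G} (h : F g = 0) : (embO M F).coeff g = 0 := by
  classical
  rw [embO, MonoidAlgebra.coeff_ofCoeff, Finsupp.equivFunOnFinite_symm_apply_apply]
  split_ifs
  · exact Subtype.ext h
  · rfl

theorem coeff_embO_congr {F F' : G → ℂ} {g g' : G} (h : F g = F' g') :
    (embO M F).coeff g = (embO M F').coeff g' := by
  classical
  simp only [embO, MonoidAlgebra.coeff_ofCoeff, Finsupp.equivFunOnFinite_symm_apply_apply, h]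

theorem coeff_emb_eq_zero {F : G → ℂ} {g : G} (h : F g = 0) : (emb M F).coeff g = 0 := by
  rw [emb, red_apply, coeff_embO_eq_zero h, map_zero]

theorem coe_coeff_mul (a b : OG M G) (x : G) :
    (((a * b).coeff x : localRing M) : ℂ) =
      ∑ y : G, ((a.coeff y : localRing M) : ℂ) * ((b.coeff (y⁻¹ * x) : localRing M) : ℂ) := by
  rw [MonoidAlgebra.coeff_mul_apply_left, Finsupp.sum_fintype]
  · push_cast
    rfl
  · intro i
    exact zero_mul _

theorem embO_conv {a b : G → ℂ} (ha : ∀ g, MemLocalRing M (a g))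
    (hb : ∀ g, MemLocalRing M (b g)) : embO M (conv a b) = embO M a * embO M b := by
  refine MonoidAlgebra.ext (Finsupp.ext fun x => Subtype.ext ?_)
  have hab : ∀ g, MemLocalRing M (conv a b g) := fun g => by
    rw [conv_apply]
    exact memLocalRing_sum fun z _ => (localRing M).mul_mem (ha z) (hb _)
  rw [coe_coeff_embO hab, coe_coeff_mul, conv_apply]
  simp only [coe_coeff_embO ha, coe_coeff_embO hb]

theorem emb_conv {a b : G → ℂ} (ha : ∀ g, MemLocalRing M (a g))
    (hb : ∀ g, MemLocalRing M (b g)) : emb M (conv a b) = emb M a * emb M b := by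
  rw [emb, embO_conv ha hb, map_mul]
  rfl

theorem emb_congr {a b : G → ℂ} (ha : ∀ g, MemLocalRing M (a g))
    (hb : ∀ g, MemLocalRing M (b g)) (h : ∀ g, MemLocalIdeal M (a g - b g)) :
    emb M a = emb M b := by
  refine MonoidAlgebra.ext (Finsupp.ext fun g => ?_)
  rw [emb, emb, red_apply, red_apply, Ideal.Quotient.eq, mem_localIdeal_iff]
  push_cast
  rw [coe_coeff_embO ha, coe_coeff_embO hb]
  exact h g

theorem cj_embO (t : G) (F : G → ℂ) :
    cj t (embO M F) = embO M (fun g => F (t⁻¹ * g * t)) := by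
  refine MonoidAlgebra.ext (Finsupp.ext fun g => ?_)
  rw [coeff_cj]
  exact coeff_embO_congr rfl

theorem cj_emb (t : G) (F : G → ℂ) : cj t (emb M F) = emb M (fun g => F (t⁻¹ * g * t)) := by
  rw [emb, ← red_cj, cj_embO]
  rfl

theorem br_emb (Q : Subgroup G) (F : G → ℂ) :
    br Q (emb M F) = emb M ((Subgroup.centralizer (Q : Set G) : Set G).indicator F) := by
  classical
  refine MonoidAlgebra.ext (Finsupp.ext fun g => ?_)
  rw [coeff_br]
  split_ifs with hg
  · rw [emb, emb, red_apply, red_apply]
    exact congrArg _ (coeff_embO_congr (Set.indicator_of_mem hg F).symm)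
  · rw [coeff_emb_eq_zero]
    exact Set.indicator_of_notMem hg F

theorem emb_delta_one : emb M (classInd (1 : G)) = 1 := by
  classical
  refine MonoidAlgebra.ext (Finsupp.ext fun g => ?_)
  rw [MonoidAlgebra.one_def, MonoidAlgebra.coeff_single, Finsupp.single_apply]
  by_cases h : g = 1
  · subst h
    rw [if_pos rfl, emb, red_apply, ← map_one (Ideal.Quotient.mk (localIdeal M))]
    refine congrArg _ (Subtype.ext ?_)
    have h1 : ∀ x : G, MemLocalRing M (classInd (1 : G) x) := fun x => by
      by_cases hx : IsConj (1 : G) x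
      · rw [classInd_apply_of_isConj hx]; exact (localRing M).one_mem
      · rw [classInd_apply_of_not_isConj hx]; exact (localRing M).zero_mem
    rw [coe_coeff_embO h1, classInd_apply_of_isConj (IsConj.refl 1)]
    rfl
  · rw [if_neg (Ne.symm h), coeff_emb_eq_zero]
    exact classInd_apply_of_not_isConj fun hc => h (isConj_one_right.mp hc)

/-! ### The idempotent of a pair -/

variable (M) in
/-- The idempotent of a pair over the residue field. -/
noncomputable def bk (a : BrauerPairIdx G) : KG M G :=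
  emb M (bp a)

variable (M) in
/-- The blocks of the centralizer of `Q`, as pairs. -/
noncomputable def pairsAt (Q : Subgroup G) : Finset (BrauerPairIdx G) :=
  haveI : Finite (IrrCharacter (Subgroup.centralizer (Q : Set G))) := finite_irr
  ((Set.toFinite {f : Set (IrrCharacter (Subgroup.centralizer (Q : Set G))) |
    IsPBlock M f}).toFinset).map ⟨Sigma.mk Q, sigma_mk_injective⟩

omit hP [Fact p.Prime] in
theorem mem_pairsAt {Q : Subgroup G} {a : BrauerPairIdx G} :
    a ∈ pairsAt M Q ↔ a.1 = Q ∧ IsPBlock M a.2 := by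
  simp only [pairsAt, Finset.mem_map, Set.Finite.mem_toFinset, Set.mem_setOf_eq]
  constructor
  · rintro ⟨f, hf, rfl⟩
    exact ⟨rfl, hf⟩
  · obtain ⟨R, f⟩ := a
    rintro ⟨rfl, hf⟩
    exact ⟨f, hf, rfl⟩

theorem mk_mem_pairsAt {Q : Subgroup G} {f : Set (IrrCharacter (Subgroup.centralizer (Q : Set G)))}
    (hf : IsPBlock M f) : (⟨Q, f⟩ : BrauerPairIdx G) ∈ pairsAt M Q :=
  mem_pairsAt.mpr ⟨rfl, hf⟩

variable (hM : IsPModular p M)
include hM

theorem bp_mem {Q : Subgroup G} {a : BrauerPairIdx G} (ha : a ∈ pairsAt M Q) (g : G) :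
    MemLocalRing M (bp a g) :=
  subgroupBlockCoeff_memLocalRing hM (isBlockUnion_isPBlock (mem_pairsAt.mp ha).2) g

theorem bp_idem {Q : Subgroup G} {a : BrauerPairIdx G} (ha : a ∈ pairsAt M Q) :
    IsIdempotentElem (embO M (bp a)) := by
  show _ * _ = _
  rw [← embO_conv (bp_mem hM ha) (bp_mem hM ha)]
  obtain ⟨R, f⟩ := a
  rw [conv_bp, Set.inter_self]

theorem bk_idem {Q : Subgroup G} {a : BrauerPairIdx G} (ha : a ∈ pairsAt M Q) :
    IsIdempotentElem (bk M a) :=
  (bp_idem hM ha).map (red M G)

theorem bk_orth {Q : Subgroup G} {a b : BrauerPairIdx G} (ha : a ∈ pairsAt M Q)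
    (hb : b ∈ pairsAt M Q) (hab : a ≠ b) : bk M a * bk M b = 0 := by
  rw [bk, bk, ← emb_conv (bp_mem hM ha) (bp_mem hM hb)]
  obtain ⟨R, f⟩ := a
  obtain ⟨R', f'⟩ := b
  obtain ⟨h1, hf⟩ := mem_pairsAt.mp ha
  obtain ⟨h2, hf'⟩ := mem_pairsAt.mp hb
  dsimp only at h1 h2 hf hf'
  subst h1 h2
  rw [conv_bp, show f ∩ f' = ∅ from Set.eq_empty_iff_forall_notMem.mpr fun χ hχ =>
    hab (by rw [isPBlock_eq_of_mem hf hf' hχ.1 hχ.2])]
  refine MonoidAlgebra.ext (Finsupp.ext fun g => ?_)
  rw [coeff_emb_eq_zero]
  · rfl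
  by_cases hg : g ∈ Subgroup.centralizer (R' : Set G)
  · show subgroupBlockCoeff _ ∅ g = 0
    rw [subgroupBlockCoeff_of_mem _ _ hg, blockCoeff_empty]
    rfl
  · exact bp_of_notMem R' ∅ hg

omit [Fact p.Prime] hM in
theorem bp_eq_zero {Q : Subgroup G} {a : BrauerPairIdx G} (ha : a ∈ pairsAt M Q) {g : G}
    (hg : g ∉ Subgroup.centralizer (Q : Set G)) : bp a g = 0 := by
  obtain ⟨R, f⟩ := a
  obtain ⟨h, -⟩ := mem_pairsAt.mp ha
  dsimp only at h
  subst h
  exact bp_of_notMem R f hg

omit [Fact p.Prime] hM in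
theorem br_bk {Q : Subgroup G} {a : BrauerPairIdx G} (ha : a ∈ pairsAt M Q) :
    br Q (bk M a) = bk M a :=
  br_eq_self fun x hx => by
    by_contra hxQ
    exact hx (coeff_emb_eq_zero (bp_eq_zero ha hxQ))

omit hM in
theorem cj_bk_of_mem {Q : Subgroup G} {a : BrauerPairIdx G} (ha : a ∈ pairsAt M Q) {c : G}
    (hc : c ∈ Subgroup.centralizer (Q : Set G)) : cj c (bk M a) = bk M a := by
  rw [bk, cj_emb]
  congr 1
  funext g
  obtain ⟨R, f⟩ := a
  obtain ⟨h, -⟩ := mem_pairsAt.mp ha
  dsimp only at h
  subst h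
  have := subgroupBlockCoeff_conj_of_mem (H := Subgroup.centralizer (R : Set G)) f
    (Subgroup.inv_mem _ hc) g
  rwa [inv_inv] at this

omit hM in
/-- The idempotent of a pair commutes with everything supported in the centralizer. -/
theorem commute_bk {Q : Subgroup G} {a : BrauerPairIdx G} (ha : a ∈ pairsAt M Q) {x : KG M G}
    (hx : ∀ g, x.coeff g ≠ 0 → g ∈ Subgroup.centralizer (Q : Set G)) : Commute (bk M a) x := by
  classical
  have hsum : x = ∑ g : G, x.coeff g • MonoidAlgebra.of (Res M) G g :=
    MonoidAlgebra.ext (Finsupp.ext fun g => by simp [Finsupp.single_apply])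
  rw [hsum]
  refine Commute.sum_right _ _ _ fun g _ => ?_
  by_cases hg : x.coeff g = 0
  · rw [hg, zero_smul]
    exact Commute.zero_right _
  · refine Commute.smul_right (Commute.symm ?_) _
    exact (fixd_iff_commute (S := {g})).mp
      (fun v hv => (Set.mem_singleton_iff.mp hv) ▸ cj_bk_of_mem ha (hx _ hg)) g rfl

omit hM in
theorem commute_bk_br {Q : Subgroup G} {a : BrauerPairIdx G} (ha : a ∈ pairsAt M Q)
    (x : KG M G) : Commute (bk M a) (br Q x) :=
  commute_bk ha fun g hg => by
    classical
    by_contra h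
    rw [coeff_br, if_neg h] at hg
    exact hg rfl

omit [Fact p.Prime] hM in
theorem fixd_br {Q : Subgroup G} (x : KG M G) : Fixd (Q : Set G) (br Q x) := by
  classical
  intro u hu
  refine MonoidAlgebra.ext (Finsupp.ext fun g => ?_)
  rw [coeff_cj]
  by_cases hg : g ∈ Subgroup.centralizer (Q : Set G)
  · rw [mul_assoc, ← Subgroup.mem_centralizer_iff.mp hg u hu, inv_mul_cancel_left]
  · rw [coeff_br, coeff_br, if_neg hg, if_neg]
    intro h
    have h2 := (BlocksCore.conj_mem_centralizer_iff (Subgroup.le_normalizer hu)).mpr h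
    rw [show u * (u⁻¹ * g * u) * u⁻¹ = g by group] at h2
    exact hg h2

omit hM in
theorem fixd_bk {Q : Subgroup G} {a : BrauerPairIdx G} (ha : a ∈ pairsAt M Q) :
    Fixd (Q : Set G) (bk M a) := by
  rw [← br_bk ha]
  exact fixd_br _

theorem sum_bk (Q : Subgroup G) : ∑ a ∈ pairsAt M Q, bk M a = 1 := by
  classical
  have : Finite (IrrCharacter (Subgroup.centralizer (Q : Set G))) := finite_irr
  set S := (Set.toFinite {f : Set (IrrCharacter (Subgroup.centralizer (Q : Set G))) |
    IsPBlock M f}).toFinset with hS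
  have hone : (∑ f ∈ S, blockCoeff f) = classInd (1 : Subgroup.centralizer (Q : Set G)) := by
    refine eq_of_omega_eq (fun g h => ?_) (isClassFunction_classInd _) fun χ => ?_
    · simp only [Finset.sum_apply]
      exact Finset.sum_congr rfl fun f _ => isClassFunction_blockCoeff f g h
    · rw [omega_sum, omega_classInd_one, Finset.sum_eq_single (blockOf M
        (χ : Subgroup.centralizer (Q : Set G) → ℂ))]
      · rw [omega_blockCoeff, Set.indicator_of_mem (mem_blockOf_self χ)]; rfl
      · intro f hf hne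
        rw [omega_blockCoeff, Set.indicator_of_notMem fun h =>
          hne (isPBlock_eq_blockOf (by simpa [hS] using hf) h)]
      · exact fun h => absurd (by simpa [hS] using isPBlock_blockOf χ) h
  have hfun : (fun g => ∑ a ∈ pairsAt M Q, bp a g) = classInd (1 : G) := by
    funext g
    rw [pairsAt, Finset.sum_map]
    by_cases hg : g ∈ Subgroup.centralizer (Q : Set G)
    · have h := congrFun hone ⟨g, hg⟩
      rw [Finset.sum_apply] at h
      refine (Finset.sum_congr (by rw [hS]) fun f _ => bp_apply_coe Q f ⟨g, hg⟩).trans (h.trans ?_)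
      by_cases h1 : g = 1
      · subst h1
        rw [show (⟨1, hg⟩ : Subgroup.centralizer (Q : Set G)) = 1 from rfl,
          classInd_apply_of_isConj (IsConj.refl 1), classInd_apply_of_isConj (IsConj.refl 1)]
      · rw [classInd_apply_of_not_isConj, classInd_apply_of_not_isConj]
        · exact fun h => h1 (isConj_one_right.mp h)
        · exact fun h => h1 (congrArg Subtype.val (isConj_one_right.mp h))
    · rw [classInd_apply_of_not_isConj]
      · exact Finset.sum_eq_zero fun f _ => bp_of_notMem Q f hg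
      · intro h
        exact hg ((isConj_one_right.mp h).symm ▸ Subgroup.one_mem _)
  rw [← emb_delta_one (M := M), ← hfun]
  refine MonoidAlgebra.ext (Finsupp.ext fun g => ?_)
  have hb := fun a (ha : a ∈ pairsAt M Q) => bp_mem hM ha g
  rw [MonoidAlgebra.coeff_sum, Finsupp.finsetSum_apply]
  simp only [bk, emb, red_apply]
  rw [← map_sum]
  refine congrArg _ (Subtype.ext ?_)
  rw [AddSubmonoidClass.coe_finset_sum, coe_coeff_embO]
  · exact Finset.sum_congr rfl fun a ha => coe_coeff_embO (bp_mem hM ha) g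
  · exact fun x => memLocalRing_sum fun a ha => bp_mem hM ha x

/-- The Brauer image of the idempotent of a normal subpair contains that of the larger pair. -/
theorem br_bk_mul_of_normal {a b : BrauerPairIdx G}
    (h : IsNormalSubpair p M a.1 a.2 b.1 b.2) : br b.1 (bk M a) * bk M b = bk M b := by
  classical
  obtain ⟨Q, f⟩ := a
  obtain ⟨P, e⟩ := b
  obtain ⟨hf, he, hQP, -, hinv, hsub⟩ := (isNormalSubpair_iff hM).mp h
  have ha : (⟨Q, f⟩ : BrauerPairIdx G) ∈ pairsAt M Q := mk_mem_pairsAt hf.2
  have hb : (⟨P, e⟩ : BrauerPairIdx G) ∈ pairsAt M P := mk_mem_pairsAt he.2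
  set β := bp (⟨Q, f⟩ : BrauerPairIdx G) with hβ
  have hbf : IsBrFun M P β := isBrFun_bp hM (isBlockUnion_isPBlock hf.2) hQP hinv
  have hind : ∀ g, MemLocalRing M ((Subgroup.centralizer (P : Set G) : Set G).indicator β g) :=
    fun g => by
      rw [Set.indicator_apply]
      split_ifs
      exacts [bp_mem hM ha g, (localRing M).zero_mem]
  rw [bk, br_emb, bk, ← emb_conv hind (bp_mem hM hb)]
  refine emb_congr (fun g => ?_) (bp_mem hM hb) fun g => ?_
  · rw [conv_apply]
    exact memLocalRing_sum fun z _ => (localRing M).mul_mem (hind z) (bp_mem hM hb _)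
  by_cases hg : g ∈ Subgroup.centralizer (P : Set G)
  · rw [show g = (Subgroup.centralizer (P : Set G)).subtype ⟨g, hg⟩ from rfl,
      conv_pull_eq (isCentHom_subtype P) (fun y hy => Set.indicator_of_notMem hy β), pullFun_bp,
      show bp (⟨P, e⟩ : BrauerPairIdx G) ((Subgroup.centralizer (P : Set G)).subtype ⟨g, hg⟩) =
        blockCoeff e ⟨g, hg⟩ from bp_apply_coe P e ⟨g, hg⟩]
    rw [show blockCoeff e ⟨g, hg⟩ = blockCoeff (cset M P β ∩ e) ⟨g, hg⟩ by
      rw [Set.inter_eq_right.mpr hsub], ← conv_blockCoeff, conv_apply, conv_apply,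
      ← Finset.sum_sub_distrib]
    refine memLocalIdeal_sum fun d _ => ?_
    rw [← sub_mul]
    refine memLocalIdeal_mul_right ?_ ((isIntClassFun_blockCoeff hM he.2).2 _)
    rw [show pullFun (Subgroup.centralizer (P : Set G)).subtype
        ((Subgroup.centralizer (P : Set G) : Set G).indicator β) d = β d from
      Set.indicator_of_mem d.2 β]
    exact pull_sub_blockCoeff_brSet hM he.1 (isCentHom_subtype P) hbf
      (fun x => by rw [hβ, conv_bp, Set.inter_self, sub_self]; exact memLocalIdeal_zero) d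
  · rw [bp_of_notMem P e hg, sub_zero, conv_apply]
    refine memLocalIdeal_sum fun y _ => ?_
    by_cases hy : y ∈ Subgroup.centralizer (P : Set G)
    · rw [bp_of_notMem P e (g := y⁻¹ * g)
        fun h => hg (by simpa using Subgroup.mul_mem _ hy h), mul_zero]
      exact memLocalIdeal_zero
    · rw [Set.indicator_of_notMem hy, zero_mul]
      exact memLocalIdeal_zero

omit hM in
theorem cj_bk (t : G) (a : BrauerPairIdx G) : cj t (bk M a) = bk M (conjPair t a) := by
  rw [bk, cj_emb, bk]
  congr 1
  funext g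
  rw [bp_conjPair]

end Cfsg.Agent.BC85.Star
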