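import Cfsg.Agent.BC85.Star.Unique
import Cfsg.Agent.Lib.CharCore.Virtual
import Cfsg.Agent.Lib.CharInd.Char
import Mathlib.GroupTheory.Sylow

/-!
# Weighted traces of idempotents fixed by a `p`-subgroup

For a weight `η` on pairs at cyclic `p`-subgroups that is a generalized character below every
pair, the function sending an element `u` of a `p`-subgroup `U` to the weighted trace of `u` on a
`U`-fixed idempotent is a generalized character of `U`.
-/

namespace Cfsg.Agent.BC85.Star

open BlocksCore BlocksDefect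
open scoped Classical ComplexConjugate

universe u

section Algebra

variable {k : Type*} [CommRing k] {G : Type*} [Group G] [Fintype G]

theorem cj_br_map (t : G) (Q : Subgroup G) (a : MonoidAlgebra k G) :
    cj t (br Q a) = br (Q.map (MulAut.conj t).toMonoidHom) (cj t a) := by
  refine MonoidAlgebra.ext (Finsupp.ext fun x => ?_)
  rw [coeff_cj, coeff_br, coeff_br, coeff_cj]
  have h : t⁻¹ * x * t ∈ Subgroup.centralizer (Q : Set G) ↔
      x ∈ Subgroup.centralizer ((Q.map (MulAut.conj t).toMonoidHom : Subgroup G) : Set G) := by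
    simp only [Subgroup.mem_centralizer_iff, SetLike.mem_coe]
    constructor
    · intro h y hy
      have := h _ (mem_map_conj_iff.mp hy)
      calc y * x = t * (t⁻¹ * y * t * (t⁻¹ * x * t)) * t⁻¹ := by group
        _ = x * y := by rw [this]; group
    · intro h y hy
      have := h (t * y * t⁻¹) (mem_map_conj_iff.mpr (by simpa [mul_assoc] using hy))
      calc y * (t⁻¹ * x * t) = t⁻¹ * (t * y * t⁻¹ * x) * t := by group
        _ = _ := by rw [this]; group
  by_cases hx : t⁻¹ * x * t ∈ Subgroup.centralizer (Q : Set G)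
  · rw [if_pos hx, if_pos (h.mp hx)]
  · rw [if_neg hx, if_neg fun h' => hx (h.mpr h')]

theorem map_conj_zpowers (t u : G) :
    (Subgroup.zpowers u).map (MulAut.conj t).toMonoidHom = Subgroup.zpowers (t * u * t⁻¹) := by
  rw [MonoidHom.map_zpowers]
  rfl

end Algebra

/-- A maximal normal subgroup above a proper subgroup of a `p`-group. -/
theorem exists_index_p {G : Type*} [Group G] [Finite G] {p : ℕ} [Fact p.Prime] {U S : Subgroup G}
    (hU : IsPGroup p U) (hSU : S < U) :
    ∃ N : Subgroup G, S ≤ N ∧ N ≤ U ∧ (N.subgroupOf U).Normal ∧ (N.subgroupOf U).index = p := by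
  have hp := (Fact.out : p.Prime)
  obtain ⟨n, hn⟩ := hU.exists_card_eq
  obtain ⟨j, hj⟩ := (hU.to_subgroup (S.subgroupOf U)).exists_card_eq
  have hjn : j < n := by
    have hlt : Nat.card (S.subgroupOf U) < Nat.card U := by
      rw [Nat.card_congr (Subgroup.subgroupOfEquivOfLe hSU.le).toEquiv]
      exact lt_of_not_ge fun h => hSU.ne (Subgroup.eq_of_le_of_card_ge hSU.le h)
    rw [hj, hn] at hlt
    exact (Nat.pow_lt_pow_iff_right hp.one_lt).mp hlt
  obtain ⟨m, rfl⟩ : ∃ m, n = m + 1 := ⟨n - 1, by omega⟩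
  obtain ⟨K, hK, hSK⟩ := Sylow.exists_subgroup_card_pow_prime_le p
    (show p ^ m ∣ Nat.card U by rw [hn]; exact pow_dvd_pow p (Nat.le_succ m))
    (S.subgroupOf U) hj (by omega)
  have hidx : K.index = p := by
    have h := K.card_mul_index
    rw [hK, hn, pow_succ] at h
    exact Nat.eq_of_mul_eq_mul_left (pow_pos hp.pos m) h
  have hnorm : K.Normal := Subgroup.normal_of_index_eq_minFac_card (by
    rw [hidx, hn, hp.pow_minFac (Nat.succ_ne_zero m)])
  refine ⟨K.map U.subtype, fun s hs => ?_, Subgroup.map_subtype_le K, ?_, ?_⟩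
  · exact ⟨⟨s, hSU.le hs⟩, hSK hs, rfl⟩
  all_goals rw [Subgroup.subgroupOf, Subgroup.comap_map_eq_self_of_injective U.subtype_injective]
  exacts [hnorm, hidx]

variable {G : Type u} [Group G] [Fintype G] {p : ℕ} [Fact p.Prime] {M : Ideal AlgInt}
  [hP : M.IsPrime]

/-- A weight on pairs at cyclic `p`-subgroups that is fixed under conjugation and, below every
pair, is a generalized character. -/
structure IsWeight (p : ℕ) (M : Ideal AlgInt) (η : BrauerPairIdx G → G → ℂ) : Prop where
  conj_eq : ∀ (a : BrauerPairIdx G) (x v : G), (∃ n : ℕ, orderOf v = p ^ n) →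
    a ∈ pairsAt M (Subgroup.zpowers v) → η (conjPair x a) (x * v * x⁻¹) = η a v
  gen_below : ∀ (U : Subgroup G) (e : Set (IrrCharacter (Subgroup.centralizer (U : Set G)))),
    IsBrauerPair p M U e → ∃ Θ : U → ℂ, IsGeneralizedCharacter U Θ ∧
      ∀ (v : U) (f : Set (IrrCharacter (Subgroup.centralizer
        ((Subgroup.zpowers (v : G) : Subgroup G) : Set G)))),
        SubpairLE p M (Subgroup.zpowers (v : G)) f U e →
          η ⟨Subgroup.zpowers (v : G), f⟩ v = Θ v

variable {n : ℕ} (ρ : Representation ℂ G (Fin n → ℂ)) (η : BrauerPairIdx G → G → ℂ)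

variable (M) in
/-- The weighted trace at `v` of an idempotent. -/
noncomputable def hfun (ε : KG M G) (v : G) : ℂ :=
  ∑ a ∈ pairsAt M (Subgroup.zpowers v),
    η a v * val ρ v (br (Subgroup.zpowers v) ε * bk M a)

variable (hM : IsPModular p M)
include hM

omit [Fact p.Prime] in
theorem term_idem {v : G} (hv : ∃ n : ℕ, orderOf v = p ^ n) {ε : KG M G}
    (hε : IsIdempotentElem ε) (hf : Fixd {v} ε) {a : BrauerPairIdx G}
    (ha : a ∈ pairsAt M (Subgroup.zpowers v)) :
    IsIdempotentElem (br (Subgroup.zpowers v) ε * bk M a) ∧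
      Fixd {v} (br (Subgroup.zpowers v) ε * bk M a) := by
  have : Fact p.Prime := ⟨hM.1⟩
  have := charP_res (M := M) hM
  obtain ⟨m, hm⟩ := hv
  have hp : IsPGroup p (Subgroup.zpowers v) :=
    IsPGroup.of_card (n := m) (by rw [Nat.card_zpowers, hm])
  have hb : IsIdempotentElem (br (Subgroup.zpowers v) ε) := by
    show _ * _ = _
    rw [← br_mul hp (fixd_zpowers.mpr hf) (fixd_zpowers.mpr hf), hε.eq]
  exact ⟨IsIdempotentElem.mul_of_commute (commute_bk_br ha ε).symm hb (bk_idem hM ha),
    fixd_zpowers.mp ((fixd_br ε).mul (fixd_bk ha))⟩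

theorem hfun_sum {v : G} (hv : ∃ n : ℕ, orderOf v = p ^ n) {ι : Type*} (s : Finset ι)
    (j : ι → KG M G) (h : ∀ i ∈ s, IsIdempotentElem (j i) ∧ Fixd {v} (j i))
    (o : ∀ i ∈ s, ∀ l ∈ s, i ≠ l → j i * j l = 0) :
    hfun M ρ η (∑ i ∈ s, j i) v = ∑ i ∈ s, hfun M ρ η (j i) v := by
  have := charP_res (M := M) hM
  have hv' := hv
  obtain ⟨m, hm⟩ := hv'
  have hp : IsPGroup p (Subgroup.zpowers v) :=
    IsPGroup.of_card (n := m) (by rw [Nat.card_zpowers, hm])
  simp only [hfun]
  rw [Finset.sum_comm]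
  refine Finset.sum_congr rfl fun a ha => ?_
  rw [← Finset.mul_sum, br_sum, Finset.sum_mul, val_sum ρ s _
    (fun i hi => term_idem hM hv (h i hi).1 (h i hi).2 ha) fun i hi l hl hil => ?_]
  rw [mul_assoc, ← mul_assoc (bk M a), (commute_bk_br ha (j l)).eq, mul_assoc (br _ (j l)),
    (bk_idem hM ha).eq, ← mul_assoc,
    ← br_mul hp (fixd_zpowers.mpr (h i hi).2) (fixd_zpowers.mpr (h l hl).2), o i hi l hl hil,
    br_zero, zero_mul]

theorem hfun_mul_comm {v : G} (hv : ∃ n : ℕ, orderOf v = p ^ n) {x y : KG M G}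
    (hx : Fixd {v} x) (hy : Fixd {v} y) (hxy : IsIdempotentElem (x * y))
    (hyx : IsIdempotentElem (y * x)) : hfun M ρ η (x * y) v = hfun M ρ η (y * x) v := by
  have := charP_res (M := M) hM
  have hv' := hv
  obtain ⟨m, hm⟩ := hv'
  have hp : IsPGroup p (Subgroup.zpowers v) :=
    IsPGroup.of_card (n := m) (by rw [Nat.card_zpowers, hm])
  refine Finset.sum_congr rfl fun a ha => ?_
  congr 1
  have hA := fixd_zpowers.mp
    ((fixd_br (Q := Subgroup.zpowers v) x).mul (fixd_bk (M := M) ha))
  have hB := fixd_zpowers.mp (fixd_br (Q := Subgroup.zpowers v) y)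
  have e1 : br (Subgroup.zpowers v) (x * y) * bk M a =
      br (Subgroup.zpowers v) x * bk M a * br (Subgroup.zpowers v) y := by
    rw [br_mul hp (fixd_zpowers.mpr hx) (fixd_zpowers.mpr hy), mul_assoc, mul_assoc,
      (commute_bk_br ha y).eq]
  have e2 : br (Subgroup.zpowers v) (y * x) * bk M a =
      br (Subgroup.zpowers v) y * (br (Subgroup.zpowers v) x * bk M a) := by
    rw [br_mul hp (fixd_zpowers.mpr hy) (fixd_zpowers.mpr hx), mul_assoc]
  have h1 := (term_idem hM hv hxy (hx.mul hy) ha).1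
  have h2 := (term_idem hM hv hyx (hy.mul hx) ha).1
  rw [e1] at h1 ⊢
  rw [e2] at h2 ⊢
  exact val_mul_comm ρ hA hB h1 h2

theorem hfun_cj (hη : IsWeight p M η) {v : G} (hv : ∃ n : ℕ, orderOf v = p ^ n) (t : G)
    (ε : KG M G) : hfun M ρ η (cj t ε) (t * v * t⁻¹) = hfun M ρ η ε v := by
  have hmem : ∀ (t v : G) (a : BrauerPairIdx G), (∃ n : ℕ, orderOf v = p ^ n) →
      a ∈ pairsAt M (Subgroup.zpowers v) →
      conjPair t a ∈ pairsAt M (Subgroup.zpowers (t * v * t⁻¹)) := by
    intro t v a hv ha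
    obtain ⟨h1, h2⟩ := mem_pairsAt.mp ha
    obtain ⟨m, hm⟩ := hv
    refine mem_pairsAt.mpr ⟨by rw [conjPair_fst, h1, map_conj_zpowers], ?_⟩
    exact (isBrauerPair_conj hM (a := a)
      ⟨h1 ▸ IsPGroup.of_card (n := m) (by rw [Nat.card_zpowers, hm]), h2⟩ t).2
  have hord : ∃ n : ℕ, orderOf (t * v * t⁻¹) = p ^ n := by
    obtain ⟨m, hm⟩ := hv
    exact ⟨m, by rw [← MulAut.conj_apply, MulEquiv.orderOf_eq, hm]⟩
  refine (Finset.sum_bij' (fun a _ => conjPair t a) (fun a _ => conjPair t⁻¹ a)
    (fun a ha => hmem t v a hv ha) (fun a ha => ?_) (fun a _ => ?_) (fun a _ => ?_)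
    fun a ha => ?_).symm
  · have := hmem t⁻¹ _ a hord ha
    rwa [show t⁻¹ * (t * v * t⁻¹) * t⁻¹⁻¹ = v by group] at this
  · rw [conjPair_conjPair, inv_mul_cancel, conjPair_one]
  · rw [conjPair_conjPair, mul_inv_cancel, conjPair_one]
  · rw [hη.conj_eq a t v hv ha, ← cj_bk, ← map_conj_zpowers, ← cj_br_map, ← cj_mul, val_cj]

omit [Fact p.Prime] in
theorem hfun_eq_zero {v : G} {ε : KG M G} (h : br (Subgroup.zpowers v) ε = 0) :
    hfun M ρ η ε v = 0 :=
  Finset.sum_eq_zero fun a _ => by rw [h, zero_mul, val_zero, mul_zero]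

theorem hfun_isClassFunction (hη : IsWeight p M η) {U : Subgroup G} (hU : IsPGroup p U)
    {ε : KG M G} (hε : Fixd (U : Set G) ε) :
    IsClassFunction U (fun v : U => hfun M ρ η ε v) := by
  intro v t
  show hfun M ρ η ε ((t * v * t⁻¹ : U) : G) = _
  push_cast
  conv_lhs => rw [← hε _ t.2]
  exact hfun_cj ρ η hM hη (orderOf_pow_of_mem hU v.2) _ _

/-- A fixed idempotent affords a character. -/
theorem isCharacter_val {U : Subgroup G} {ε : KG M G} (hε : IsIdempotentElem ε)
    (hf : Fixd (U : Set G) ε) : IsCharacter U (fun v : U => val ρ (v : G) ε) := by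
  obtain ⟨e, he, hef, her⟩ := exists_idem_lift hε hf
  let F : OG M G →+* Module.End ℂ (Fin n → ℂ) := ρ.asAlgebraHom.toRingHom.comp
    (MonoidAlgebra.mapRingHom G (localRing M).subtype)
  have hFof : ∀ g : G, F (MonoidAlgebra.of _ G g) = ρ g := fun g => by
    simp [F, MonoidAlgebra.of_apply]
  set W : Submodule ℂ (Fin n → ℂ) := LinearMap.range (F e) with hW
  have hcomm : ∀ v : U, Commute (ρ v) (F e) := fun v => by
    rw [← hFof]
    exact (fixd_iff_commute.mp hef _ v.2).map F
  have hstab : ∀ (v : U), ∀ w ∈ W, ρ v w ∈ W := by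
    rintro v _ ⟨w, rfl⟩
    exact ⟨ρ v w, (LinearMap.congr_fun (hcomm v).eq w).symm⟩
  let σ : Representation ℂ U W :=
    { toFun := fun v => (ρ v).restrict (hstab v)
      map_one' := LinearMap.ext fun w => Subtype.ext (by simp)
      map_mul' := fun a b => LinearMap.ext fun w => Subtype.ext (by simp) }
  convert CharInd.isCharacter_of_rep σ using 1
  funext v
  rw [val_eq ρ he (hef.mono (Set.singleton_subset_iff.mpr v.2)) her, tau_apply]
  have hmap : ∀ w, (ρ v ∘ₗ F e) w ∈ W := fun w => hstab v _ ⟨w, rfl⟩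
  have htr := LinearMap.trace_restrict_eq_of_forall_mem W (ρ v ∘ₗ F e) hmap
  calc LinearMap.trace ℂ (Fin n → ℂ) (F (MonoidAlgebra.of _ G (v : G) * e))
      = LinearMap.trace ℂ (Fin n → ℂ) (ρ v ∘ₗ F e) := by rw [map_mul, hFof]; rfl
    _ = σ.character v := by
      rw [← htr, Representation.character]
      congr 1
      refine LinearMap.ext fun w => Subtype.ext ?_
      show ρ v (F e w) = ρ v w
      obtain ⟨_, z, rfl⟩ := w
      show ρ v (F e (F e z)) = ρ v (F e z)
      rw [← Module.End.mul_apply (F e) (F e) z, ← map_mul F, he.eq]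

/-- The primitive case with non-zero Brauer image. -/
theorem hfun_gen_of_br_ne_zero (hη : IsWeight p M η) {U : Subgroup G} (hU : IsPGroup p U)
    {i : KG M G} (hi : IsPrim (U : Set G) i) (hiU : br U i ≠ 0) :
    IsGeneralizedCharacter U (fun v : U => hfun M ρ η i v) := by
  have := charP_res (M := M) hM
  obtain ⟨a, ha, hane⟩ : ∃ a ∈ pairsAt M U, br U i * bk M a ≠ 0 := by
    refine Finset.exists_ne_zero_of_sum_ne_zero ?_
    rw [← Finset.mul_sum, sum_bk hM, mul_one]
    exact hiU
  have hcomm : Commute (br U i) (br U (bk M a)) := (br_bk ha).symm ▸ (commute_bk_br ha i).symm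
  have hdich := prim_br_dichotomy hU hi (bk_idem hM ha) (fixd_bk ha) hcomm
  rw [br_bk ha] at hdich
  obtain ⟨R, e⟩ := a
  obtain ⟨hR, heb⟩ := mem_pairsAt.mp ha
  dsimp only at hR
  subst hR
  have he : IsBrauerPair p M R e := ⟨hU, heb⟩
  have hie := hdich.resolve_left hane
  obtain ⟨Θ, hΘ, hΘη⟩ := hη.gen_below R e he
  convert CharCore.isGeneralized_mul hΘ
    (CharCore.IsCharacter.isGeneralized (isCharacter_val ρ hM hi.idem hi.fixd)) using 1
  funext v
  rw [Pi.mul_apply]
  set Q := Subgroup.zpowers (v : G) with hQ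
  have hQR : Q ≤ R := Subgroup.zpowers_le.mpr v.2
  obtain ⟨f, hf⟩ := exists_below hM he hQR
  have hfb : (⟨Q, f⟩ : BrauerPairIdx G) ∈ pairsAt M Q :=
    mk_mem_pairsAt (subpairLE_isBrauerPair hf he).2
  have hkey := br_mul_bk_below hM he hi hiU hie (Nat.card R) Q (Nat.le_add_left _ _) f hf
  rw [hfun, Finset.sum_eq_single (⟨Q, f⟩ : BrauerPairIdx G), hkey, hΘη v f hf]
  · congr 1
    have hord := orderOf_pow_of_mem hU v.2
    have hQp : IsPGroup p Q := hU.to_le hQR
    have hfix := hi.fixd.mono (SetLike.coe_subset_coe.mpr hQR)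
    refine val_eq_of_br_eq ρ hM hord ?_ hi.idem (fixd_zpowers.mp (fixd_br i))
      (hi.fixd.mono (Set.singleton_subset_iff.mpr v.2)) ?_
    · show _ * _ = _
      rw [← br_mul hQp hfix hfix, hi.idem.eq]
    · rw [br_mono le_rfl]
  · intro b hb hne
    rw [← hkey, mul_assoc, bk_orth hM hfb hb (Ne.symm hne), mul_zero, val_zero, mul_zero]
  · exact fun h => absurd hfb h

/-- A primitive idempotent with zero Brauer image is a trace from a subgroup of index `p`. -/
theorem exists_trace_of_br_eq_zero {U : Subgroup G} (hU : IsPGroup p U) {i : KG M G}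
    (hi : IsPrim (U : Set G) i) (hiU : br U i = 0) :
    ∃ N : Subgroup G, N ≤ U ∧ (N.subgroupOf U).Normal ∧ (N.subgroupOf U).index = p ∧
      ∃ c : KG M G, Fixd (N : Set G) c ∧ trRel U N c = i := by
  have : Fintype (Subgroup G) := Fintype.ofFinite _
  let good : Subgroup G → Prop := fun N =>
    N ≤ U ∧ (N.subgroupOf U).Normal ∧ (N.subgroupOf U).index = p
  let pick : G → Subgroup G := fun g =>
    Classical.epsilon fun N => good N ∧ ∀ r ∈ U, r * g * r⁻¹ = g → r ∈ N
  have hpick : ∀ g, i.coeff g ≠ 0 →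
      good (pick g) ∧ ∀ r ∈ U, r * g * r⁻¹ = g → r ∈ pick g := by
    intro g hg
    refine Classical.epsilon_spec
      (p := fun N => good N ∧ ∀ r ∈ U, r * g * r⁻¹ = g → r ∈ N) ?_
    have hgU : g ∉ Subgroup.centralizer (U : Set G) := fun h => hg (by
      have h2 := congrArg (fun a => a.coeff g) hiU
      simp only [coeff_br, if_pos h] at h2
      simpa using h2)
    have hlt : U ⊓ Subgroup.centralizer ({g} : Set G) < U := by
      refine lt_of_le_of_ne inf_le_left fun h => hgU ?_
      refine Subgroup.mem_centralizer_iff.mpr fun v hv => ?_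
      exact Subgroup.mem_centralizer_singleton_iff.mp
        (Subgroup.mem_inf.mp (h.symm ▸ hv : v ∈ U ⊓ Subgroup.centralizer ({g} : Set G))).2
    obtain ⟨N, hSN, h1, h2, h3⟩ := exists_index_p hU hlt
    exact ⟨N, ⟨h1, h2, h3⟩, fun r hr hrg => hSN (Subgroup.mem_inf.mpr
      ⟨hr, Subgroup.mem_centralizer_singleton_iff.mpr (mul_inv_eq_iff_eq_mul.mp hrg)⟩)⟩
  have hconst : ∀ w ∈ U, ∀ g, pick (w * g * w⁻¹) = pick g := by
    intro w hw g
    show Classical.epsilon _ = Classical.epsilon _
    congr 1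
    funext N
    refine propext (and_congr_right fun hN => ⟨fun h r hr hrg => ?_, fun h r hr hrg => ?_⟩)
    · have h1 := h (w * r * w⁻¹) (U.mul_mem (U.mul_mem hw hr) (U.inv_mem hw)) (by
        conv_rhs => rw [← hrg]
        group)
      have h2 := hN.2.1.conj_mem ⟨_, U.mul_mem (U.mul_mem hw hr) (U.inv_mem hw)⟩ h1
        (⟨w, hw⟩⁻¹ : U)
      simpa [Subgroup.mem_subgroupOf, mul_assoc] using h2
    · have h1 := h (w⁻¹ * r * w) (U.mul_mem (U.mul_mem (U.inv_mem hw) hr) hw) (by
        calc w⁻¹ * r * w * g * (w⁻¹ * r * w)⁻¹ = w⁻¹ * (r * (w * g * w⁻¹) * r⁻¹) * w := by group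
          _ = g := by rw [hrg]; group)
      have h2 := hN.2.1.conj_mem ⟨_, U.mul_mem (U.mul_mem (U.inv_mem hw) hr) hw⟩ h1
        (⟨w, hw⟩ : U)
      simpa [Subgroup.mem_subgroupOf, mul_assoc] using h2
  let part : Subgroup G → KG M G := fun N => .ofCoeff (i.coeff.filter fun g => pick g = N)
  have hcoe : ∀ N g, (part N).coeff g = if pick g = N then i.coeff g else 0 := fun N g => by
    rw [MonoidAlgebra.coeff_ofCoeff, Finsupp.filter_apply]
  have hsum : i = ∑ N ∈ Finset.univ.filter good, part N := by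
    refine MonoidAlgebra.ext (Finsupp.ext fun g => ?_)
    rw [MonoidAlgebra.coeff_sum, Finsupp.finsetSum_apply]
    simp only [hcoe, Finset.sum_ite_eq]
    by_cases hg : i.coeff g = 0
    · rw [hg]; split_ifs <;> rfl
    · rw [if_pos (Finset.mem_filter.mpr ⟨Finset.mem_univ _, (hpick g hg).1⟩)]
  have hfix : ∀ N, Fixd (U : Set G) (part N) := by
    intro N w hw
    refine MonoidAlgebra.ext (Finsupp.ext fun g => ?_)
    rw [coeff_cj, hcoe, hcoe, hi.fixd.coeff hw]
    have h := hconst w⁻¹ (U.inv_mem hw) g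
    rw [inv_inv] at h
    simp only [h]
  have hex : ∀ N, ∃ y, good N → (Fixd (N : Set G) y ∧ trRel U N y = part N) := by
    intro N
    by_cases hN : good N
    · have := hN.2.1
      obtain ⟨y, hy, -, hy'⟩ := exists_trRel_eq (Q := N) hN.1 (hfix N) fun g hg r hr hrg => by
        rw [hcoe] at hg
        split_ifs at hg with hgN
        · exact hgN ▸ (hpick g hg).2 r hr hrg
        · exact absurd rfl hg
      exact ⟨y, fun _ => ⟨hy, hy'⟩⟩
    · exact ⟨0, fun h => absurd h hN⟩
  choose y hy using hex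
  obtain ⟨N, hN, c, hc, -, hctr⟩ := exists_trRel_of_eq_sum hi (Finset.univ.filter good) id y
    (fun N hN => (hy N (Finset.mem_filter.mp hN).2).1)
    (fun N hN => (Finset.mem_filter.mp hN).2.1)
    (hsum.trans (Finset.sum_congr rfl fun N hN => (hy N (Finset.mem_filter.mp hN).2).2.symm))
  exact ⟨N, (Finset.mem_filter.mp hN).2.1, (Finset.mem_filter.mp hN).2.2.1,
    (Finset.mem_filter.mp hN).2.2.2, c, hc, hctr⟩

/-- The weighted trace of a fixed primitive idempotent is a generalized character. -/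
theorem hfun_gen_prim (hη : IsWeight p M η) : ∀ (m : ℕ) (U : Subgroup G), Nat.card U ≤ m →
    IsPGroup p U → ∀ i : KG M G, IsPrim (U : Set G) i →
      IsGeneralizedCharacter U (fun v : U => hfun M ρ η i v) := by
  have := charP_res (M := M) hM
  intro m
  induction m with
  | zero => exact fun U hc => absurd hc (not_le.mpr Nat.card_pos)
  | succ m ih =>
    intro U hcard hU i hi
    by_cases hiU : br U i = 0
    swap
    · exact hfun_gen_of_br_ne_zero ρ η hM hη hU hi hiU
    obtain ⟨N, hNU, hNn, hidx, c, hc, htr⟩ := exists_trace_of_br_eq_zero hM hU hi hiU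
    have hp := (Fact.out : p.Prime)
    obtain ⟨t, htU, htN⟩ : ∃ t ∈ U, t ∉ N := by
      by_contra hno
      push Not at hno
      have : (N.subgroupOf U).index = 1 := by
        rw [Subgroup.index_eq_one, Subgroup.subgroupOf_eq_top]
        exact hno
      exact hp.one_lt.ne' (hidx.symm.trans this)
    have hsum : ∑ l ∈ Finset.range p, cj (t ^ l) c = i :=
      (trRel_eq_sum_pow hidx htU htN hc).symm.trans htr
    have htn : t ∈ Subgroup.normalizer (N : Set G) :=
      (Subgroup.normal_subgroupOf_iff_le_normalizer hNU).mp hNn htU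
    have hcardN : Nat.card N * p = Nat.card U := by
      rw [← Nat.card_congr (Subgroup.subgroupOfEquivOfLe hNU).toEquiv, ← hidx,
        Subgroup.card_mul_index]
    have hNp : IsPGroup p N := hU.to_le hNU
    have hNm : Nat.card N ≤ m := by
      have h1 : Nat.card N * 2 ≤ Nat.card U :=
        hcardN ▸ Nat.mul_le_mul_left _ hp.two_le
      have h2 := Nat.card_pos (α := N)
      omega
    obtain ⟨d, j, hj, ho, hs⟩ := exists_prim_decomposition (N : Set G) i hi.idem
      (hi.fixd.mono (SetLike.coe_subset_coe.mpr hNU))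
    have hdec : IsDecomp (N : Set G) i j := ⟨hj, ho, hs⟩
    refine CharCore.isGeneralizedCharacter_iff.mpr
      ⟨hfun_isClassFunction ρ η hM hη hU hi.fixd, fun ψ => ?_⟩
    set ψN : N → ℂ := fun v => (ψ : U → ℂ) (Subgroup.inclusion hNU v) with hψN
    have hψgen : IsGeneralizedCharacter N ψN :=
      CharCore.isGeneralized_comp (CharCore.irr_isGeneralized ψ) (Subgroup.inclusion hNU)
    set I : KG M G → ℂ := fun a => classInner (fun v : N => hfun M ρ η a v) ψN with hI
    set Φ : KG M G → Res M := fun a =>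
      if h : ∃ z : ℤ, I a = z then ((h.choose : ℤ) : Res M) else 0 with hΦdef
    have hΦI : ∀ a b, I a = I b → Φ a = Φ b := fun a b h => by
      simp only [hΦdef]
      by_cases ha : ∃ z : ℤ, I a = z
      · have hb : ∃ z : ℤ, I b = z := h ▸ ha
        rw [dif_pos ha, dif_pos hb]
        congr 1
        exact_mod_cast (ha.choose_spec.symm.trans (h.trans hb.choose_spec))
      · rw [dif_neg ha, dif_neg (h ▸ ha)]
    have hint : ∀ l, ∃ z : ℤ, I (j l) = z := fun l =>
      CharCore.IsGeneralizedCharacter.exists_classInner_eq_intCast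
        (ih N hNm hNp (j l) (hj l).1) hψgen
    choose z hz using hint
    have hΦz : ∀ l, Φ (j l) = (z l : Res M) := fun l => by
      simp only [hΦdef]
      rw [dif_pos ⟨z l, hz l⟩]
      congr 1
      exact_mod_cast ((⟨z l, hz l⟩ : ∃ w : ℤ, I (j l) = w).choose_spec.symm.trans (hz l))
    have hsum0 : ∑ l, Φ (j l) = 0 := by
      refine weighted_sum_eq_zero htn (hi.fixd _ htU) hc hsum hdec Φ
        (fun a b ha hb hab hba => hΦI _ _ ?_) fun a ha => hΦI _ _ ?_
      · simp only [hI]
        congr 1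
        funext v
        exact hfun_mul_comm ρ η hM (orderOf_pow_of_mem hNp v.2)
          (ha.mono (Set.singleton_subset_iff.mpr v.2)) (hb.mono (Set.singleton_subset_iff.mpr v.2))
          hab.idem hba.idem
      · simp only [hI, classInner]
        congr 1
        let e : N ≃ N :=
          { toFun := fun v => ⟨t * v * t⁻¹, (Subgroup.mem_normalizer_iff.mp htn v).mp v.2⟩
            invFun := fun v => ⟨t⁻¹ * v * t, by
              have := (Subgroup.mem_normalizer_iff.mp (Subgroup.inv_mem _ htn) v).mp v.2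
              rwa [inv_inv] at this⟩
            left_inv := fun v => Subtype.ext (by simp [mul_assoc])
            right_inv := fun v => Subtype.ext (by simp [mul_assoc]) }
        refine (Fintype.sum_equiv e _ _ fun v => ?_).symm
        have hψv : ψN (e v) = ψN v := by
          have := CharCore.IsGeneralizedCharacter.isClassFunction (CharCore.irr_isGeneralized ψ)
            (Subgroup.inclusion hNU v) ⟨t, htU⟩
          exact this
        rw [hψv]
        congr 1
        exact (hfun_cj ρ η hM hη (orderOf_pow_of_mem hNp v.2) t a).symm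
    have hdvd : (p : ℤ) ∣ ∑ l, z l := by
      rw [← CharP.intCast_eq_zero_iff (Res M) p, Int.cast_sum]
      simpa only [hΦz] using hsum0
    obtain ⟨w, hw⟩ := hdvd
    refine ⟨w, ?_⟩
    have hoff : ∀ v : U, (v : G) ∉ N → hfun M ρ η i v = 0 := fun v hv =>
      hfun_eq_zero ρ η hM (htr ▸ br_trRel_eq_zero hidx v.2 hv hc (Subgroup.mem_zpowers _))
    have hon : ∀ v : N, hfun M ρ η i v = ∑ l, hfun M ρ η (j l) v := fun v => by
      conv_lhs => rw [← hs]
      exact hfun_sum ρ η hM (orderOf_pow_of_mem hNp v.2) Finset.univ j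
        (fun l _ => ⟨(hj l).1.idem, (hj l).1.fixd.mono (Set.singleton_subset_iff.mpr v.2)⟩)
        fun l _ l' _ h => ho l l' h
    set F : U → ℂ := fun v => hfun M ρ η i v * conj ((ψ : U → ℂ) v) with hF
    have hres : ∑ v : U, F v = ∑ v : N, F (Subgroup.inclusion hNU v) := by
      rw [← Finset.sum_filter_add_sum_filter_not Finset.univ (fun v : U => (v : G) ∈ N),
        Finset.sum_eq_zero (s := Finset.univ.filter fun v : U => ¬ (v : G) ∈ N) (fun v hv => by
          simp only [hF, hoff v (Finset.mem_filter.mp hv).2, zero_mul]), add_zero]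
      exact (Finset.sum_bij (fun v _ => Subgroup.inclusion hNU v)
        (fun v _ => Finset.mem_filter.mpr ⟨Finset.mem_univ _, v.2⟩)
        (fun a _ b _ h => Subgroup.inclusion_injective hNU h)
        (fun v hv => ⟨⟨v, (Finset.mem_filter.mp hv).2⟩, Finset.mem_univ _, rfl⟩)
        (fun v _ => rfl)).symm
    have hN0 : (Nat.card N : ℂ) ≠ 0 := Nat.cast_ne_zero.mpr Nat.card_pos.ne'
    have hsumI : ∑ v : N, F (Subgroup.inclusion hNU v) = (Nat.card N : ℂ) * ∑ l, (z l : ℂ) := by
      rw [Finset.mul_sum]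
      simp only [← hz, hI, classInner, mul_inv_cancel_left₀ hN0]
      rw [Finset.sum_comm]
      refine Finset.sum_congr rfl fun v _ => ?_
      simp only [hF, hψN]
      rw [← Finset.sum_mul]
      congr 1
      exact hon v
    simp only [classInner]
    show (Nat.card U : ℂ)⁻¹ * ∑ v : U, F v = _
    rw [hres, hsumI, ← Int.cast_sum, hw, ← hcardN]
    push_cast
    have hp0 : (p : ℂ) ≠ 0 := Nat.cast_ne_zero.mpr hp.ne_zero
    field_simp [hp0]

/-- The weighted trace of a fixed idempotent is a generalized character. -/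
theorem hfun_gen (hη : IsWeight p M η) {U : Subgroup G} (hU : IsPGroup p U) {ε : KG M G}
    (hε : IsIdempotentElem ε) (hf : Fixd (U : Set G) ε) :
    IsGeneralizedCharacter U (fun v : U => hfun M ρ η ε v) := by
  obtain ⟨d, j, hj, ho, hs⟩ := exists_prim_decomposition (U : Set G) ε hε hf
  convert CharCore.isGeneralized_sum Finset.univ (fun l => fun v : U => hfun M ρ η (j l) v)
    fun l _ => hfun_gen_prim ρ η hM hη (Nat.card U) U le_rfl hU (j l) (hj l).1 using 1
  funext v
  rw [Finset.sum_apply]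
  conv_lhs => rw [← hs]
  exact hfun_sum ρ η hM (orderOf_pow_of_mem hU v.2) Finset.univ j
    (fun l _ => ⟨(hj l).1.idem, (hj l).1.fixd.mono (Set.singleton_subset_iff.mpr v.2)⟩)
    fun l _ l' _ h => ho l l' h

end Cfsg.Agent.BC85.Star
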