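import Cfsg.Agent.BC85.Star.Algebra
import Mathlib.RingTheory.Polynomial.Basic
import Mathlib.RingTheory.IntegralClosure.IsIntegralClosure.Basic

/-!
# Primitive idempotents among fixed points, their residues, and Rosenberg's lemma
-/

namespace Cfsg.Agent.BC85.Star

open Polynomial

variable {k : Type*} [Field k] {G : Type*} [Group G]

local notation "B" => MonoidAlgebra k G

/-- A primitive idempotent of the fixed-point algebra of `S`. -/
structure IsPrim (S : Set G) (ε : B) : Prop where
  idem : IsIdempotentElem ε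
  fixd : Fixd S ε
  ne_zero : ε ≠ 0
  eq_or : ∀ e : B, IsIdempotentElem e → Fixd S e → ε * e = e → e * ε = e → e = 0 ∨ e = ε

/-- The elements of the corner of `ε` fixed by `S`. -/
structure InCorner (S : Set G) (ε z : B) : Prop where
  fixd : Fixd S z
  left : ε * z = z
  right : z * ε = z

theorem InCorner.mk' {S : Set G} {ε : B} (hε : IsPrim S ε) {a : B} (ha : Fixd S a) :
    InCorner S ε (ε * a * ε) :=
  ⟨(hε.fixd.mul ha).mul hε.fixd, by rw [← mul_assoc, ← mul_assoc, hε.idem.eq],
    by rw [mul_assoc, hε.idem.eq]⟩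

theorem InCorner.self {S : Set G} {ε : B} (hε : IsPrim S ε) : InCorner S ε ε :=
  ⟨hε.fixd, hε.idem.eq, hε.idem.eq⟩

theorem InCorner.mul {S : Set G} {ε z w : B} (hz : InCorner S ε z) (hw : InCorner S ε w) :
    InCorner S ε (z * w) :=
  ⟨hz.fixd.mul hw.fixd, by rw [← mul_assoc, hz.left], by rw [mul_assoc, hw.right]⟩

theorem InCorner.add {S : Set G} {ε z w : B} (hz : InCorner S ε z) (hw : InCorner S ε w) :
    InCorner S ε (z + w) :=
  ⟨hz.fixd.add hw.fixd, by rw [mul_add, hz.left, hw.left], by rw [add_mul, hz.right, hw.right]⟩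

theorem InCorner.sub {S : Set G} {ε z w : B} (hz : InCorner S ε z) (hw : InCorner S ε w) :
    InCorner S ε (z - w) :=
  ⟨hz.fixd.sub hw.fixd, by rw [mul_sub, hz.left, hw.left], by rw [sub_mul, hz.right, hw.right]⟩

theorem InCorner.smul {S : Set G} {ε z : B} (hz : InCorner S ε z) (r : k) :
    InCorner S ε (r • z) :=
  ⟨hz.fixd.smul r, by rw [mul_smul_comm, hz.left], by rw [smul_mul_assoc, hz.right]⟩

theorem Fixd.aeval {S : Set G} {z : B} (hz : Fixd S z) (f : k[X]) : Fixd S (aeval z f) :=
  fixd_iff_commute.mpr fun u hu => Algebra.commute_of_mem_adjoin_singleton_of_commute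
    (aeval_mem_adjoin_singleton _ z) (fixd_iff_commute.mp hz u hu)

variable [Finite G] [IsAlgClosed k]

/-- An element of the corner of a primitive idempotent is a scalar plus a nilpotent element. -/
theorem exists_residue {S : Set G} {ε : B} (hε : IsPrim S ε) {z : B} (hz : InCorner S ε z) :
    ∃ β : k, IsNilpotent (z - β • ε) := by
  classical
  have : Module.Finite k B := MonoidAlgebra.moduleFinite
  have hcomm : ∀ f : k[X], Commute ε (aeval z f) := fun f =>
    Algebra.commute_of_mem_adjoin_singleton_of_commute (aeval_mem_adjoin_singleton _ z)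
      (show Commute ε z from hz.left.trans hz.right.symm)
  let I : Ideal k[X] :=
    { carrier := {f | aeval z f * ε = 0}
      zero_mem' := by simp
      add_mem' := fun {f g} hf hg => by
        show aeval z (f + g) * ε = 0
        rw [map_add, add_mul, show aeval z f * ε = 0 from hf, show aeval z g * ε = 0 from hg,
          add_zero]
      smul_mem' := fun c f hf => by
        show aeval z (c * f) * ε = 0
        rw [map_mul, mul_assoc, show aeval z f * ε = 0 from hf, mul_zero] }
  obtain ⟨q₀, hq₀m, hq₀⟩ := Algebra.IsIntegral.isIntegral (R := k) z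
  replace hq₀ : aeval z q₀ = 0 := hq₀
  have hne : Submodule.IsPrincipal.generator I ≠ 0 := by
    intro h0
    have hmem : q₀ ∈ I := by
      show aeval z q₀ * ε = 0
      rw [hq₀, zero_mul]
    rw [Submodule.IsPrincipal.mem_iff_generator_dvd I, h0, zero_dvd_iff] at hmem
    exact hq₀m.ne_zero hmem
  set q := Submodule.IsPrincipal.generator I with hq
  have hqI : aeval z q * ε = 0 := Submodule.IsPrincipal.generator_mem I
  have hdeg : q.degree ≠ 0 := by
    intro h0
    obtain ⟨c, hc0, hc⟩ := isUnit_iff.mp (isUnit_iff_degree_eq_zero.mpr h0)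
    rw [← hc, aeval_C, ← Algebra.smul_def] at hqI
    exact hε.ne_zero ((smul_eq_zero.mp hqI).resolve_left hc0.ne_zero)
  obtain ⟨β, hβ⟩ := IsAlgClosed.exists_root q hdeg
  obtain ⟨q₂, hq₂, hq₂β⟩ := exists_eq_pow_rootMultiplicity_mul_and_not_dvd q hne β
  set n := rootMultiplicity β q
  have hco : IsCoprime ((X - C β) ^ n) q₂ :=
    ((irreducible_X_sub_C β).coprime_iff_not_dvd.mpr hq₂β).pow_left
  obtain ⟨a, b, hab⟩ := hco
  set h := a * (X - C β) ^ n with hh
  have hidem : IsIdempotentElem (aeval z h * ε) := by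
    show aeval z h * ε * (aeval z h * ε) = aeval z h * ε
    rw [mul_assoc, ← mul_assoc ε, (hcomm h).eq, mul_assoc, hε.idem.eq, ← mul_assoc, ← map_mul,
      show h * h = h - a * b * q by
        rw [hh, hq₂]; linear_combination (a * (X - C β) ^ n) * hab,
      map_sub, sub_mul, map_mul _ (a * b), mul_assoc, hqI, mul_zero, sub_zero]
  rcases hε.eq_or _ hidem ((hz.fixd.aeval h).mul hε.fixd)
      (by rw [← mul_assoc, (hcomm h).eq, mul_assoc, hε.idem.eq])
      (by rw [mul_assoc, hε.idem.eq]) with h0 | h0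
  · -- the idempotent vanishes: the cofactor is a unit
    have hdvd : q ∣ h := (Submodule.IsPrincipal.mem_iff_generator_dvd I).mp
      (show aeval z h * ε = 0 from h0)
    have hdvd2 : q₂ ∣ (1 : k[X]) := by
      rw [← hab]
      exact dvd_add ((Dvd.intro_left _ hq₂.symm).trans hdvd) (dvd_mul_left _ _)
    refine ⟨β, n + 1, ?_⟩
    obtain ⟨c, hc⟩ := hdvd2
    have hpow : aeval z ((X - C β) ^ n) * ε = 0 := by
      rw [show (X - C β) ^ n = c * q by rw [hq₂]; linear_combination ((X - C β) ^ n) * hc,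
        map_mul, mul_assoc, hqI, mul_zero]
    have e : z - β • ε = aeval z (X - C β) * ε := by
      rw [map_sub, aeval_X, aeval_C, sub_mul, ← Algebra.smul_def, hz.right]
    rw [e, Commute.mul_pow (hcomm _).symm, hε.idem.pow_eq n.succ_ne_zero, pow_succ, ← map_pow,
      mul_assoc, ← (hcomm _).eq, ← mul_assoc, hpow, zero_mul]
  · exfalso
    have hn : n ≠ 0 := (rootMultiplicity_pos hne).mpr hβ |>.ne'
    have hq₂I : aeval z q₂ * ε = 0 := by
      rw [← h0, ← mul_assoc, ← map_mul, show q₂ * h = a * q by rw [hh, hq₂]; ring, map_mul,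
        mul_assoc, hqI, mul_zero]
    have hdvd : q ∣ q₂ := (Submodule.IsPrincipal.mem_iff_generator_dvd I).mp hq₂I
    refine hq₂β (dvd_trans (dvd_trans (dvd_pow_self _ hn) ?_) hdvd)
    rw [hq₂]
    exact dvd_mul_right _ _

open scoped Classical in
/-- The residue of an element of the corner of a primitive idempotent. -/
noncomputable def resid (ε z : B) : k :=
  if h : ∃ β : k, IsNilpotent (z - β • ε) then h.choose else 0

omit [Finite G] [IsAlgClosed k] in
theorem residue_unique {S : Set G} {ε z : B} (hε : IsPrim S ε) (hz : InCorner S ε z) {β β' : k}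
    (h : IsNilpotent (z - β • ε)) (h' : IsNilpotent (z - β' • ε)) : β = β' := by
  by_contra hne
  have hc : Commute (z - β • ε) (z - β' • ε) := by
    have h1 : Commute z ε := hz.right.trans hz.left.symm
    exact ((Commute.refl z).sub_right (h1.smul_right β')).sub_left
      ((h1.symm.smul_left β).sub_right (((Commute.refl ε).smul_left β).smul_right β'))
  have h1 : IsNilpotent ((β' - β) • ε) := by
    have := hc.isNilpotent_sub h h'
    rwa [sub_sub_sub_cancel_left, ← sub_smul] at this
  obtain ⟨m, hm⟩ := h1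
  have hb : β' - β ≠ 0 := sub_ne_zero.mpr (Ne.symm hne)
  have : ((β' - β) • ε) ^ (m + 1) = 0 := by rw [pow_succ, hm, zero_mul]
  rw [smul_pow, hε.idem.pow_eq m.succ_ne_zero] at this
  exact hε.ne_zero ((smul_eq_zero.mp this).resolve_left (pow_ne_zero _ hb))

theorem isNilpotent_sub_resid {S : Set G} {ε z : B} (hε : IsPrim S ε) (hz : InCorner S ε z) :
    IsNilpotent (z - resid ε z • ε) := by
  rw [resid, dif_pos (exists_residue hε hz)]
  exact (exists_residue hε hz).choose_spec

theorem resid_eq {S : Set G} {ε z : B} (hε : IsPrim S ε) (hz : InCorner S ε z) {β : k}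
    (h : IsNilpotent (z - β • ε)) : resid ε z = β :=
  residue_unique hε hz (isNilpotent_sub_resid hε hz) h

theorem resid_self {S : Set G} {ε : B} (hε : IsPrim S ε) : resid ε ε = 1 :=
  resid_eq hε (.self hε) (by rw [one_smul, sub_self]; exact IsNilpotent.zero)

theorem isNilpotent_of_resid_eq_zero {S : Set G} {ε z : B} (hε : IsPrim S ε)
    (hz : InCorner S ε z) (h : resid ε z = 0) : IsNilpotent z := by
  have := isNilpotent_sub_resid hε hz
  rwa [h, zero_smul, sub_zero] at this

/-- An element with nonzero residue is invertible in the corner. -/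
theorem exists_inverse {S : Set G} {ε z : B} (hε : IsPrim S ε) (hz : InCorner S ε z)
    (h : resid ε z ≠ 0) : ∃ y, InCorner S ε y ∧ z * y = ε ∧ y * z = ε := by
  obtain ⟨β, hβ, hN⟩ : ∃ β : k, β ≠ 0 ∧ IsNilpotent (z - β • ε) :=
    ⟨_, h, isNilpotent_sub_resid hε hz⟩
  obtain ⟨m, hm⟩ := hN
  set w : B := ε - β⁻¹ • z with hw
  have hwc : InCorner S ε w := (InCorner.self hε).sub (hz.smul _)
  have hwn : w ^ m = 0 := by
    have hwe : w = (-β⁻¹) • (z - β • ε) := by
      rw [hw, smul_sub, smul_smul, neg_mul, inv_mul_cancel₀ hβ]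
      simp only [neg_smul, one_smul]
      abel
    rw [hwe, smul_pow, hm, smul_zero]
  set y0 : B := ∑ i ∈ Finset.range m, w ^ i with hy0
  have hy0f : Fixd S y0 := Fixd.sum fun i _ => by
    have := hwc.fixd.aeval (X ^ i)
    simpa using this
  have hεy : Commute ε y0 := by
    refine Commute.sum_right _ _ _ fun i _ => Commute.pow_right ?_ i
    exact (hwc.left.trans hwc.right.symm : ε * w = w * ε)
  have h1 : (1 - w) * y0 = 1 := by rw [hy0, mul_neg_geom_sum, hwn, sub_zero]
  have h2 : y0 * (1 - w) = 1 := by rw [hy0, geom_sum_mul_neg, hwn, sub_zero]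
  have e1 : β⁻¹ • z = ε * (1 - w) := by
    rw [mul_sub, mul_one, hwc.left, hw, sub_sub_cancel]
  have e2 : β⁻¹ • z = (1 - w) * ε := by
    rw [sub_mul, one_mul, hwc.right, hw, sub_sub_cancel]
  refine ⟨β⁻¹ • (ε * y0), ⟨(hε.fixd.mul hy0f).smul _, ?_, ?_⟩, ?_, ?_⟩
  · rw [mul_smul_comm, ← mul_assoc, hε.idem.eq]
  · rw [smul_mul_assoc, mul_assoc, ← hεy.eq, ← mul_assoc, hε.idem.eq]
  · rw [mul_smul_comm, ← smul_mul_assoc, ← mul_assoc, e1, mul_assoc, mul_assoc, ← mul_assoc _ ε,
      ← e2, e1, mul_assoc, h1, mul_one, hε.idem.eq]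
  · rw [smul_mul_assoc, ← mul_smul_comm, e2, mul_assoc, ← mul_assoc y0, h2, one_mul, hε.idem.eq]

theorem resid_ne_zero_of_inverse {S : Set G} {ε z y : B} (hε : IsPrim S ε)
    (hz : InCorner S ε z) (hy : InCorner S ε y) (h : z * y = ε) : resid ε z ≠ 0 := by
  intro h0
  obtain ⟨m, hm⟩ := isNilpotent_of_resid_eq_zero hε hz h0
  have : ∀ i, z ^ (i + 1) * y ^ (i + 1) = ε := by
    intro i
    induction i with
    | zero => simpa using h
    | succ i ih =>
      rw [pow_succ, pow_succ' y, mul_assoc, ← mul_assoc z y, h, pow_succ' y,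
        ← mul_assoc ε, hy.left, ← pow_succ', ih]
  have h' := this m
  rw [pow_succ, hm, zero_mul, zero_mul] at h'
  exact hε.ne_zero h'.symm

theorem resid_mul_eq_zero {S : Set G} {ε z w : B} (hε : IsPrim S ε) (hz : InCorner S ε z)
    (hw : InCorner S ε w) (h : resid ε z = 0) :
    resid ε (z * w) = 0 ∧ resid ε (w * z) = 0 := by
  constructor
  · by_contra h1
    obtain ⟨y, hy, hy1, -⟩ := exists_inverse hε (hz.mul hw) h1
    exact resid_ne_zero_of_inverse hε hz (hw.mul hy) (by rw [← mul_assoc, hy1]) h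
  · by_contra h1
    obtain ⟨y, hy, -, hy1⟩ := exists_inverse hε (hw.mul hz) h1
    obtain ⟨m, hm⟩ := isNilpotent_of_resid_eq_zero hε hz h
    have : ∀ i, (y * w) ^ (i + 1) * z ^ (i + 1) = ε := by
      intro i
      induction i with
      | zero => simpa [mul_assoc] using hy1
      | succ i ih =>
        have h3 : y * w * z = ε := by rw [mul_assoc, hy1]
        rw [pow_succ, pow_succ' z, mul_assoc, ← mul_assoc (y * w) z, h3,
          pow_succ' z, ← mul_assoc ε, hz.left, ← pow_succ', ih]
    have h' := this m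
    rw [pow_succ z, hm, zero_mul, mul_zero] at h'
    exact hε.ne_zero h'.symm

theorem resid_add_eq_zero {S : Set G} {ε z w : B} (hε : IsPrim S ε) (hz : InCorner S ε z)
    (hw : InCorner S ε w) (h : resid ε z = 0) (h' : resid ε w = 0) : resid ε (z + w) = 0 := by
  by_contra h1
  obtain ⟨y, hy, hy1, -⟩ := exists_inverse hε (hz.add hw) h1
  have hzy := (resid_mul_eq_zero hε hz hy h).1
  obtain ⟨m, hm⟩ := isNilpotent_of_resid_eq_zero hε (hz.mul hy) hzy
  have hwy : w * y = ε - z * y := by rw [← hy1, add_mul]; abel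
  refine resid_ne_zero_of_inverse hε (hw.mul hy)
    (InCorner.mk' hε (Fixd.sum (s := Finset.range m) (a := fun i => (z * y) ^ i) fun i _ => by
      simpa using (hz.mul hy).fixd.aeval (X ^ i))) ?_ (resid_mul_eq_zero hε hw hy h').1
  rw [hwy, ← mul_assoc, ← mul_assoc, sub_mul, hε.idem.eq, (hz.mul hy).right,
    show ε - z * y = ε * (1 - z * y) by rw [mul_sub, mul_one, (hz.mul hy).left], mul_assoc ε,
    mul_neg_geom_sum, hm, sub_zero, mul_one, hε.idem.eq]

/-- The residue is linear and multiplicative on the corner. -/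
theorem resid_add {S : Set G} {ε z w : B} (hε : IsPrim S ε) (hz : InCorner S ε z)
    (hw : InCorner S ε w) : resid ε (z + w) = resid ε z + resid ε w := by
  have hz' := hz.sub ((InCorner.self hε).smul (resid ε z))
  have hw' := hw.sub ((InCorner.self hε).smul (resid ε w))
  have h0 : ∀ {a : B}, InCorner S ε a → IsNilpotent a → resid ε a = 0 := fun ha hn =>
    resid_eq hε ha (by simpa using hn)
  have h3 := resid_add_eq_zero hε hz' hw' (h0 hz' (isNilpotent_sub_resid hε hz))
    (h0 hw' (isNilpotent_sub_resid hε hw))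
  refine resid_eq hε (hz.add hw) ?_
  rw [add_smul, add_sub_add_comm]
  exact isNilpotent_of_resid_eq_zero hε (hz'.add hw') h3

theorem resid_smul {S : Set G} {ε z : B} (hε : IsPrim S ε) (hz : InCorner S ε z) (r : k) :
    resid ε (r • z) = r * resid ε z := by
  refine resid_eq hε (hz.smul r) ?_
  rw [← smul_smul, ← smul_sub]
  exact (isNilpotent_sub_resid hε hz).smul r

theorem resid_sum {S : Set G} {ε : B} (hε : IsPrim S ε) {ι : Type*} (s : Finset ι) (z : ι → B)
    (hz : ∀ i ∈ s, InCorner S ε (z i)) :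
    resid ε (∑ i ∈ s, z i) = ∑ i ∈ s, resid ε (z i) := by
  classical
  induction s using Finset.induction_on with
  | empty => exact resid_eq hε ⟨Fixd.zero _, mul_zero _, zero_mul _⟩ (by simp)
  | @insert i s hi ih =>
    rw [Finset.sum_insert hi, Finset.sum_insert hi, resid_add hε (hz i (Finset.mem_insert_self _ _))
      ⟨Fixd.sum fun j hj => (hz j (Finset.mem_insert_of_mem hj)).fixd, ?_, ?_⟩,
      ih fun j hj => hz j (Finset.mem_insert_of_mem hj)]
    · rw [Finset.mul_sum]
      exact Finset.sum_congr rfl fun j hj => (hz j (Finset.mem_insert_of_mem hj)).left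
    · rw [Finset.sum_mul]
      exact Finset.sum_congr rfl fun j hj => (hz j (Finset.mem_insert_of_mem hj)).right

/-! ### Decompositions -/

omit [IsAlgClosed k] in
/-- Every fixed idempotent is a sum of orthogonal primitive ones. -/
theorem exists_prim_decomposition (S : Set G) (ε : B) (hε : IsIdempotentElem ε)
    (hf : Fixd S ε) :
    ∃ (n : ℕ) (j : Fin n → B), (∀ l, IsPrim S (j l) ∧ ε * j l = j l ∧ j l * ε = j l) ∧
      (∀ l m, l ≠ m → j l * j m = 0) ∧ ∑ l, j l = ε := by
  classical
  have : Module.Finite k B := MonoidAlgebra.moduleFinite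
  suffices H : ∀ (r : ℕ) (ε : B), IsIdempotentElem ε → Fixd S ε →
      Module.finrank k (LinearMap.range (LinearMap.mulLeft k ε)) ≤ r →
      ∃ (n : ℕ) (j : Fin n → B), (∀ l, IsPrim S (j l) ∧ ε * j l = j l ∧ j l * ε = j l) ∧
        (∀ l m, l ≠ m → j l * j m = 0) ∧ ∑ l, j l = ε from H _ ε hε hf le_rfl
  intro r
  induction r with
  | zero =>
    intro ε hε _ hr
    have h0 := Submodule.finrank_eq_zero.mp (Nat.le_zero.mp hr)
    have : ε * 1 ∈ LinearMap.range (LinearMap.mulLeft k ε) := ⟨1, rfl⟩
    rw [h0, Submodule.mem_bot, mul_one] at this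
    subst this
    exact ⟨0, Fin.elim0, fun l => l.elim0, fun l => l.elim0, by simp⟩
  | succ r ih =>
    intro ε hε hf hr
    by_cases hz : ε = 0
    · subst hz
      exact ⟨0, Fin.elim0, fun l => l.elim0, fun l => l.elim0, by simp⟩
    by_cases hp : IsPrim S ε
    · exact ⟨1, fun _ => ε, fun _ => ⟨hp, hε.eq, hε.eq⟩,
        fun l m h => absurd (Subsingleton.elim l m) h, by simp⟩
    obtain ⟨e, he, hef, h1, h2, h3, h4⟩ : ∃ e, IsIdempotentElem e ∧ Fixd S e ∧ ε * e = e ∧
        e * ε = e ∧ e ≠ 0 ∧ e ≠ ε := by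
      by_contra hno
      push Not at hno
      exact hp ⟨hε, hf, hz, fun e he hef h1 h2 =>
        or_iff_not_imp_left.mpr (hno e he hef h1 h2)⟩
    have hlt : ∀ e' : B, ε * e' = e' → e' * ε = e' → e' * e' = e' → e' ≠ ε →
        Module.finrank k (LinearMap.range (LinearMap.mulLeft k e')) ≤ r := by
      intro e' g1 g2 g3 g4
      have hlt : LinearMap.range (LinearMap.mulLeft k e') <
          LinearMap.range (LinearMap.mulLeft k ε) := by
        refine lt_of_le_of_ne ?_ fun heq => g4 ?_
        · rintro _ ⟨x, rfl⟩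
          exact ⟨e' * x, by
            show ε * (e' * x) = e' * x
            rw [← mul_assoc, g1]⟩
        · obtain ⟨x, hx⟩ : ε ∈ LinearMap.range (LinearMap.mulLeft k e') :=
            heq ▸ ⟨1, mul_one ε⟩
          rw [← g2, ← hx]
          show e' * (e' * x) = _
          rw [← mul_assoc, g3]
          rfl
      have := Submodule.finrank_lt_finrank_of_lt hlt
      omega
    have h1' : (ε - e) * (ε - e) = ε - e := by
      rw [mul_sub, sub_mul, sub_mul, hε.eq, h1, h2, he.eq]; abel
    obtain ⟨n₁, j₁, hj₁, ho₁, hs₁⟩ := ih e he hef (hlt e h1 h2 he h4)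
    obtain ⟨n₂, j₂, hj₂, ho₂, hs₂⟩ := ih (ε - e) h1' (hf.sub hef)
      (hlt _ (by rw [mul_sub, hε.eq, h1]) (by rw [sub_mul, hε.eq, h2]) h1'
        fun h => h3 (sub_eq_self.mp h))
    have hcross : ∀ a c : B, a * e = a → (ε - e) * c = c → a * c = 0 := fun a c ha hc => by
      rw [← ha, ← hc, ← mul_assoc, mul_assoc a, mul_sub e, h2, he.eq, sub_self, mul_zero, zero_mul]
    have hcross' : ∀ a c : B, a * (ε - e) = a → e * c = c → a * c = 0 := fun a c ha hc => by
      rw [← ha, ← hc, ← mul_assoc, mul_assoc a, sub_mul ε, h1, he.eq, sub_self, mul_zero, zero_mul]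
    refine ⟨n₁ + n₂, Fin.append j₁ j₂, fun l => ?_, fun l m hlm => ?_, ?_⟩
    · induction l using Fin.addCases with
      | left i =>
        obtain ⟨g1, g2, g3⟩ := hj₁ i
        rw [Fin.append_left]
        exact ⟨g1, by rw [← g2, ← mul_assoc, h1], by rw [← g3, mul_assoc, h2]⟩
      | right i =>
        obtain ⟨g1, g2, g3⟩ := hj₂ i
        rw [Fin.append_right]
        exact ⟨g1, by rw [← g2, ← mul_assoc, mul_sub, hε.eq, h1],
          by rw [← g3, mul_assoc, sub_mul, hε.eq, h2]⟩
    · induction l using Fin.addCases with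
      | left i =>
        induction m using Fin.addCases with
        | left i' =>
          rw [Fin.append_left, Fin.append_left]
          exact ho₁ i i' fun h => hlm (by rw [h])
        | right i' =>
          rw [Fin.append_left, Fin.append_right]
          exact hcross _ _ (hj₁ i).2.2 (hj₂ i').2.1
      | right i =>
        induction m using Fin.addCases with
        | left i' =>
          rw [Fin.append_left, Fin.append_right]
          exact hcross' _ _ (hj₂ i).2.2 (hj₁ i').2.1
        | right i' =>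
          rw [Fin.append_right, Fin.append_right]
          exact ho₂ i i' fun h => hlm (by rw [h])
    · rw [Fin.sum_univ_add]
      simp only [Fin.append_left, Fin.append_right]
      rw [hs₁, hs₂, add_sub_cancel]

/-- Rosenberg: a primitive idempotent in a sum of traces is in one of them. -/
theorem exists_trRel_of_eq_sum {R : Subgroup G} {ε : B} (hε : IsPrim (R : Set G) ε) {ι : Type*}
    (s : Finset ι) (Q : ι → Subgroup G) (x : ι → B) (hx : ∀ i ∈ s, Fixd (Q i : Set G) (x i))
    (hQR : ∀ i ∈ s, Q i ≤ R) (h : ε = ∑ i ∈ s, trRel R (Q i) (x i)) :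
    ∃ i ∈ s, ∃ c, Fixd (Q i : Set G) c ∧ ε * c * ε = c ∧ trRel R (Q i) c = ε := by
  have hc : ∀ i ∈ s, InCorner (R : Set G) ε (ε * trRel R (Q i) (x i) * ε) := fun i hi =>
    InCorner.mk' hε (fixd_trRel (hx i hi))
  have h1 : ∑ i ∈ s, resid ε (ε * trRel R (Q i) (x i) * ε) ≠ 0 := by
    rw [← resid_sum hε s _ hc, ← Finset.sum_mul, ← Finset.mul_sum, ← h, hε.idem.eq, hε.idem.eq,
      resid_self hε]
    exact one_ne_zero
  obtain ⟨i, hi, hne⟩ := Finset.exists_ne_zero_of_sum_ne_zero h1
  obtain ⟨y, hy, hy1, -⟩ := exists_inverse hε (hc i hi) hne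
  have hf := hε.fixd.mono (SetLike.coe_subset_coe.mpr (hQR i hi))
  refine ⟨i, hi, ε * x i * y,
    (hf.mul (hx i hi)).mul (hy.fixd.mono (SetLike.coe_subset_coe.mpr (hQR i hi))), ?_, ?_⟩
  · rw [mul_assoc ε (ε * x i * y), mul_assoc (ε * x i) y, hy.right, ← mul_assoc, ← mul_assoc,
      hε.idem.eq]
  · rw [← mul_trRel_mul hε.fixd hy.fixd]
    conv_lhs => rw [← hy.left, ← mul_assoc]
    exact hy1

/-! ### A weighted residue does not depend on the decomposition -/

/-- A decomposition of `ε` into orthogonal primitive idempotents. -/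
structure IsDecomp {n : ℕ} (S : Set G) (ε : B) (j : Fin n → B) : Prop where
  prim : ∀ l, IsPrim S (j l) ∧ ε * j l = j l ∧ j l * ε = j l
  orth : ∀ l m, l ≠ m → j l * j m = 0
  sum : ∑ l, j l = ε

/-- Residues of the two products of a pair of elements linking primitive idempotents agree, and
when they are nonzero the idempotents are linked by an invertible pair. -/
theorem resid_mul_comm {S : Set G} {j j' x z : B} (hj : IsPrim S j) (hj' : IsPrim S j')
    (hx : Fixd S x) (hz : Fixd S z) (hx1 : j * x = x) (hx2 : x * j' = x) (hz1 : j' * z = z)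
    (hz2 : z * j = z) (Φ : B → k)
    (hΦ : ∀ a b : B, Fixd S a → Fixd S b → IsPrim S (a * b) → IsPrim S (b * a) →
      Φ (a * b) = Φ (b * a)) :
    Φ j * resid j (x * z) = Φ j' * resid j' (z * x) := by
  have hxz : InCorner S j (x * z) :=
    ⟨hx.mul hz, by rw [← mul_assoc, hx1], by rw [mul_assoc, hz2]⟩
  have hzx : InCorner S j' (z * x) :=
    ⟨hz.mul hx, by rw [← mul_assoc, hz1], by rw [mul_assoc, hx2]⟩
  -- if one product is invertible, the idempotents are linked
  have key : ∀ {j j' x z : B}, IsPrim S j → IsPrim S j' → Fixd S x → Fixd S z → j * x = x →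
      x * j' = x → j' * z = z → z * j = z → resid j (x * z) ≠ 0 →
      Φ j = Φ j' ∧ resid j' (z * x) = resid j (x * z) := by
    intro j j' x z hj hj' hx hz hx1 hx2 hz1 hz2 hne
    have hxz : InCorner S j (x * z) :=
      ⟨hx.mul hz, by rw [← mul_assoc, hx1], by rw [mul_assoc, hz2]⟩
    obtain ⟨w, hw, hw1, -⟩ := exists_inverse hj hxz hne
    set y := z * w with hy
    have hxy : x * y = j := by rw [hy, ← mul_assoc, hw1]
    have hidem : IsIdempotentElem (y * x) := by
      show y * x * (y * x) = y * x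
      rw [mul_assoc, ← mul_assoc x, hxy, hx1]
    have hyj : y * j = y := by rw [hy, mul_assoc, hw.right]
    have hyj' : j' * y = y := by rw [hy, ← mul_assoc, hz1]
    have hne0 : y * x ≠ 0 := fun h0 => hj.ne_zero (by
      have : x * (y * x) * y = j := by
        rw [show x * (y * x) * y = (x * y) * (x * y) by simp only [mul_assoc], hxy, hj.idem.eq]
      rw [← this, h0, mul_zero, zero_mul])
    have hyx : y * x = j' := (hj'.eq_or _ hidem ((hz.mul hw.fixd).mul hx)
      (by rw [← mul_assoc, hyj']) (by rw [mul_assoc, hx2])).resolve_left hne0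
    refine ⟨?_, ?_⟩
    · have h := hΦ x y hx (hz.mul hw.fixd) (by rw [hxy]; exact hj) (by rw [hyx]; exact hj')
      rwa [hxy, hyx] at h
    · -- conjugation by the pair transports residues
      set β := resid j (x * z) with hβ
      obtain ⟨m, hm⟩ := isNilpotent_sub_resid hj hxz
      refine resid_eq hj' ⟨hz.mul hx, by rw [← mul_assoc, hz1], by rw [mul_assoc, hx2]⟩
        ⟨m + 1, ?_⟩
      have e : z * x - β • j' = y * (x * z - β • j) * x := by
        rw [mul_sub, sub_mul, mul_smul_comm, smul_mul_assoc, hyj, hyx, ← mul_assoc y x z, hyx,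
          hz1]
      have hind : ∀ i, (z * x - β • j') ^ (i + 1) = y * (x * z - β • j) ^ (i + 1) * x := by
        intro i
        induction i with
        | zero => simpa using e
        | succ i ih =>
          rw [pow_succ, ih, e, pow_succ (x * z - β • j) (i + 1)]
          have hc : j * (x * z - β • j) = x * z - β • j := by
            rw [mul_sub, hxz.left, mul_smul_comm, hj.idem.eq]
          calc y * (x * z - β • j) ^ (i + 1) * x * (y * (x * z - β • j) * x)
              = y * (x * z - β • j) ^ (i + 1) * ((x * y) * (x * z - β • j)) * x := by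
                simp only [mul_assoc]
            _ = _ := by rw [hxy, hc, mul_assoc y]
      rw [hind, pow_succ, hm, zero_mul, mul_zero, zero_mul]
  by_cases h : resid j (x * z) = 0
  · by_cases h' : resid j' (z * x) = 0
    · rw [h, h', mul_zero, mul_zero]
    · obtain ⟨-, h2⟩ := key hj' hj hz hx hz1 hz2 hx1 hx2 h'
      exact absurd (h2.symm.trans h) h'
  · obtain ⟨h1, h2⟩ := key hj hj' hx hz hx1 hx2 hz1 hz2 h
    rw [h1, h2]

/-- The weighted residue of an element does not depend on the decomposition. -/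
theorem weighted_resid_eq {S : Set G} {ε : B} {n n' : ℕ} {j : Fin n → B} {j' : Fin n' → B}
    (hj : IsDecomp S ε j) (hj' : IsDecomp S ε j') (Φ : B → k)
    (hΦ : ∀ a b : B, Fixd S a → Fixd S b → IsPrim S (a * b) → IsPrim S (b * a) →
      Φ (a * b) = Φ (b * a))
    {c : B} (hc : Fixd S c) :
    ∑ l, Φ (j l) * resid (j l) (j l * c * j l) =
      ∑ r, Φ (j' r) * resid (j' r) (j' r * c * j' r) := by
  have hxz : ∀ l r, InCorner S (j l) ((j l * j' r) * (j' r * c * j l)) := fun l r =>
    ⟨((hj.prim l).1.fixd.mul (hj'.prim r).1.fixd).mul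
      (((hj'.prim r).1.fixd.mul hc).mul (hj.prim l).1.fixd),
      by simp only [← mul_assoc, (hj.prim l).1.idem.eq],
      by simp only [mul_assoc, (hj.prim l).1.idem.eq]⟩
  have hzx : ∀ l r, InCorner S (j' r) ((j' r * c * j l) * (j l * j' r)) := fun l r =>
    ⟨(((hj'.prim r).1.fixd.mul hc).mul (hj.prim l).1.fixd).mul
      ((hj.prim l).1.fixd.mul (hj'.prim r).1.fixd),
      by simp only [← mul_assoc, (hj'.prim r).1.idem.eq],
      by simp only [mul_assoc, (hj'.prim r).1.idem.eq]⟩
  have e1 : ∀ l, j l * c * j l = ∑ r, (j l * j' r) * (j' r * c * j l) := fun l => by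
    rw [Finset.sum_congr rfl (g := fun r => j l * j' r * (c * j l)) fun r _ => by
      rw [mul_assoc (j' r) c, ← mul_assoc (j l * j' r) (j' r), mul_assoc (j l) (j' r) (j' r),
        (hj'.prim r).1.idem.eq], ← Finset.sum_mul, ← Finset.mul_sum, hj'.sum,
      (hj.prim l).2.2, mul_assoc]
  have e2 : ∀ r, j' r * c * j' r = ∑ l, (j' r * c * j l) * (j l * j' r) := fun r => by
    rw [Finset.sum_congr rfl (g := fun l => j' r * c * (j l * j' r)) fun l _ => by
      rw [mul_assoc (j' r * c), ← mul_assoc (j l), (hj.prim l).1.idem.eq],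
      ← Finset.mul_sum, ← Finset.sum_mul, hj.sum, (hj'.prim r).2.1]
  rw [Finset.sum_congr rfl fun l _ => by
    rw [e1 l, resid_sum (hj.prim l).1 _ _ (fun r _ => hxz l r), Finset.mul_sum], Finset.sum_comm]
  refine Finset.sum_congr rfl fun r _ => ?_
  rw [e2 r, resid_sum (hj'.prim r).1 _ _ (fun l _ => hzx l r), Finset.mul_sum]
  refine Finset.sum_congr rfl fun l _ => ?_
  exact resid_mul_comm (hj.prim l).1 (hj'.prim r).1
    ((hj.prim l).1.fixd.mul (hj'.prim r).1.fixd)
    (((hj'.prim r).1.fixd.mul hc).mul (hj.prim l).1.fixd)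
    (by rw [← mul_assoc, (hj.prim l).1.idem.eq]) (by rw [mul_assoc, (hj'.prim r).1.idem.eq])
    (by rw [← mul_assoc, ← mul_assoc, (hj'.prim r).1.idem.eq])
    (by rw [mul_assoc, (hj.prim l).1.idem.eq]) Φ hΦ

omit [Finite G] [IsAlgClosed k] in
theorem IsPrim.cj {N : Subgroup G} {j : B} (hj : IsPrim (N : Set G) j) {t : G}
    (ht : t ∈ Subgroup.normalizer (N : Set G)) : IsPrim (N : Set G) (cj t j) := by
  refine ⟨by show _ * _ = _; rw [← cj_mul, hj.idem.eq], hj.fixd.cj_of_normalizes ht, fun h => ?_,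
    fun e he hef h1 h2 => ?_⟩
  · apply hj.ne_zero
    have := congrArg (Star.cj t⁻¹) h
    rwa [cj_cj, inv_mul_cancel, cj_one, Star.cj, mul_zero, zero_mul] at this
  · have ht' := Subgroup.inv_mem _ ht
    have hinv : Star.cj t⁻¹ (Star.cj t j) = j := by rw [cj_cj, inv_mul_cancel, cj_one]
    rcases hj.eq_or (Star.cj t⁻¹ e) (by show _ * _ = _; rw [← cj_mul, he.eq])
        (hef.cj_of_normalizes ht') (by rw [← hinv, ← cj_mul, h1])
        (by rw [← hinv, ← cj_mul, h2]) with h | h
    · left
      have := congrArg (Star.cj t) h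
      rwa [cj_cj, mul_inv_cancel, cj_one, Star.cj, mul_zero, zero_mul] at this
    · right
      have := congrArg (Star.cj t) h
      rwa [cj_cj, mul_inv_cancel, cj_one] at this

/-- The residue is invariant under conjugation. -/
theorem resid_cj {N : Subgroup G} {j z : B} (hj : IsPrim (N : Set G) j)
    (hz : InCorner (N : Set G) j z) {t : G} (ht : t ∈ Subgroup.normalizer (N : Set G)) :
    resid (cj t j) (cj t z) = resid j z := by
  obtain ⟨m, hm⟩ := isNilpotent_sub_resid hj hz
  refine resid_eq (hj.cj ht) ⟨hz.fixd.cj_of_normalizes ht, by rw [← cj_mul, hz.left],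
    by rw [← cj_mul, hz.right]⟩ ⟨m + 1, ?_⟩
  have e : cj t z - resid j z • cj t j = cj t (z - resid j z • j) := by
    simp only [cj, mul_sub, sub_mul, mul_smul_comm, smul_mul_assoc]
  have hp : ∀ (a : B) (i : ℕ), cj t a ^ (i + 1) = cj t (a ^ (i + 1)) := fun a i => by
    induction i with
    | zero => simp
    | succ i ih => rw [pow_succ, ih, ← cj_mul, ← pow_succ]
  rw [e, hp, pow_succ, hm, zero_mul, cj, mul_zero, zero_mul]

/-- An idempotent that is a trace from an index `p` normal subgroup has weight zero. -/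
theorem weighted_sum_eq_zero {p : ℕ} [CharP k p] {N : Subgroup G} {t : G}
    (ht : t ∈ Subgroup.normalizer (N : Set G)) {ε : B}
    (hεt : cj t ε = ε) {c : B} (hc : Fixd (N : Set G) c)
    (hsum : ∑ l ∈ Finset.range p, cj (t ^ l) c = ε) {n : ℕ} {j : Fin n → B}
    (hj : IsDecomp (N : Set G) ε j) (Φ : B → k)
    (hΦ : ∀ a b : B, Fixd (N : Set G) a → Fixd (N : Set G) b → IsPrim (N : Set G) (a * b) →
      IsPrim (N : Set G) (b * a) → Φ (a * b) = Φ (b * a))
    (hΦt : ∀ i : B, IsPrim (N : Set G) i → Φ (cj t i) = Φ i) :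
    ∑ l, Φ (j l) = 0 := by
  set Ψ : B → k := fun a => ∑ l, Φ (j l) * resid (j l) (j l * a * j l) with hΨ
  have hcorner : ∀ l, ∀ {a : B}, Fixd (N : Set G) a →
      InCorner (N : Set G) (j l) (j l * a * j l) := fun l a ha => InCorner.mk' (hj.prim l).1 ha
  -- invariance under conjugation by `t`
  have hinv : ∀ a, Fixd (N : Set G) a → Ψ (cj t a) = Ψ a := by
    intro a ha
    have hj' : IsDecomp (N : Set G) ε fun l => cj t (j l) :=
      ⟨fun l => ⟨(hj.prim l).1.cj ht, by rw [← hεt, ← cj_mul, (hj.prim l).2.1],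
        by rw [← hεt, ← cj_mul, (hj.prim l).2.2]⟩,
        fun l m h => by rw [← cj_mul, hj.orth l m h, cj, mul_zero, zero_mul],
        by rw [← cj_sum, hj.sum, hεt]⟩
    show ∑ l, _ = ∑ l, _
    rw [weighted_resid_eq hj hj' Φ hΦ (ha.cj_of_normalizes ht)]
    refine Finset.sum_congr rfl fun l _ => ?_
    rw [← cj_mul, ← cj_mul, resid_cj (hj.prim l).1 (hcorner l ha) ht, hΦt _ (hj.prim l).1]
  have hpow : ∀ l : ℕ, Fixd (N : Set G) (cj (t ^ l) c) ∧ Ψ (cj (t ^ l) c) = Ψ c := by
    intro l
    induction l with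
    | zero => rw [pow_zero, cj_one]; exact ⟨hc, rfl⟩
    | succ l ih =>
      rw [pow_succ', ← cj_cj]
      exact ⟨ih.1.cj_of_normalizes ht, (hinv _ ih.1).trans ih.2⟩
  have h1 : Ψ ε = ∑ l, Φ (j l) := Finset.sum_congr rfl fun l _ => by
    rw [(hj.prim l).2.2, (hj.prim l).1.idem.eq, resid_self (hj.prim l).1, mul_one]
  have h2 : Ψ ε = ∑ i ∈ Finset.range p, Ψ (cj (t ^ i) c) := by
    simp only [hΨ]
    rw [Finset.sum_comm]
    refine Finset.sum_congr rfl fun l _ => ?_
    rw [← Finset.mul_sum, ← hsum, Finset.mul_sum, Finset.sum_mul,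
      resid_sum (hj.prim l).1 _ _ fun i _ => hcorner l (hpow i).1]
  rw [← h1, h2, Finset.sum_congr rfl fun i _ => (hpow i).2, Finset.sum_const, Finset.card_range,
    nsmul_eq_mul, CharP.cast_eq_zero, zero_mul]

end Cfsg.Agent.BC85.Star
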