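import Cfsg.Agent.BC85.Star.Main
import Cfsg.Agent.Lib.CharCore.SubsectionContrib
import Cfsg.Agent.Lib.BlocksDefect.LocalBlock
import Cfsg.Agent.Lib.CharInd.Brauer
import Cfsg.Agent.Lib.CharClifford.Galois
import Cfsg.Agent.Lib.Transfer.Hall
import Cfsg.Agent.S0188
import Mathlib.GroupTheory.SchurZassenhaus
import Mathlib.GroupTheory.NoncommCoprod

/-!
# The star product of a character and a weight

For a character `χ` and a weight `η` the function `us ↦ ∑_b η(u, b) χ^b(us)`, the sum over the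
blocks `b` of the centralizer of the `p`-part `u`, is a generalized character.
-/

namespace Cfsg.Agent.BC85.Star

open BlocksCore BlocksDefect
open scoped Classical ComplexConjugate

universe u

variable {G : Type u} [Group G] [Fintype G] {p : ℕ} [Fact p.Prime] {M : Ideal AlgInt}
  [hP : M.IsPrime]

variable (p M) in
/-- The star product of `χ` with a weight. -/
noncomputable def starFun (η : BrauerPairIdx G → G → ℂ) (χ : G → ℂ) (g : G) : ℂ :=
  ∑ a ∈ pairsAt M (Subgroup.zpowers (pp p g)), η a (pp p g) *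
    ∑ c : G, bp a c * χ (pp p g * c * ((pp p g)⁻¹ * g))

/-- The same block, on an equal subgroup. -/
theorem exists_block_of_eq {H H' : Subgroup G} (h : H = H') {b : Set (IrrCharacter H)}
    (hb : IsPBlock M b) :
    ∃ b' : Set (IrrCharacter H'), IsPBlock M b' ∧
      subgroupBlockCoeff H' b' = subgroupBlockCoeff H b := by
  subst h
  exact ⟨b, hb, rfl⟩

/-- A block at a cyclic subgroup as a block of the centralizer of its generator. -/
theorem exists_block_singleton {v : G} {a : BrauerPairIdx G}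
    (ha : a ∈ pairsAt M (Subgroup.zpowers v)) :
    ∃ b : Set (IrrCharacter (Subgroup.centralizer ({v} : Set G))), IsPBlock M b ∧
      subgroupBlockCoeff (Subgroup.centralizer ({v} : Set G)) b = bp a := by
  obtain ⟨h1, h2⟩ := mem_pairsAt.mp ha
  obtain ⟨b, hb, hb'⟩ := exists_block_of_eq (M := M)
    (show Subgroup.centralizer (a.1 : Set G) = Subgroup.centralizer ({v} : Set G) by
      rw [h1, centralizer_zpowers]) h2
  exact ⟨b, hb, hb'⟩

omit [Fact p.Prime] in
theorem sum_bp_eq_blockPart {χ : IrrCharacter G} {v : G}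
    {b : Set (IrrCharacter (Subgroup.centralizer ({v} : Set G)))} {β : G → ℂ}
    (hb : subgroupBlockCoeff (Subgroup.centralizer ({v} : Set G)) b = β)
    (s : Subgroup.centralizer ({v} : Set G)) :
    ∑ c : G, β c * (χ : G → ℂ) (v * c * s) =
      blockPart b (fun c : Subgroup.centralizer ({v} : Set G) => (χ : G → ℂ) (v * c)) s := by
  rw [blockPart_eq_sum_blockCoeff b (CharCore.BlockSections.isClassFunction_translate χ), ← hb,
    ← Finset.sum_filter_add_sum_filter_not Finset.univ
      (fun c : G => c ∈ Subgroup.centralizer ({v} : Set G)),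
    Finset.sum_eq_zero (s := Finset.univ.filter fun c : G =>
      ¬ c ∈ Subgroup.centralizer ({v} : Set G)) (fun c hc => by
      rw [subgroupBlockCoeff_of_notMem _ _ (Finset.mem_filter.mp hc).2, zero_mul]), add_zero]
  refine (Finset.sum_bij (fun (c : Subgroup.centralizer ({v} : Set G)) _ => (c : G))
    (fun c _ => Finset.mem_filter.mpr ⟨Finset.mem_univ _, c.2⟩)
    (fun _ _ _ _ h => Subtype.ext h)
    (fun c hc => ⟨⟨c, (Finset.mem_filter.mp hc).2⟩, Finset.mem_univ _, rfl⟩) fun c _ => ?_).symm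
  rw [subgroupBlockCoeff_coe, Subgroup.coe_mul, mul_assoc]

variable (η : BrauerPairIdx G → G → ℂ) (hM : IsPModular p M) (hη : IsWeight p M η)
include hM hη

theorem starFun_isClassFunction (χ : IrrCharacter G) :
    IsClassFunction G (starFun p M η (χ : G → ℂ)) := by
  intro g t
  have hord := (pp_spec (p := p) g).choose_spec.2.2.1
  set v := pp p g with hv
  have hmem : ∀ (t v : G) (a : BrauerPairIdx G), (∃ n : ℕ, orderOf v = p ^ n) →
      a ∈ pairsAt M (Subgroup.zpowers v) →
      conjPair t a ∈ pairsAt M (Subgroup.zpowers (t * v * t⁻¹)) := by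
    intro t v a hv ha
    obtain ⟨h1, h2⟩ := mem_pairsAt.mp ha
    obtain ⟨m, hm⟩ := hv
    refine mem_pairsAt.mpr ⟨by rw [conjPair_fst, h1, map_conj_zpowers], ?_⟩
    exact (isBrauerPair_conj hM (a := a)
      ⟨h1 ▸ IsPGroup.of_card (n := m) (by rw [Nat.card_zpowers, hm]), h2⟩ t).2
  have hord' : ∃ n : ℕ, orderOf (t * v * t⁻¹) = p ^ n := by
    obtain ⟨m, hm⟩ := hord
    exact ⟨m, by rw [← MulAut.conj_apply, MulEquiv.orderOf_eq, hm]⟩
  simp only [starFun, pp_conj, ← hv]
  refine (Finset.sum_bij' (fun a _ => conjPair t a) (fun a _ => conjPair t⁻¹ a)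
    (fun a ha => hmem t v a hord ha) (fun a ha => ?_) (fun a _ => ?_) (fun a _ => ?_)
    fun a ha => ?_).symm
  · have := hmem t⁻¹ _ a hord' ha
    rwa [show t⁻¹ * (t * v * t⁻¹) * t⁻¹⁻¹ = v by group] at this
  · rw [conjPair_conjPair, inv_mul_cancel, conjPair_one]
  · rw [conjPair_conjPair, mul_inv_cancel, conjPair_one]
  · rw [hη.conj_eq a t v hord ha]
    congr 1
    refine Fintype.sum_equiv ((Equiv.mulLeft t).trans (Equiv.mulRight t⁻¹)) _ _ fun c => ?_
    simp only [Equiv.trans_apply, Equiv.coe_mulLeft, Equiv.coe_mulRight]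
    rw [bp_conjPair, show t⁻¹ * (t * c * t⁻¹) * t = c by group]
    congr 1
    rw [← irr_class χ (v * c * (v⁻¹ * g)) t]
    congr 1
    group

omit hη in
/-- The value at `u s` through an idempotent supported in the centralizer. -/
theorem hfun_embO {n : ℕ} (ρ : Representation ℂ G (Fin n → ℂ)) {v : G}
    (hv : ∃ n : ℕ, orderOf v = p ^ n) {F : G → ℂ} (hF : ∀ g, MemLocalRing M (F g))
    (hFi : conv F F = F) (hFs : ∀ g, F g ≠ 0 → g ∈ Subgroup.centralizer ({v} : Set G)) :
    hfun M ρ η (emb M F) v = ∑ s : G, F s * ∑ a ∈ pairsAt M (Subgroup.zpowers v),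
      η a v * ∑ c : G, bp a c * ρ.character (v * c * s) := by
  obtain ⟨m, hm⟩ := hv
  have hFC : ∀ g, F g ≠ 0 → g ∈ Subgroup.centralizer (Subgroup.zpowers v : Set G) := fun g hg => by
    rw [centralizer_zpowers]
    exact hFs g hg
  have hsupp : ∀ g, (emb M F).coeff g ≠ 0 →
      g ∈ Subgroup.centralizer (Subgroup.zpowers v : Set G) := fun g hg =>
    hFC g fun h => hg (coeff_emb_eq_zero h)
  simp only [hfun, br_eq_self hsupp, Finset.mul_sum]
  rw [Finset.sum_comm]
  refine Finset.sum_congr rfl fun a ha => ?_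
  have hb := bp_mem hM ha
  have hidF : IsIdempotentElem (embO M F) := by
    show _ * _ = _
    rw [← embO_conv hF hF, hFi]
  have hfixF : Fixd {v} (embO M F) := by
    intro w hw
    rw [Set.mem_singleton_iff.mp hw, cj_embO]
    congr 1
    funext g
    by_cases hg : g ∈ Subgroup.centralizer ({v} : Set G)
    · rw [mul_assoc, Subgroup.mem_centralizer_singleton_iff.mp hg, inv_mul_cancel_left]
    · have h1 : F g = 0 := not_not.mp fun h => hg (hFs g h)
      rw [h1]
      by_contra h
      have := hFs _ h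
      apply hg
      rw [Subgroup.mem_centralizer_singleton_iff] at this ⊢
      calc g * v = v * (v⁻¹ * g * v * v) * v⁻¹ := by group
        _ = _ := by rw [this]; group
  have hfixb : ∀ c ∈ Subgroup.centralizer (Subgroup.zpowers v : Set G),
      cj c (embO M (bp a)) = embO M (bp a) := by
    intro c hc
    rw [cj_embO]
    congr 1
    funext g
    obtain ⟨R, f⟩ := a
    obtain ⟨h, -⟩ := mem_pairsAt.mp ha
    dsimp only at h
    subst h
    have := subgroupBlockCoeff_conj_of_mem
      (H := Subgroup.centralizer ((Subgroup.zpowers v : Subgroup G) : Set G)) f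
      (Subgroup.inv_mem _ hc) g
    rwa [inv_inv] at this
  have hcomm : Commute (embO M (bp a)) (embO M F) := by
    have hsum : embO M F = ∑ g : G, (embO M F).coeff g • MonoidAlgebra.of (localRing M) G g :=
      MonoidAlgebra.ext (Finsupp.ext fun g => by simp [Finsupp.single_apply])
    rw [hsum]
    refine Commute.sum_right _ _ _ fun g _ => ?_
    by_cases hg : (embO M F).coeff g = 0
    · rw [hg, zero_smul]
      exact Commute.zero_right _
    · refine Commute.smul_right (Commute.symm ?_) _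
      exact (fixd_iff_commute (S := {g})).mp (fun w hw => (Set.mem_singleton_iff.mp hw) ▸
        hfixb g (hFC g fun h => hg (coeff_embO_eq_zero h))) g rfl
  have hvv : v ∈ Subgroup.centralizer (Subgroup.zpowers v : Set G) := by
    rw [centralizer_zpowers]
    exact Subgroup.mem_centralizer_singleton_iff.mpr rfl
  have hlift : red M G (embO M (bp a) * embO M F) = emb M F * bk M a := by
    rw [map_mul]
    exact (hcomm.map (red M G)).eq
  rw [val_eq ρ (IsIdempotentElem.mul_of_commute hcomm (bp_idem hM ha) hidF)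
    (Fixd.mul (fun w hw => (Set.mem_singleton_iff.mp hw).symm ▸ hfixb _ hvv) hfixF) hlift]
  have htau : ∀ x : OG M G, tau ρ (MonoidAlgebra.of _ G v * x) =
      ∑ g : G, ((x.coeff g : localRing M) : ℂ) * ρ.character (v * g) := by
    intro x
    have hsum : x = ∑ g : G, x.coeff g • MonoidAlgebra.of (localRing M) G g :=
      MonoidAlgebra.ext (Finsupp.ext fun g => by simp [Finsupp.single_apply])
    conv_lhs => rw [hsum]
    rw [Finset.mul_sum, map_sum]
    refine Finset.sum_congr rfl fun g _ => ?_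
    rw [mul_smul_comm, ← map_mul, tau_smul, tau_of]
  rw [htau]
  simp only [coe_coeff_mul, coe_coeff_embO hb, coe_coeff_embO hF, Finset.sum_mul, Finset.mul_sum]
  rw [Finset.sum_comm]
  conv_rhs => rw [Finset.sum_comm]
  refine Finset.sum_congr rfl fun c _ => ?_
  refine (Fintype.sum_equiv (Equiv.mulLeft c) _ _ fun s => ?_).symm
  rw [Equiv.coe_mulLeft, inv_mul_cancel_left, ← mul_assoc v c s]
  ring

/-- The restriction to a direct product of a `p`-subgroup and a commuting `p'`-subgroup. -/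
theorem starFun_gen_prod (χ : IrrCharacter G) {U S : Subgroup G} (hU : IsPGroup p U)
    (hS : ¬ p ∣ Nat.card S) (hUS : ∀ x ∈ U, ∀ y ∈ S, Commute x y) :
    IsGeneralizedCharacter (U × S)
      (fun x : U × S => starFun p M η (χ : G → ℂ) ((x.1 : G) * (x.2 : G))) := by
  have hp := (Fact.out : p.Prime)
  have hχ : IsIrrCharacter G (χ : G → ℂ) := χ.2
  obtain ⟨N, ρ, hρirr, hρ⟩ := hχ
  set f := starFun p M η (χ : G → ℂ) with hf
  have hcf := starFun_isClassFunction η hM hη χ
  refine CharCore.isGeneralizedCharacter_iff.mpr ⟨fun x y => ?_, fun ψ => ?_⟩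
  · show f (((y * x * y⁻¹ : U × S).1 : G) * ((y * x * y⁻¹ : U × S).2 : G)) = f _
    simp only [Prod.fst_mul, Prod.snd_mul, Prod.fst_inv, Prod.snd_inv, Subgroup.coe_mul,
      Subgroup.coe_inv]
    rw [show (y.1 : G) * x.1 * (y.1 : G)⁻¹ * ((y.2 : G) * x.2 * (y.2 : G)⁻¹) =
        (y.1 * y.2 : G) * ((x.1 : G) * x.2) * (y.1 * y.2 : G)⁻¹ from ?_]
    · exact hcf _ _
    · have h1 := (hUS x.1 x.1.2 y.2 y.2.2).eq
      have h2 := (hUS y.1 y.1.2 x.2 x.2.2).eq
      have h3 := (hUS y.1 y.1.2 y.2 y.2.2).eq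
      have h4 : (y.1 : G)⁻¹ * (y.2 : G) = y.2 * (y.1 : G)⁻¹ :=
        (hUS _ (U.inv_mem y.1.2) _ y.2.2).eq
      have h5 : (y.1 : G)⁻¹ * (x.2 : G) = x.2 * (y.1 : G)⁻¹ :=
        (hUS _ (U.inv_mem y.1.2) _ x.2.2).eq
      have h6 : (y.1 : G)⁻¹ * (y.2 : G)⁻¹ = (y.2 : G)⁻¹ * (y.1 : G)⁻¹ :=
        (hUS _ (U.inv_mem y.1.2) _ (S.inv_mem y.2.2)).eq
      calc (y.1 : G) * x.1 * (y.1 : G)⁻¹ * ((y.2 : G) * x.2 * (y.2 : G)⁻¹)
          = (y.1 : G) * x.1 * ((y.1 : G)⁻¹ * y.2) * (x.2 * (y.2 : G)⁻¹) := by group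
        _ = (y.1 : G) * (x.1 * y.2) * ((y.1 : G)⁻¹ * x.2) * (y.2 : G)⁻¹ := by
          rw [h4]; group
        _ = (y.1 : G) * y.2 * (x.1 * x.2) * ((y.1 : G)⁻¹ * (y.2 : G)⁻¹) := by
          rw [h1, h5]; group
        _ = _ := by rw [h6]; group
  obtain ⟨φ, μ, hφ, hμ, hψ⟩ := (S0188.result _).mp ψ.2
  let μ' : IrrCharacter S := ⟨μ, hμ⟩
  -- the value on a product
  have hpp : ∀ (x : U) (s : S), pp p ((x : G) * s) = x := fun x s =>
    pp_mul (orderOf_pow_of_mem hU x.2) (fun h => hS (h.trans (by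
      rw [Subgroup.orderOf_coe]; exact orderOf_dvd_natCard s))) (hUS x x.2 s s.2)
  have hval : ∀ (x : U) (s : S), f ((x : G) * s) =
      ∑ a ∈ pairsAt M (Subgroup.zpowers (x : G)), η a x *
        ∑ c : G, bp a c * ρ.character ((x : G) * c * s) := fun x s => by
    rw [hf, starFun, hpp, ← hρ, inv_mul_cancel_left]
  set X : U → ℂ := fun x => (Nat.card S : ℂ)⁻¹ * ∑ s : S, f ((x : G) * s) * conj (μ s) with hX
  -- the idempotent of `μ`
  set F : G → ℂ := subgroupBlockCoeff S {μ'} with hFdef
  have hinv : MemLocalRing M ((Nat.card S : ℂ)⁻¹) := memLocalRing_natCast_inv hM hS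
  have hFs : ∀ s : S, F s = (Nat.card S : ℂ)⁻¹ * (μ 1 * conj (μ s)) := fun s => by
    rw [hFdef, subgroupBlockCoeff_coe, blockCoeff_singleton]
  have hF : ∀ g, MemLocalRing M (F g) := fun g => by
    by_cases hg : g ∈ S
    · rw [show g = ((⟨g, hg⟩ : S) : G) from rfl, hFs, conj_irr μ']
      exact (localRing M).mul_mem hinv ((localRing M).mul_mem
        (memLocalRing_of_isIntegral (isIntegral_irr μ' _))
        (memLocalRing_of_isIntegral (isIntegral_irr μ' _)))
    · rw [hFdef, subgroupBlockCoeff_of_notMem _ _ hg]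
      exact (localRing M).zero_mem
  have hFi : conv F F = F := by rw [hFdef, conv_subgroupBlockCoeff, Set.inter_self]
  have hFsupp : ∀ g, F g ≠ 0 → g ∈ S := fun g hg => by
    by_contra h
    exact hg (subgroupBlockCoeff_of_notMem _ _ h)
  have hFC : ∀ x : U, ∀ g, F g ≠ 0 → g ∈ Subgroup.centralizer ({(x : G)} : Set G) :=
    fun x g hg => Subgroup.mem_centralizer_singleton_iff.mpr (hUS x x.2 g (hFsupp g hg)).eq.symm
  have hh : ∀ x : U, hfun M ρ η (emb M F) x = μ 1 * X x := by
    intro x
    rw [hfun_embO η hM ρ (orderOf_pow_of_mem hU x.2) hF hFi (hFC x), hX, ← mul_assoc, Finset.mul_sum,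
      ← Finset.sum_filter_add_sum_filter_not Finset.univ (fun g : G => g ∈ S),
      Finset.sum_eq_zero (s := Finset.univ.filter fun g : G => ¬ g ∈ S) (fun g hg => by
        rw [hFdef, subgroupBlockCoeff_of_notMem _ _ (Finset.mem_filter.mp hg).2, zero_mul]),
      add_zero]
    refine (Finset.sum_bij (fun (s : S) _ => (s : G))
      (fun s _ => Finset.mem_filter.mpr ⟨Finset.mem_univ _, s.2⟩)
      (fun _ _ _ _ h => Subtype.ext h)
      (fun g hg => ⟨⟨g, (Finset.mem_filter.mp hg).2⟩, Finset.mem_univ _, rfl⟩) fun s _ => ?_).symm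
    rw [hFs, hval]
    ring
  have hidF : IsIdempotentElem (emb M F) := by
    show _ * _ = _
    rw [← emb_conv hF hF, hFi]
  have hfixF : Fixd (U : Set G) (emb M F) := by
    intro x hx
    rw [cj_emb]
    congr 1
    funext g
    by_cases hg : g ∈ S
    · rw [mul_assoc, ← (hUS x hx g hg).eq, inv_mul_cancel_left]
    · rw [hFdef, subgroupBlockCoeff_of_notMem _ _ hg, subgroupBlockCoeff_of_notMem _ _]
      intro h
      apply hg
      have h2 := (hUS x hx _ h).eq
      rw [← mul_assoc, ← mul_assoc, mul_inv_cancel, one_mul, mul_left_inj] at h2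
      rw [h2]
      exact h
  obtain ⟨k, hk⟩ := CharCore.IsGeneralizedCharacter.exists_classInner_eq_intCast
    (hfun_gen ρ η hM hη hU hidF hfixF)
    (CharCore.IsCharacter.isGeneralized (CharCore.IsIrrCharacter.isCharacter hφ))
  -- `X` takes algebraic integer values
  have hXint : ∀ x : U, IsIntegral ℤ (X x) := by
    intro x
    show IsIntegral ℤ ((Nat.card S : ℂ)⁻¹ * ∑ s : S, f ((x : G) * s) * conj (μ s))
    simp only [hval]
    rw [Finset.sum_congr rfl fun s _ => by rw [Finset.sum_mul]]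
    rw [Finset.sum_comm, Finset.mul_sum]
    refine IsIntegral.sum _ fun a ha => ?_
    simp only [mul_assoc (η a x), ← Finset.mul_sum]
    rw [mul_left_comm]
    refine IsIntegral.mul ?_ ?_
    · obtain ⟨R, e⟩ := a
      obtain ⟨hR, he⟩ := mem_pairsAt.mp ha
      dsimp only at hR
      subst hR
      obtain ⟨Θ, hΘ, hΘη⟩ := hη.gen_below (Subgroup.zpowers (x : G)) e
        ⟨hU.to_le (Subgroup.zpowers_le.mpr x.2), he⟩
      rw [show η ⟨Subgroup.zpowers (x : G), e⟩ x = Θ ⟨x, Subgroup.mem_zpowers _⟩ from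
        hΘη ⟨x, Subgroup.mem_zpowers _⟩ e Relation.ReflTransGen.refl]
      exact CharCore.IsGeneralizedCharacter.isIntegral hΘ _
    obtain ⟨b, hb, hbeq⟩ := exists_block_singleton ha
    have hSC : S ≤ Subgroup.centralizer ({(x : G)} : Set G) := fun s hs =>
      Subgroup.mem_centralizer_singleton_iff.mpr (hUS x x.2 s hs).eq.symm
    have e1 : ∀ s : S, ∑ c : G, bp a c * ρ.character ((x : G) * c * s) =
        ∑ θ ∈ CharCore.SubContrib.mems b, CharCore.SubContrib.cf (x : G) χ θ *
          (θ : Subgroup.centralizer ({(x : G)} : Set G) → ℂ) (Subgroup.inclusion hSC s) := by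
      intro s
      rw [hρ]
      refine (sum_bp_eq_blockPart hbeq (Subgroup.inclusion hSC s)).trans ?_
      have h2 := congrFun (CharCore.SubContrib.part_eq_sum b χ) (Subgroup.inclusion hSC s)
      rw [CharCore.SubContrib.part, Finset.sum_apply] at h2
      exact h2
    simp only [e1, Finset.sum_mul]
    rw [Finset.sum_comm, Finset.mul_sum]
    refine IsIntegral.sum _ fun θ _ => ?_
    simp only [mul_assoc, ← Finset.mul_sum]
    rw [mul_left_comm]
    refine IsIntegral.mul ?_ ?_
    · obtain ⟨j, hj⟩ := orderOf_pow_of_mem hU x.2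
      exact CharCore.PPCyc.isIntegral_of_mem hp (CharCore.SubContrib.cf_mem
        (CharCore.SubContrib.pow_eq_one_of_le hj (Nat.le_succ j)) χ θ)
    · obtain ⟨z, hz⟩ := CharCore.IsGeneralizedCharacter.exists_classInner_irr_eq_intCast
        (CharCore.isGeneralized_comp (CharCore.irr_isGeneralized θ) (Subgroup.inclusion hSC)) μ'
      simp only [classInner] at hz
      rw [hz]
      exact isIntegral_algebraMap (R := ℤ) (x := z)
  -- conclusion
  have ha : classInner (fun y : U × S => f ((y.1 : G) * y.2)) (ψ : U × S → ℂ) =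
      (Nat.card U : ℂ)⁻¹ * ∑ x : U, X x * conj (φ x) := by
    rw [hψ]
    simp only [classInner, hX, Fintype.sum_prod_type, Nat.card_prod, Nat.cast_mul, map_mul,
      mul_inv, Finset.mul_sum, Finset.sum_mul]
    refine Finset.sum_congr rfl fun x _ => Finset.sum_congr rfl fun s _ => ?_
    ring
  rw [ha]
  set A := (Nat.card U : ℂ)⁻¹ * ∑ x : U, X x * conj (φ x) with hA
  have hk' : μ 1 * A = k := by
    rw [← hk, hA]
    simp only [classInner, hh, Finset.mul_sum]
    refine Finset.sum_congr rfl fun x _ => ?_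
    ring
  have hU0 : (Nat.card U : ℂ) ≠ 0 := Nat.cast_ne_zero.mpr Nat.card_pos.ne'
  have hint : IsIntegral ℤ ((Nat.card U : ℂ) * A) := by
    rw [hA, mul_inv_cancel_left₀ hU0]
    refine IsIntegral.sum _ fun x _ => (hXint x).mul ?_
    rw [conj_irr (⟨φ, hφ⟩ : IrrCharacter U)]
    exact isIntegral_irr (⟨φ, hφ⟩ : IrrCharacter U) _
  set d := charDegree (μ' : S → ℂ) with hd
  have hd1 : μ 1 = (d : ℂ) := irr_one_eq μ'
  have hcop : IsCoprime (d : ℤ) (Nat.card U : ℤ) := by
    obtain ⟨j, hj⟩ := hU.exists_card_eq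
    rw [Int.isCoprime_iff_gcd_eq_one, hj]
    exact Nat.Coprime.pow_right _ ((hp.coprime_iff_not_dvd.mpr fun h =>
      hS (h.trans (charDegree_dvd_card μ'))).symm)
  obtain ⟨x, y, hxy⟩ := hcop
  have hAint : IsIntegral ℤ A := by
    have e : A = (x : ℂ) * (μ 1 * A) + (y : ℂ) * ((Nat.card U : ℂ) * A) := by
      have h1 : (x : ℂ) * (d : ℂ) + (y : ℂ) * (Nat.card U : ℂ) = 1 := by exact_mod_cast hxy
      rw [hd1]
      linear_combination (-A) * h1
    rw [e, hk']
    exact ((isIntegral_algebraMap (R := ℤ) (x := x)).mul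
      (isIntegral_algebraMap (R := ℤ) (x := k))).add
        ((isIntegral_algebraMap (R := ℤ) (x := y)).mul hint)
  have hd0 : (d : ℂ) ≠ 0 := hd1 ▸ CharCore.irr_apply_one_ne_zero μ'
  have hAq : A = (((k : ℚ) / (d : ℚ) : ℚ) : ℂ) := by
    push_cast
    rw [eq_div_iff hd0, mul_comm, ← hd1, hk']
  obtain ⟨z, hz⟩ := CharClifford.exists_int_of_isIntegral_rat (hAq ▸ hAint)
  exact ⟨z, by rw [hAq, hz]; simp⟩

/-- **Broué–Puig.** The star product of an irreducible character with a weight is a generalized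
character. -/
theorem starFun_gen (χ : IrrCharacter G) :
    IsGeneralizedCharacter G (starFun p M η (χ : G → ℂ)) := by
  refine CharInd.isGeneralizedCharacter_of_elementary (starFun_isClassFunction η hM hη χ)
    fun E q hq hE => ?_
  have := CharInd.isNilpotent_of_isElementary hq hE
  obtain ⟨P⟩ := (inferInstance : Nonempty (Sylow p E))
  have hnc : NormalizerCondition E := normalizerCondition_of_isNilpotent
  have hPn : (P : Subgroup E).Normal := Sylow.normal_of_normalizerCondition hnc P
  obtain ⟨K, hK⟩ := Subgroup.exists_right_complement'_of_coprime (N := (P : Subgroup E))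
    P.card_coprime_index
  have hKc : ¬ p ∣ Nat.card K := by
    have : Nat.card K = (P : Subgroup E).index := hK.symm.index_eq_card.symm
    rw [this]
    exact P.not_dvd_index
  have hcomm : ∀ (x : (P : Subgroup E)) (y : K), Commute (x : E) (y : E) := by
    intro x y
    refine Transfer.nilpotent_commute_of_coprime ‹_› ?_
    obtain ⟨j, hj⟩ := IsPGroup.iff_orderOf.mp P.2 x
    rw [Subgroup.orderOf_coe, hj, Subgroup.orderOf_coe]
    exact Nat.Coprime.pow_left _ ((Fact.out : p.Prime).coprime_iff_not_dvd.mpr fun h =>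
      hKc (h.trans (orderOf_dvd_natCard y)))
  have hinj : Function.Injective E.subtype := E.subtype_injective
  set U : Subgroup G := (P : Subgroup E).map E.subtype with hU
  set S : Subgroup G := K.map E.subtype with hS
  have hUp : IsPGroup p U := P.2.map E.subtype
  have hSp : ¬ p ∣ Nat.card S := by
    rwa [Nat.card_congr (K.equivMapOfInjective E.subtype hinj).symm.toEquiv]
  have hUS : ∀ x ∈ U, ∀ y ∈ S, Commute x y := by
    rintro _ ⟨x, hx, rfl⟩ _ ⟨y, hy, rfl⟩
    exact (hcomm ⟨x, hx⟩ ⟨y, hy⟩).map E.subtype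
  have hgen := starFun_gen_prod η hM hη χ hUp hSp hUS
  let e₁ := (P : Subgroup E).equivMapOfInjective E.subtype hinj
  let e₂ := K.equivMapOfInjective E.subtype hinj
  let φ : ↥(P : Subgroup E) × ↥K →* E :=
    MonoidHom.noncommCoprod (P : Subgroup E).subtype K.subtype fun x y => hcomm x y
  have hφ : Function.Bijective φ := by
    have := hK
    exact this
  let e := MulEquiv.ofBijective φ hφ
  have := CharCore.isGeneralized_comp hgen
    ((e₁.prodCongr e₂).toMonoidHom.comp e.symm.toMonoidHom)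
  convert this using 1
  funext g
  congr 1
  have h := e.apply_symm_apply g
  conv_lhs => rw [← h]
  rfl

end Cfsg.Agent.BC85.Star
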