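import Cfsg.Agent.Lib.BlocksCore.Local
import Mathlib.FieldTheory.IsAlgClosed.Basic
import Mathlib.Algebra.Polynomial.Lifts
import Mathlib.RingTheory.Nakayama
import Mathlib.RingTheory.IntegralClosure.IsIntegralClosure.Basic
import Mathlib.Algebra.MonoidAlgebra.Basic
import Mathlib.Algebra.MonoidAlgebra.MapDomain
import Mathlib.RingTheory.Finiteness.Basic

/-!
# The group algebra over the local ring and over its residue field

The local ring at `M` is integrally closed in `ℂ`, so its residue field is algebraically closed
and idempotents of the group algebra over the residue field lift, uniquely up to conjugation.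
-/

namespace Cfsg.Agent.BC85.Star

open BlocksCore Polynomial

variable (M : Ideal AlgInt) [hP : M.IsPrime]

/-- The residue field. -/
abbrev Res : Type := localRing M ⧸ localIdeal M

noncomputable instance instFieldRes : Field (Res M) := Ideal.Quotient.field _

/-- The group algebra over the local ring. -/
abbrev OG (G : Type*) : Type _ := MonoidAlgebra (localRing M) G

/-- The group algebra over the residue field. -/
abbrev KG (G : Type*) : Type _ := MonoidAlgebra (Res M) G

/-- Reduction modulo the local ideal. -/
noncomputable def red (G : Type*) [Monoid G] : OG M G →+* KG M G :=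
  MonoidAlgebra.mapRingHom G (Ideal.Quotient.mk (localIdeal M))

variable {M}

theorem residue_eq_zero_iff {x : localRing M} :
    Ideal.Quotient.mk (localIdeal M) x = 0 ↔ MemLocalIdeal M (x : ℂ) := by
  rw [Ideal.Quotient.eq_zero_iff_mem, mem_localIdeal_iff]

theorem isUnit_of_residue_ne_zero {x : localRing M}
    (h : Ideal.Quotient.mk (localIdeal M) x ≠ 0) : IsUnit x := by
  obtain ⟨h0, h1⟩ := memLocalRing_inv x.2 fun h' => h (residue_eq_zero_iff.mpr h')
  exact isUnit_iff_exists_inv.mpr ⟨⟨_, h1⟩, Subtype.ext (mul_inv_cancel₀ h0)⟩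

theorem memLocalRing_of_root {z : ℂ} {q : Polynomial (localRing M)} (hq : q.Monic)
    (h : aeval z q = 0) : MemLocalRing M z := by
  classical
  have hint : ∀ i, ∃ b : AlgInt, b ∉ M ∧ ((q.coeff i : localRing M) : ℂ) * (b : ℂ) ∈ AlgInt := by
    intro i
    obtain ⟨a, b, hb, hab⟩ := (q.coeff i).2
    exact ⟨b, hb, by rw [← hab, div_mul_cancel₀ _ (coe_ne_zero_of_notMem hb)]; exact a.2⟩
  choose b hbM hbi using hint
  set β : AlgInt := ∏ i ∈ Finset.range (q.natDegree + 1), b i with hβ
  have hβM : β ∉ M := fun h => by
    obtain ⟨i, -, hi⟩ := hP.prod_mem_iff.mp h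
    exact hbM i hi
  set Q : Polynomial ℂ := (q.map (localRing M).subtype).scaleRoots (β : ℂ) with hQ
  have hQm : Q.Monic := (monic_scaleRoots_iff _).mpr (hq.map _)
  have hQc : ∀ i, IsIntegral ℤ (Q.coeff i) := by
    intro i
    rw [hQ, coeff_scaleRoots, natDegree_map_eq_of_injective Subtype.val_injective, coeff_map]
    rcases lt_or_ge i q.natDegree with hi | hi
    · have hmem : i ∈ Finset.range (q.natDegree + 1) := Finset.mem_range.mpr (by omega)
      obtain ⟨k, hk⟩ := Nat.exists_eq_add_of_lt hi
      rw [show q.natDegree - i = k + 1 by omega, pow_succ', hβ, ← Finset.mul_prod_erase _ _ hmem]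
      push_cast
      generalize hW : (∏ x ∈ (Finset.range (q.natDegree + 1)).erase i, (b x : ℂ)) = W
      have hWi : IsIntegral ℤ W := hW ▸ IsIntegral.prod _ fun x _ => (b x).2
      rw [show (localRing M).subtype (q.coeff i) * ((b i : ℂ) * W * ((b i : ℂ) * W) ^ k) =
        ((localRing M).subtype (q.coeff i) * (b i : ℂ)) * (W * ((b i : ℂ) * W) ^ k) by ring]
      exact (hbi i).mul (hWi.mul (((b i).2.mul hWi).pow _))
    · rcases eq_or_lt_of_le hi with hi | hi
      · subst hi
        simp [hq.coeff_natDegree, isIntegral_one]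
      · simp [coeff_eq_zero_of_natDegree_lt hi, isIntegral_zero]
  have hroot : Q.eval ((β : ℂ) * z) = 0 := by
    have h1 := scaleRoots_eval₂_eq_zero (RingHom.id ℂ) (r := z) (s := (β : ℂ))
      (p := q.map (localRing M).subtype) (by rw [eval₂_map]; exact h)
    exact h1
  have hlifts : Q ∈ lifts (algebraMap AlgInt ℂ) := (lifts_iff_coeff_lifts _).mpr fun i =>
    ⟨⟨Q.coeff i, hQc i⟩, rfl⟩
  obtain ⟨Q', hQ', -, hQ'm⟩ := lifts_and_degree_eq_and_monic hlifts hQm
  have hint' : IsIntegral ℤ ((β : ℂ) * z) :=
    isIntegral_trans (R := ℤ) (A := AlgInt) _ ⟨Q', hQ'm, by rw [← eval_map, hQ']; exact hroot⟩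
  exact ⟨⟨_, hint'⟩, β, hβM, mul_div_cancel_left₀ z (coe_ne_zero_of_notMem hβM)⟩

theorem exists_root {q : Polynomial (localRing M)} (hq : q.Monic) (hd : q.natDegree ≠ 0) :
    ∃ r : localRing M, q.IsRoot r := by
  obtain ⟨z, hz⟩ := IsAlgClosed.exists_root (q.map (localRing M).subtype) (by
    rw [degree_map_eq_of_injective Subtype.val_injective, degree_eq_natDegree hq.ne_zero]
    exact_mod_cast hd)
  have hz' : aeval z q = 0 := by
    rw [IsRoot, eval_map] at hz
    exact hz
  refine ⟨⟨z, memLocalRing_of_root hq hz'⟩, ?_⟩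
  apply Subtype.val_injective (p := (· ∈ localRing M))
  exact (eval₂_at_apply (localRing M).subtype _).symm.trans hz'

instance : IsAlgClosed (Res M) := by
  refine IsAlgClosed.of_exists_root _ fun q hq hirr => ?_
  obtain ⟨q', hq', hdeg, hq'm⟩ := lifts_and_natDegree_eq_and_monic
    ((lifts_iff_coeff_lifts q).mpr fun i => Ideal.Quotient.mk_surjective (q.coeff i)) hq
  obtain ⟨r, hr⟩ := exists_root hq'm (hdeg.trans_ne hirr.natDegree_pos.ne')
  exact ⟨Ideal.Quotient.mk _ r, by rw [← hq']; exact hr.map⟩

theorem charP_res {p : ℕ} (hM : IsPModular p M) : CharP (Res M) p := charP_residue hM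

variable {G : Type*}

theorem red_apply [Monoid G] (a : OG M G) (g : G) :
    (red M G a).coeff g = Ideal.Quotient.mk (localIdeal M) (a.coeff g) :=
  MonoidAlgebra.coeff_mapRingHom _ _ _

@[simp] theorem red_single [Monoid G] (g : G) (r : localRing M) :
    red M G (MonoidAlgebra.single g r) =
      MonoidAlgebra.single g (Ideal.Quotient.mk (localIdeal M) r) :=
  MonoidAlgebra.mapRingHom_single _ _ _

theorem red_smul [Monoid G] (r : localRing M) (a : OG M G) :
    red M G (r • a) = Ideal.Quotient.mk (localIdeal M) r • red M G a :=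
  MonoidAlgebra.ext (Finsupp.ext fun g => by simp [red_apply])

@[simp] theorem red_of [Monoid G] (g : G) :
    red M G (MonoidAlgebra.of (localRing M) G g) = MonoidAlgebra.of (Res M) G g := by
  simp [MonoidAlgebra.of_apply]

theorem red_aeval [Monoid G] (a : OG M G) (q : Polynomial (localRing M)) :
    red M G (aeval a q) = aeval (red M G a) (q.map (Ideal.Quotient.mk (localIdeal M))) := by
  induction q using Polynomial.induction_on' with
  | add f g hf hg => simp [hf, hg]
  | monomial n r => simp [aeval_monomial, red_single, map_monomial]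

variable [Group G] [Finite G]

instance : Module.Finite (localRing M) (OG M G) := MonoidAlgebra.moduleFinite

theorem isUnit_one_sub_of_red_eq_zero {a : OG M G} (ha : red M G a = 0) : IsUnit (1 - a) := by
  classical
  have := Fintype.ofFinite G
  have hright : ∀ x : OG M G, red M G x = 1 → ∃ y, x * y = 1 ∧ red M G y = 1 := by
    intro x hx
    have htop : (⊤ : Submodule (localRing M) (OG M G)) ≤
        LinearMap.range (LinearMap.mulLeft (localRing M) x) := by
      refine Submodule.le_of_le_smul_of_le_jacobson_bot (I := localIdeal M) Module.Finite.fg_top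
        (le_sInf fun J hJ => ?_) fun z _ => ?_
      · intro r hr
        by_contra hrJ
        obtain ⟨s, j, hj, hs⟩ := (Ideal.IsMaximal.exists_inv (hI := hJ.2) hrJ)
        have : IsUnit j := by
          refine isUnit_of_residue_ne_zero ?_
          have h1 := congrArg (Ideal.Quotient.mk (localIdeal M)) hs
          rw [map_add, map_mul, (Ideal.Quotient.eq_zero_iff_mem).mpr hr, mul_zero, zero_add,
            map_one] at h1
          rw [h1]
          exact one_ne_zero
        exact hJ.2.ne_top (Ideal.eq_top_of_isUnit_mem _ hj this)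
      · have hz : z = x * z + (1 - x) * z := by rw [sub_mul, one_mul, add_sub_cancel]
        rw [hz]
        refine Submodule.add_mem_sup ⟨z, rfl⟩ ?_
        have h0 : red M G ((1 - x) * z) = 0 := by simp [hx]
        rw [show (1 - x) * z = ∑ g : G,
            ((1 - x) * z).coeff g • MonoidAlgebra.single g (1 : localRing M) from
          MonoidAlgebra.ext (Finsupp.ext fun g => by simp [Finsupp.single_apply])]
        refine Submodule.sum_mem _ fun g _ => Submodule.smul_mem_smul ?_ trivial
        rw [← Ideal.Quotient.eq_zero_iff_mem, ← red_apply, h0]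
        rfl
    obtain ⟨y, hy⟩ := htop (x := 1) trivial
    refine ⟨y, hy, ?_⟩
    have := congrArg (red M G) hy
    simpa [hx] using this
  obtain ⟨y, hy, hy1⟩ := hright (1 - a) (by simp [ha])
  obtain ⟨z, hz, -⟩ := hright y hy1
  refine ⟨⟨1 - a, y, hy, ?_⟩, rfl⟩
  have hza : (1 : OG M G) - a = z := calc
    (1 : OG M G) - a = (1 - a) * (y * z) := by rw [hz, mul_one]
    _ = z := by rw [← mul_assoc, hy, one_mul]
  rw [hza]
  exact hz

theorem isUnit_of_isUnit_red {a : OG M G} (ha : IsUnit (red M G a)) : IsUnit a := by
  obtain ⟨v, hv⟩ := ha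
  choose s hs using fun x : Res M => Ideal.Quotient.mk_surjective (I := localIdeal M) x
  set b : OG M G := ∑ᶠ g : G, MonoidAlgebra.single g (s ((↑v⁻¹ : KG M G).coeff g)) with hb
  have hbr : red M G b = ↑v⁻¹ := by
    have := Fintype.ofFinite G
    refine MonoidAlgebra.ext (Finsupp.ext fun g => ?_)
    rw [hb, finsum_eq_sum_of_fintype, map_sum]
    simp [hs, Finsupp.single_apply]
  have h1 : IsUnit (a * b) := by
    have := isUnit_one_sub_of_red_eq_zero (a := 1 - a * b) (by simp [hbr, ← hv])
    rwa [sub_sub_cancel] at this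
  have h2 : IsUnit (b * a) := by
    have := isUnit_one_sub_of_red_eq_zero (a := 1 - b * a) (by simp [hbr, ← hv])
    rwa [sub_sub_cancel] at this
  obtain ⟨w, hw⟩ := h1
  obtain ⟨w', hw'⟩ := h2
  refine isUnit_iff_exists_and_exists.mpr ⟨⟨b * ↑w⁻¹, ?_⟩, ⟨↑w'⁻¹ * b, ?_⟩⟩
  · rw [← mul_assoc, ← hw, Units.mul_inv]
  · rw [mul_assoc, ← hw', Units.inv_mul]

/-- An element that is idempotent modulo the local ideal lifts to an idempotent commuting with
everything that commutes with it. -/
theorem exists_idempotent_lift (a : OG M G) (ha : IsIdempotentElem (red M G a)) :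
    ∃ e : OG M G, IsIdempotentElem e ∧ red M G e = red M G a ∧
      ∀ x, Commute x a → Commute x e := by
  classical
  obtain ⟨q, hqm, hq⟩ := Algebra.IsIntegral.isIntegral (R := localRing M) a
  replace hq : aeval a q = 0 := hq
  obtain ⟨s, hs⟩ : ∃ s : Multiset (localRing M), q = (s.map fun r => X - C r).prod := by
    clear hq
    induction hn : q.natDegree generalizing q with
    | zero => exact ⟨0, by simpa using hqm.natDegree_eq_zero.mp hn⟩
    | succ n ih =>
      obtain ⟨r, hr⟩ := exists_root hqm (by omega)
      obtain ⟨q', rfl⟩ := dvd_iff_isRoot.mpr hr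
      have hq'm : q'.Monic := (monic_X_sub_C r).of_mul_monic_left hqm
      obtain ⟨s, rfl⟩ := ih q' hq'm (by
        rw [(monic_X_sub_C r).natDegree_mul hq'm, natDegree_X_sub_C] at hn
        omega)
      exact ⟨r ::ₘ s, by simp⟩
  let π := Ideal.Quotient.mk (localIdeal M)
  set s₀ := s.filter fun r => π r = 0 with hs₀
  set s₁ := s.filter fun r => ¬ π r = 0 with hs₁
  set q₀ := (s₀.map fun r => X - C r).prod with hq₀
  set q₁ := (s₁.map fun r => X - C r).prod with hq₁
  have hq01 : q = q₀ * q₁ := by
    rw [hs, hq₀, hq₁, ← Multiset.prod_add, ← Multiset.map_add, Multiset.filter_add_not]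
  have hco : IsCoprime q₀ q₁ := by
    have key : ∀ (t : Multiset (localRing M)) (f : Polynomial (localRing M)),
        (∀ r ∈ t, IsCoprime (X - C r) f) → IsCoprime (t.map fun r => X - C r).prod f := by
      intro t f ht
      induction t using Multiset.induction_on with
      | empty => simpa using isCoprime_one_left
      | cons r t ih =>
        rw [Multiset.map_cons, Multiset.prod_cons]
        exact IsCoprime.mul_left (ht r (Multiset.mem_cons_self r t))
          (ih fun r' hr' => ht r' (Multiset.mem_cons_of_mem hr'))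
    refine key _ _ fun r hr => (key _ _ fun r' hr' => ?_).symm
    obtain ⟨-, hr0⟩ := Multiset.mem_filter.mp hr
    obtain ⟨-, hr1⟩ := Multiset.mem_filter.mp hr'
    refine isCoprime_X_sub_C_of_isUnit_sub (isUnit_of_residue_ne_zero ?_)
    show π (r' - r) ≠ 0
    rwa [map_sub, show π r = 0 from hr0, sub_zero]
  obtain ⟨u, v, huv⟩ := hco
  set h := u * q₀ with hh
  have hidem : IsIdempotentElem (aeval a h) := by
    show aeval a h * aeval a h = aeval a h
    rw [← map_mul, show h * h = h - u * v * q by rw [hh, hq01]; linear_combination (u * q₀) * huv,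
      map_sub, map_mul _ (u * v), hq, mul_zero, sub_zero]
  refine ⟨aeval a h, hidem, ?_, fun x hx => ?_⟩
  · set ā := red M G a with hā
    have hev : ∀ f : Polynomial (Res M), aeval ā f = f.eval 0 • (1 - ā) + f.eval 1 • ā := by
      intro f
      induction f using Polynomial.induction_on' with
      | add f g hf hg => rw [map_add, hf, hg, eval_add, eval_add, add_smul, add_smul]; abel
      | monomial n r =>
        rcases n.eq_zero_or_pos with rfl | hn
        · simp [Algebra.algebraMap_eq_smul_one, smul_sub]
        · rw [aeval_monomial, ha.pow_eq hn.ne', eval_monomial, eval_monomial, zero_pow hn.ne',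
            one_pow, mul_zero, mul_one, zero_smul, zero_add, Algebra.smul_def]
    have hqbar : aeval ā (q.map π) = 0 := by rw [← red_aeval, hq, map_zero]
    rw [hev] at hqbar
    rw [red_aeval, hev]
    have hā2 : ā * ā = ā := ha
    have h0 : (q.map π).eval 0 • (1 - ā) = 0 := by
      have := congrArg (· * (1 - ā)) hqbar
      simpa [add_mul, smul_mul_assoc, mul_sub, sub_mul, hā2] using this
    have h1 : (q.map π).eval 1 • ā = 0 := by rwa [h0, zero_add] at hqbar
    have e0 : ((h.map π).eval 0) • (1 - ā) = 0 := by
      by_cases hz : (q.map π).eval 0 = 0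
      · rw [hh, Polynomial.map_mul, eval_mul]
        suffices (q₀.map π).eval 0 = 0 by rw [this, mul_zero, zero_smul]
        rw [hs, Polynomial.map_multiset_prod , eval_multiset_prod, Multiset.prod_eq_zero_iff] at hz
        rw [hq₀, Polynomial.map_multiset_prod, eval_multiset_prod, Multiset.prod_eq_zero_iff]
        simp only [Multiset.map_map, Function.comp_apply, Multiset.mem_map, Polynomial.map_sub,
          map_X, map_C, eval_sub, eval_X, eval_C, zero_sub, neg_eq_zero] at hz ⊢
        obtain ⟨r, hr, hr0⟩ := hz
        exact ⟨r, Multiset.mem_filter.mpr ⟨hr, hr0⟩, hr0⟩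
      · rw [(smul_eq_zero.mp h0).resolve_left hz, smul_zero]
    have e1 : ((h.map π).eval 1) • ā = ā := by
      by_cases hz : (q.map π).eval 1 = 0
      · suffices (h.map π).eval 1 = 1 by rw [this, one_smul]
        have hz1 : (q₁.map π).eval 1 = 0 := by
          rw [hs, Polynomial.map_multiset_prod, eval_multiset_prod, Multiset.prod_eq_zero_iff] at hz
          rw [hq₁, Polynomial.map_multiset_prod, eval_multiset_prod, Multiset.prod_eq_zero_iff]
          simp only [Multiset.map_map, Function.comp_apply, Multiset.mem_map, Polynomial.map_sub,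
            map_X, map_C, eval_sub, eval_X, eval_C] at hz ⊢
          obtain ⟨r, hr, hr0⟩ := hz
          refine ⟨r, Multiset.mem_filter.mpr ⟨hr, fun h' => ?_⟩, hr0⟩
          rw [h', sub_zero] at hr0
          exact one_ne_zero hr0
        have := congrArg (fun f => (f.map π).eval 1) huv
        simpa [Polynomial.map_add, Polynomial.map_mul, hz1, hh] using this
      · rw [(smul_eq_zero.mp h1).resolve_left hz, smul_zero]
    rw [e0, e1, zero_add]
  · exact Algebra.commute_of_mem_adjoin_singleton_of_commute
      (aeval_mem_adjoin_singleton _ a) hx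

end Cfsg.Agent.BC85.Star
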