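import Cfsg.Agent.BC85.Star.Section
import Cfsg.Agent.BC85.Pairs.BlockFusion
import Cfsg.Agent.BC85.Pairs.Maximal

/-!
# Weights from stable functions on a maximal pair

A generalized character of the subgroup of a maximal pair that is constant along the fusion of
pairs gives a weight on the pairs of the block, and so a star product on the block.
-/

namespace Cfsg.Agent.BC85.Star

open BlocksCore BlocksDefect
open scoped Classical ComplexConjugate

universe u

variable {G : Type u} [Group G] [Fintype G] {p : ℕ} [Fact p.Prime] {M : Ideal AlgInt}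
  [hP : M.IsPrime]

variable (p M) in
/-- Constant along the fusion of the pairs below `(P, e)`. -/
def IsPairStable (P : Subgroup G) (e : Set (IrrCharacter (Subgroup.centralizer (P : Set G))))
    (θ : P → ℂ) : Prop :=
  ∀ (v w : P) (g : G) (a : BrauerPairIdx G), a.1 = Subgroup.zpowers (v : G) →
    Relation.ReflTransGen (NormalSubpairRel p M) a ⟨P, e⟩ →
    Relation.ReflTransGen (NormalSubpairRel p M) (conjPair g a) ⟨P, e⟩ →
    g * v * g⁻¹ = w → θ v = θ w

variable (p M) in
/-- The weight of a function on the subgroup of a pair. -/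
noncomputable def etaOf (P : Subgroup G)
    (e : Set (IrrCharacter (Subgroup.centralizer (P : Set G)))) (θ : P → ℂ)
    (a : BrauerPairIdx G) (v : G) : ℂ :=
  if h : ∃ x : G, Relation.ReflTransGen (NormalSubpairRel p M) (conjPair x a) ⟨P, e⟩ ∧
      x * v * x⁻¹ ∈ P then θ ⟨h.choose * v * h.choose⁻¹, h.choose_spec.2⟩ else 0

variable {B : Set (IrrCharacter G)} {P : Subgroup G}
  {e : Set (IrrCharacter (Subgroup.centralizer (P : Set G)))}
  (hM : IsPModular p M) (hmax : IsMaximalBrauerPair p M B P e)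
include hM hmax

omit hM hmax in
theorem etaOf_eq {θ : P → ℂ} (hθ : IsPairStable p M P e θ) {a : BrauerPairIdx G} {v : G}
    (ha : a.1 = Subgroup.zpowers v) {x : G}
    (hx : Relation.ReflTransGen (NormalSubpairRel p M) (conjPair x a) ⟨P, e⟩)
    (hxv : x * v * x⁻¹ ∈ P) : etaOf p M P e θ a v = θ ⟨x * v * x⁻¹, hxv⟩ := by
  have h : ∃ x : G, Relation.ReflTransGen (NormalSubpairRel p M) (conjPair x a) ⟨P, e⟩ ∧
      x * v * x⁻¹ ∈ P := ⟨x, hx, hxv⟩
  rw [etaOf, dif_pos h]
  set y := h.choose with hy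
  refine (hθ ⟨x * v * x⁻¹, hxv⟩ ⟨y * v * y⁻¹, h.choose_spec.2⟩ (y * x⁻¹) (conjPair x a) ?_ hx ?_ ?_).symm
  · rw [conjPair_fst, ha, map_conj_zpowers]
  · rw [conjPair_conjPair, inv_mul_cancel_right]
    exact h.choose_spec.1
  · show y * x⁻¹ * (x * v * x⁻¹) * (y * x⁻¹)⁻¹ = y * v * y⁻¹
    group

theorem exists_conj_mem {a : BrauerPairIdx G} {v : G} (ha : a.1 = Subgroup.zpowers v)
    (hB : IsBrauerPairOf p M B a.1 a.2) :
    ∃ x : G, Relation.ReflTransGen (NormalSubpairRel p M) (conjPair x a) ⟨P, e⟩ ∧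
      x * v * x⁻¹ ∈ P := by
  obtain ⟨x, hx⟩ := exists_conj_below hM hmax (Q := a.1) (f := a.2) hB
  refine ⟨x, hx, subpairLE_le (Q := (conjPair x a).1) (f := (conjPair x a).2) hx ?_⟩
  rw [conjPair_fst, ha, map_conj_zpowers]
  exact Subgroup.mem_zpowers _

theorem etaOf_eq_zero {θ : P → ℂ} {a : BrauerPairIdx G} {v : G}
    (hB : ¬ IsBrauerPairOf p M B a.1 a.2) : etaOf p M P e θ a v = 0 := by
  rw [etaOf, dif_neg]
  rintro ⟨x, hx, -⟩
  apply hB
  have h1 := (subpairLE_pairOf_iff hM (Q := (conjPair x a).1) (f := (conjPair x a).2) hx B).mp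
    hmax.1
  have h2 := pairOf_conj hM h1 x⁻¹
  rwa [conjPair_conjPair, inv_mul_cancel, conjPair_one] at h2

omit hM hmax in
theorem isPairStable_const (c : ℂ) : IsPairStable p M P e fun _ => c :=
  fun _ _ _ _ _ _ _ _ => rfl

theorem etaOf_mul {θ θ' : P → ℂ} (hθ : IsPairStable p M P e θ) (hθ' : IsPairStable p M P e θ')
    (a : BrauerPairIdx G) {v : G} (ha : a ∈ pairsAt M (Subgroup.zpowers v)) :
    etaOf p M P e θ a v * etaOf p M P e θ' a v =
      etaOf p M P e (fun x => θ x * θ' x) a v := by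
  obtain ⟨h1, -⟩ := mem_pairsAt.mp ha
  by_cases hB : IsBrauerPairOf p M B a.1 a.2
  · obtain ⟨x, hx, hxv⟩ := exists_conj_mem hM hmax h1 hB
    rw [etaOf_eq hθ h1 hx hxv, etaOf_eq hθ' h1 hx hxv, etaOf_eq (θ := fun x => θ x * θ' x) ?_ h1 hx hxv]
    intro v w g b hb h h' he
    show θ v * θ' v = θ w * θ' w
    rw [hθ v w g b hb h h' he, hθ' v w g b hb h h' he]
  · rw [etaOf_eq_zero hM hmax hB, etaOf_eq_zero hM hmax hB, etaOf_eq_zero hM hmax hB, mul_zero]

omit hM hmax in
theorem conj_etaOf (θ : P → ℂ) (a : BrauerPairIdx G) (v : G) :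
    conj (etaOf p M P e θ a v) = etaOf p M P e (fun x => conj (θ x)) a v := by
  simp only [etaOf]
  split_ifs
  · rfl
  · exact map_zero _

theorem etaOf_conj {θ : P → ℂ} (hθ : IsPairStable p M P e θ) (a : BrauerPairIdx G) (x v : G)
    (ha : a ∈ pairsAt M (Subgroup.zpowers v)) :
    etaOf p M P e θ (conjPair x a) (x * v * x⁻¹) = etaOf p M P e θ a v := by
  obtain ⟨h1, -⟩ := mem_pairsAt.mp ha
  have h1' : (conjPair x a).1 = Subgroup.zpowers (x * v * x⁻¹) := by
    rw [conjPair_fst, h1, map_conj_zpowers]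
  by_cases hB : IsBrauerPairOf p M B a.1 a.2
  · obtain ⟨y, hy, hyv⟩ := exists_conj_mem hM hmax h1' (pairOf_conj hM hB x)
    have hyv' : y * x * v * (y * x)⁻¹ ∈ P := by
      rwa [show y * x * v * (y * x)⁻¹ = y * (x * v * x⁻¹) * y⁻¹ by group]
    rw [etaOf_eq hθ h1' hy hyv, etaOf_eq hθ h1 (x := y * x) (by rwa [← conjPair_conjPair]) hyv']
    congr 1
    exact Subtype.ext (by show _ = y * x * v * (y * x)⁻¹; group)
  · rw [etaOf_eq_zero hM hmax hB, etaOf_eq_zero hM hmax]
    intro h
    have h2 := pairOf_conj hM h x⁻¹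
    rw [conjPair_conjPair, inv_mul_cancel, conjPair_one] at h2
    exact hB h2

theorem isWeight_etaOf {θ : P → ℂ} (hθg : IsGeneralizedCharacter P θ)
    (hθ : IsPairStable p M P e θ) : IsWeight p M (etaOf p M P e θ) where
  conj_eq := fun a x v _ ha => etaOf_conj hM hmax hθ a x v ha
  gen_below := by
    intro U e' he'
    by_cases hB : IsBrauerPairOf p M B U e'
    · obtain ⟨x, hx⟩ := exists_conj_below hM hmax hB
      have hle : U.map (MulAut.conj x).toMonoidHom ≤ P :=
        subpairLE_le (Q := (conjPair x ⟨U, e'⟩).1) (f := (conjPair x ⟨U, e'⟩).2) hx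
      let φ : U →* P :=
        ((MulAut.conj x).toMonoidHom.comp U.subtype).codRestrict P fun v => hle ⟨v, v.2, rfl⟩
      refine ⟨fun v => θ (φ v), CharCore.isGeneralized_comp hθg φ, fun v f hf => ?_⟩
      rw [etaOf_eq hθ rfl (x := x) ((subpairLE_conj hM (a := ⟨Subgroup.zpowers (v : G), f⟩)
        (b := ⟨U, e'⟩) hf x).trans hx) (hle ⟨v, v.2, rfl⟩)]
      rfl
    · refine ⟨0, CharCore.isGeneralized_zero, fun v f hf => ?_⟩
      rw [etaOf_eq_zero hM hmax, Pi.zero_apply]
      exact fun h => hB ((subpairLE_pairOf_iff hM hf B).mpr h)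

variable (p M) in
omit hM hmax in
/-- The star product with a function on the subgroup of the pair. -/
noncomputable def starMul (P : Subgroup G)
    (e : Set (IrrCharacter (Subgroup.centralizer (P : Set G)))) (θ : P → ℂ) (F : G → ℂ) : G → ℂ :=
  starFun p M (etaOf p M P e θ) F

theorem starMul_gen {θ : P → ℂ} (hθg : IsGeneralizedCharacter P θ)
    (hθ : IsPairStable p M P e θ) (χ : IrrCharacter G) :
    IsGeneralizedCharacter G (starMul p M P e θ (χ : G → ℂ)) :=
  starFun_gen _ hM (isWeight_etaOf hM hmax hθg hθ) χ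

theorem starMul_isClassFunction {θ : P → ℂ} (hθ : IsPairStable p M P e θ) {F : G → ℂ}
    (hF : IsClassFunction G F) : IsClassFunction G (starMul p M P e θ F) :=
  starFun_isClassFunction' hM (fun a x v _ ha => etaOf_conj hM hmax hθ a x v ha) hF

omit hM hmax in
theorem starFun_apply_regular (η : BrauerPairIdx G → G → ℂ) (F : G → ℂ) {s : G}
    (hs : ¬ p ∣ orderOf s) :
    starFun p M η F s = ∑ a ∈ pairsAt M (Subgroup.zpowers (1 : G)), η a 1 * proj a 1 F s := by
  have h := starFun_apply (M := M) η F (v := (1 : G)) ⟨0, by simp⟩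
    (Subgroup.mem_centralizer_singleton_iff.mpr (by simp) : s ∈ _) hs
  rwa [one_mul] at h

theorem starMul_regular {θ : P → ℂ} (hθ : IsPairStable p M P e θ) {χ : IrrCharacter G}
    (hχ : χ ∈ B) {s : G} (hs : ¬ p ∣ orderOf s) :
    starMul p M P e θ (χ : G → ℂ) s = θ 1 * (χ : G → ℂ) s := by
  have h1 : (χ : G → ℂ) s = (χ : G → ℂ) (1 * s) := by rw [one_mul]
  rw [starMul, starFun_apply_regular _ _ hs, h1, ← sum_proj (M := M) hM (1 : G) (χ : G → ℂ) s,
    Finset.mul_sum]
  refine Finset.sum_congr rfl fun a ha => ?_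
  by_cases hB : IsBrauerPairOf p M B a.1 a.2
  · obtain ⟨x, hx, hxv⟩ := exists_conj_mem hM hmax (mem_pairsAt.mp ha).1 hB
    rw [etaOf_eq hθ (mem_pairsAt.mp ha).1 hx hxv,
      show (⟨x * 1 * x⁻¹, hxv⟩ : P) = 1 from Subtype.ext (by simp)]
  · rw [show proj a (1 : G) (χ : G → ℂ) s = 0 from proj_eq_zero_of_not_pairOf hM hmax.1.2.1 hχ
      (v := (1 : G)) ⟨0, by simp⟩ ha hB
      (s := ⟨s, Subgroup.mem_centralizer_singleton_iff.mpr (by simp)⟩)
      (by rwa [← Subgroup.orderOf_coe]), mul_zero, mul_zero]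

theorem starMul_one {χ : IrrCharacter G} (hχ : χ ∈ B) :
    starMul p M P e (fun _ => 1) (χ : G → ℂ) = χ := by
  rw [starMul, starFun_congr_block hM hmax.1.2.1 hχ (η' := fun _ _ => 1) fun v a _ ha hB => ?_,
    starFun_one' hM]
  obtain ⟨x, hx, hxv⟩ := exists_conj_mem hM hmax (mem_pairsAt.mp ha).1 hB
  rw [etaOf_eq (isPairStable_const 1) (mem_pairsAt.mp ha).1 hx hxv]

theorem starMul_starMul {θ θ' : P → ℂ} (hθ : IsPairStable p M P e θ)
    (hθ' : IsPairStable p M P e θ') {F : G → ℂ} (hF : IsClassFunction G F) :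
    starMul p M P e θ (starMul p M P e θ' F) = starMul p M P e (fun x => θ x * θ' x) F := by
  rw [starMul, starMul, starFun_starFun hM (fun a x v _ ha => etaOf_conj hM hmax hθ' a x v ha) hF]
  funext g
  simp only [starMul, starFun_def]
  refine Finset.sum_congr rfl fun a ha => ?_
  rw [etaOf_mul hM hmax hθ hθ' a ha]

omit hmax in
theorem classInner_starMul (θ : P → ℂ) {F F' : G → ℂ} (hF : IsClassFunction G F)
    (hF' : IsClassFunction G F') :
    classInner (starMul p M P e θ F) F' =
      classInner F (starMul p M P e (fun x => conj (θ x)) F') := by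
  rw [starMul, classInner_starFun hM _ hF hF', starMul]
  simp only [conj_etaOf]

/-- The star product of a member of the block is orthogonal to the other blocks. -/
theorem classInner_starMul_of_notMem {θ : P → ℂ} {χ ψ : IrrCharacter G} (hψ : ψ ∉ B) :
    classInner (starMul p M P e θ (χ : G → ℂ)) (ψ : G → ℂ) = 0 := by
  rw [classInner_starMul hM θ (irr_class χ) (irr_class ψ), starMul,
    starFun_congr_block hM (isPBlock_blockOf ψ) (mem_blockOf_self ψ) (η' := fun _ _ => 0)
      fun v a _ _ hB' => etaOf_eq_zero hM hmax fun hB => hψ ?_]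
  · rw [show starFun p M (fun _ _ => (0 : ℂ)) (ψ : G → ℂ) = 0 from funext fun g => by
      simp [starFun_def]]
    exact CharCore.classInner_zero_right _
  · obtain ⟨B₀, -, huniq⟩ := existsUnique_block_of_pair hM hB.1
    rw [huniq B hB, ← huniq _ hB']
    exact mem_blockOf_self ψ

theorem classInner_starMul_starMul {θ θ' : P → ℂ} (hθ : IsPairStable p M P e θ)
    (hθ' : IsPairStable p M P e θ') {F F' : G → ℂ} (hF : IsClassFunction G F)
    (hF' : IsClassFunction G F') :
    classInner (starMul p M P e θ F) (starMul p M P e θ' F') =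
      classInner (starMul p M P e (fun x => conj (θ' x) * θ x) F) F' := by
  rw [← starMul_starMul hM hmax (θ := fun x => conj (θ' x))
    (fun v w g b hb h h' he => by show conj (θ' v) = conj (θ' w); rw [hθ' v w g b hb h h' he]) hθ hF,
    classInner_starMul hM _ (starMul_isClassFunction hM hmax hθ hF) hF']
  simp only [Complex.conj_conj]

/-- A norm one product is a member of the block, with the same regular part up to the degree. -/
theorem exists_irr_of_norm_one {θ : P → ℂ} (hθg : IsGeneralizedCharacter P θ)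
    (hθ : IsPairStable p M P e θ) (hθ1 : 0 < (θ 1).re) {χ : IrrCharacter G} (hχ : χ ∈ B)
    (hn : classInner (starMul p M P e θ (χ : G → ℂ)) (starMul p M P e θ (χ : G → ℂ)) = 1) :
    ∃ ψ : IrrCharacter G, ψ ∈ B ∧ (ψ : G → ℂ) = starMul p M P e θ (χ : G → ℂ) := by
  set f := starMul p M P e θ (χ : G → ℂ) with hf
  have hgen := starMul_gen hM hmax hθg hθ χ
  obtain ⟨m, hm⟩ := CharCore.IsGeneralizedCharacter.exists_degree hθg
  have h1 : f 1 = (m : ℂ) * (charDegree (χ : G → ℂ) : ℂ) := by
    rw [hf, starMul_regular hM hmax hθ hχ (by simpa using (Fact.out : p.Prime).ne_one), hm,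
      irr_one_eq]
  have hpos : 0 < (f 1).re := by
    rw [h1]
    have hm' : (0 : ℝ) < (m : ℝ) := by rwa [hm, Complex.intCast_re] at hθ1
    simp only [Complex.mul_re, Complex.intCast_re, Complex.intCast_im, zero_mul, sub_zero,
      Complex.natCast_re]
    exact mul_pos hm' (by exact_mod_cast BlocksCore.charDegree_pos χ)
  refine ⟨⟨f, CharCore.IsGeneralizedCharacter.isIrr_of_norm_one hgen hn hpos⟩, ?_, rfl⟩
  by_contra hmem
  have h := classInner_starMul_of_notMem hM hmax (θ := θ) (χ := χ) hmem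
  exact one_ne_zero (hn.symm.trans h)

/-- On the section of a pair the product multiplies the projection. -/
theorem proj_starMul {θ : P → ℂ} (hθ : IsPairStable p M P e θ) {F : G → ℂ}
    (hF : IsClassFunction G F) {v : G} (hv : ∃ n : ℕ, orderOf v = p ^ n) {a : BrauerPairIdx G}
    (ha : a ∈ pairsAt M (Subgroup.zpowers v)) {s : G}
    (hsv : s ∈ Subgroup.centralizer ({v} : Set G)) (hs : ¬ p ∣ orderOf s) :
    proj a v (starMul p M P e θ F) s = etaOf p M P e θ a v * proj a v F s := by
  have h := congrFun (starFun_starFun hM (η := fun b _ => if b = a then 1 else 0)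
    (fun a x v _ ha => etaOf_conj hM hmax hθ a x v ha) hF) (v * s)
  rw [starFun_apply _ _ hv hsv hs, starFun_apply _ _ hv hsv hs, Finset.sum_eq_single a,
    Finset.sum_eq_single a] at h
  · simpa [starMul] using h
  all_goals first | (intro b _ hb; simp [hb]) | (intro h; exact absurd ha h)

omit hmax in
/-- Linear characters that are trivial on the focal subgroup are stable. -/
theorem isPairStable_of_focal {F : FusionSystem P} (hF : IsBlockFusionSystemOn p M B P e F)
    (l : P →* ℂˣ) (hl : ∀ x ∈ F.focalSubgroup.subgroupOf P, l x = 1) :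
    IsPairStable p M P e fun x => (l x : ℂ) := by
  intro v w g a ha h h' he
  show ((l v : ℂˣ) : ℂ) = l w
  congr 1
  obtain ⟨Q, f⟩ := a
  dsimp only at ha
  subst ha
  set φ : Subgroup.zpowers (v : G) →* G :=
    (MulAut.conj g).toMonoidHom.comp (Subgroup.zpowers (v : G)).subtype with hφ
  have hφmem : φ ∈ F.Hom (Subgroup.zpowers (v : G)) := by
    rw [hF.2]
    exact ⟨Subgroup.zpowers_le.mpr v.2, g, fun u => rfl,
      subpairLE_le (Q := (conjPair g ⟨_, f⟩).1) (f := (conjPair g ⟨_, f⟩).2) h', f, h, h'⟩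
  have hmem : (v⁻¹ * w : P) ∈ F.focalSubgroup.subgroupOf P := by
    show ((v⁻¹ * w : P) : G) ∈ F.focalSubgroup
    refine Subgroup.subset_closure ⟨_, φ, ⟨v, Subgroup.mem_zpowers _⟩, hφmem, ?_⟩
    push_cast
    rw [← he]
    rfl
  have := hl _ hmem
  rwa [map_mul, map_inv, inv_mul_eq_one] at this

omit [Fintype G] [Fact p.Prime] hP hM hmax in
/-- The focal subgroup contains the commutators. -/
theorem commutator_mem_focal [Fintype G] (F : FusionSystem P) (g x : P) :
    (x⁻¹ * (g * x * g⁻¹) : P) ∈ F.focalSubgroup.subgroupOf P := by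
  show ((x⁻¹ * (g * x * g⁻¹) : P) : G) ∈ F.focalSubgroup
  refine Subgroup.subset_closure ⟨P, (MulAut.conj (g : G)).toMonoidHom.comp P.subtype, x,
    F.conj_mem le_rfl g.2, ?_⟩
  push_cast
  rfl

end Cfsg.Agent.BC85.Star
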