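import Cfsg.Agent.BC85.Star.Residue
import Cfsg.Agent.BC85.Star.Primitive
import Mathlib.RepresentationTheory.Character
import Mathlib.LinearAlgebra.Trace
import Mathlib.RingTheory.Nilpotent.Basic
import Mathlib.RingTheory.RootsOfUnity.Complex

/-!
# Traces of lifted idempotents

For a `p`-element `u` and an idempotent `ε` over the residue field fixed by `u`, the trace of `u`
on the image of a lift of `ε` does not depend on the lift; it vanishes when the Brauer image of
`ε` at `u` is zero.
-/

namespace Cfsg.Agent.BC85.Star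

open BlocksCore

variable {M : Ideal AlgInt} [hP : M.IsPrime] {p : ℕ} {G : Type*} [Group G] [Finite G]

omit [Finite G] in
theorem red_cj (g : G) (a : OG M G) : red M G (cj g a) = cj g (red M G a) := by
  simp only [cj, map_mul, red_of]

/-- A fixed element has a fixed lift. -/
theorem exists_fixd_lift {S : Set G} {ε : KG M G} (hε : Fixd S ε) :
    ∃ a : OG M G, Fixd S a ∧ red M G a = ε := by
  choose s hs using fun x : Res M => Ideal.Quotient.mk_surjective (I := localIdeal M) x
  refine ⟨.ofCoeff (Finsupp.equivFunOnFinite.symm fun g => s (ε.coeff g)), fun u hu => ?_, ?_⟩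
  · refine MonoidAlgebra.ext (Finsupp.ext fun x => ?_)
    simp only [coeff_cj, Finsupp.equivFunOnFinite_symm_apply_apply]
    rw [hε.coeff hu]
  · refine MonoidAlgebra.ext (Finsupp.ext fun x => ?_)
    simp [red_apply, hs]

/-- A fixed idempotent has a fixed idempotent lift. -/
theorem exists_idem_lift {S : Set G} {ε : KG M G} (hε : IsIdempotentElem ε) (hf : Fixd S ε) :
    ∃ e : OG M G, IsIdempotentElem e ∧ Fixd S e ∧ red M G e = ε := by
  obtain ⟨a, ha, rfl⟩ := exists_fixd_lift hf
  obtain ⟨e, he, her, hc⟩ := exists_idempotent_lift a hε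
  exact ⟨e, he, fixd_iff_commute.mpr fun u hu => hc _ (fixd_iff_commute.mp ha u hu), her⟩

variable {V : Type*} [AddCommGroup V] [Module ℂ V] (ρ : Representation ℂ G V)

/-- The trace of an element of the group algebra over the local ring. -/
noncomputable def tau : OG M G →+ ℂ :=
  (LinearMap.trace ℂ V).toAddMonoidHom.comp
    ((ρ.asAlgebraHom.toRingHom.comp
      (MonoidAlgebra.mapRingHom G (localRing M).subtype)).toAddMonoidHom)

omit [Finite G] in
theorem tau_apply (a : OG M G) : tau ρ a = LinearMap.trace ℂ V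
    (ρ.asAlgebraHom (MonoidAlgebra.mapRingHom G (localRing M).subtype a)) := rfl

omit [Finite G] in
theorem tau_mul_comm (a b : OG M G) : tau ρ (a * b) = tau ρ (b * a) := by
  simp only [tau_apply, map_mul]
  exact LinearMap.trace_mul_comm ℂ _ _

omit [Finite G] in
theorem tau_smul (r : localRing M) (a : OG M G) : tau ρ (r • a) = (r : ℂ) * tau ρ a := by
  rw [tau_apply, tau_apply, Algebra.smul_def, map_mul, MonoidAlgebra.coe_algebraMap]
  simp [MonoidAlgebra.mapRingHom_single]

omit [Finite G] in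
theorem tau_of (g : G) : tau (M := M) ρ (MonoidAlgebra.of _ G g) = ρ.character g := by
  simp [tau_apply, MonoidAlgebra.of_apply, Representation.character]

/-- Two idempotent lifts are conjugate by a fixed unit. -/
theorem exists_conj_lift {S : Set G} {e f : OG M G} (he : IsIdempotentElem e)
    (hf : IsIdempotentElem f) (hef : Fixd S e) (hff : Fixd S f) (h : red M G e = red M G f) :
    ∃ v : (OG M G)ˣ, Fixd S (v : OG M G) ∧ (v : OG M G) * e = f * v := by
  set w := f * e + (1 - f) * (1 - e) with hw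
  have hr : red M G w = 1 := by
    rw [hw, map_add, map_mul, map_mul, map_sub, map_sub, map_one, h,
      (hf.map (red M G)).eq, (hf.map (red M G)).one_sub.eq, add_sub_cancel]
  have hu : IsUnit w := isUnit_of_isUnit_red (by rw [hr]; exact isUnit_one)
  refine ⟨hu.unit, ?_, ?_⟩
  · rw [IsUnit.unit_spec]
    exact (hff.mul hef).add (((Fixd.one S).sub hff).mul ((Fixd.one S).sub hef))
  · rw [IsUnit.unit_spec, hw]
    calc (f * e + (1 - f) * (1 - e)) * e = f * (e * e) + (1 - f) * ((1 - e) * e) := by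
          rw [add_mul, mul_assoc, mul_assoc]
      _ = f * e := by
          rw [he.eq, show (1 - e) * e = 0 by rw [sub_mul, one_mul, he.eq, sub_self], mul_zero,
            add_zero]
      _ = f * f * e + (f * (1 - f)) * (1 - e) := by
          rw [hf.eq, mul_sub f 1 f, mul_one, hf.eq, sub_self, zero_mul, add_zero]
      _ = f * (f * e + (1 - f) * (1 - e)) := by rw [mul_add, ← mul_assoc, ← mul_assoc]

theorem tau_lift_eq {u : G} {e f : OG M G} (he : IsIdempotentElem e) (hf : IsIdempotentElem f)
    (hef : Fixd {u} e) (hff : Fixd {u} f) (h : red M G e = red M G f) :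
    tau ρ (MonoidAlgebra.of _ G u * e) = tau ρ (MonoidAlgebra.of _ G u * f) := by
  obtain ⟨v, hv, hve⟩ := exists_conj_lift he hf hef hff h
  have hc := fixd_iff_commute.mp hv u rfl
  have he' : e = ↑v⁻¹ * f * ↑v := by rw [mul_assoc, ← hve, ← mul_assoc, Units.inv_mul, one_mul]
  rw [he', ← mul_assoc, tau_mul_comm, ← mul_assoc, ← mul_assoc, ← hc.eq,
    mul_assoc (MonoidAlgebra.of (localRing M) G u), Units.mul_inv, mul_one]

open scoped Classical in
/-- The trace of `u` on the image of a fixed lift of `ε`. -/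
noncomputable def val (u : G) (ε : KG M G) : ℂ :=
  if h : ∃ e : OG M G, IsIdempotentElem e ∧ Fixd {u} e ∧ red M G e = ε then
    tau ρ (MonoidAlgebra.of _ G u * h.choose) else 0

theorem val_eq {u : G} {ε : KG M G} {e : OG M G} (he : IsIdempotentElem e) (hef : Fixd {u} e)
    (her : red M G e = ε) : val ρ u ε = tau ρ (MonoidAlgebra.of _ G u * e) := by
  have h : ∃ e : OG M G, IsIdempotentElem e ∧ Fixd {u} e ∧ red M G e = ε := ⟨e, he, hef, her⟩
  rw [val, dif_pos h]
  exact tau_lift_eq ρ h.choose_spec.1 he h.choose_spec.2.1 hef (h.choose_spec.2.2.trans her.symm)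

theorem val_one (u : G) : val (M := M) ρ u 1 = ρ.character u := by
  rw [val_eq ρ (e := 1) IsIdempotentElem.one (Fixd.one _) (map_one _), mul_one, tau_of]

theorem val_zero (u : G) : val (M := M) ρ u 0 = 0 := by
  rw [val_eq ρ (e := 0) IsIdempotentElem.zero (Fixd.zero _) (map_zero _), mul_zero, map_zero]

theorem val_add {u : G} {ε₁ ε₂ : KG M G} (h₁ : IsIdempotentElem ε₁) (h₂ : IsIdempotentElem ε₂)
    (f₁ : Fixd {u} ε₁) (f₂ : Fixd {u} ε₂) (o₁ : ε₁ * ε₂ = 0) (o₂ : ε₂ * ε₁ = 0) :
    val ρ u (ε₁ + ε₂) = val ρ u ε₁ + val ρ u ε₂ := by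
  have hs : IsIdempotentElem (ε₁ + ε₂) := by
    show _ * _ = _
    rw [add_mul, mul_add, mul_add, h₁.eq, h₂.eq, o₁, o₂, add_zero, zero_add]
  obtain ⟨e, he, hef, her⟩ := exists_idem_lift hs (f₁.add f₂)
  obtain ⟨a, ha, har⟩ := exists_fixd_lift f₁
  set a' := e * a * e with ha'
  have ha'r : red M G a' = ε₁ := by
    rw [ha', map_mul, map_mul, her, har, add_mul, add_mul, h₁.eq, o₂, zero_mul, add_zero,
      mul_add, h₁.eq, o₁, add_zero]
  obtain ⟨f, hf, hfr, hfc⟩ := exists_idempotent_lift a' (ha'r ▸ h₁)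
  have hec : Commute e f := hfc e (by
    show e * a' = a' * e
    rw [ha', ← mul_assoc, ← mul_assoc, he.eq, mul_assoc (e * a), he.eq])
  set e₁ := e * f with he₁
  have he₁i : IsIdempotentElem e₁ := IsIdempotentElem.mul_of_commute hec he hf
  have he₁f : Fixd {u} e₁ := hef.mul (fixd_iff_commute.mpr fun v hv =>
    hfc _ (fixd_iff_commute.mp ((hef.mul ha).mul hef) v hv))
  have he₁r : red M G e₁ = ε₁ := by
    rw [he₁, map_mul, her, hfr, ha'r, add_mul, h₁.eq, o₂, add_zero]
  have he₂i : IsIdempotentElem (e - e₁) := by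
    show (e - e₁) * (e - e₁) = e - e₁
    have h1 : e * e₁ = e₁ := by rw [he₁, ← mul_assoc, he.eq]
    have h2 : e₁ * e = e₁ := by rw [he₁, mul_assoc, ← hec.eq, ← mul_assoc, he.eq]
    rw [sub_mul, mul_sub, mul_sub, he.eq, h1, h2, he₁i.eq]
    abel
  rw [val_eq ρ he hef her, val_eq ρ he₁i he₁f he₁r,
    val_eq ρ he₂i (hef.sub he₁f) (by rw [map_sub, her, he₁r, add_sub_cancel_left]),
    mul_sub, map_sub, add_sub_cancel]

theorem val_sum {u : G} {ι : Type*} (s : Finset ι) (ε : ι → KG M G)
    (h : ∀ i ∈ s, IsIdempotentElem (ε i) ∧ Fixd {u} (ε i))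
    (o : ∀ i ∈ s, ∀ j ∈ s, i ≠ j → ε i * ε j = 0) :
    val ρ u (∑ i ∈ s, ε i) = ∑ i ∈ s, val ρ u (ε i) := by
  classical
  induction s using Finset.induction_on with
  | empty => simp [val_zero]
  | @insert a s ha ih =>
    have hs := fun i hi => h i (Finset.mem_insert_of_mem hi)
    have hidem : IsIdempotentElem (∑ i ∈ s, ε i) := by
      show (∑ i ∈ s, ε i) * ∑ i ∈ s, ε i = _
      rw [Finset.sum_mul_sum]
      refine Finset.sum_congr rfl fun i hi => ?_
      rw [Finset.sum_eq_single i, (hs i hi).1.eq]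
      · exact fun j hj hji =>
          o i (Finset.mem_insert_of_mem hi) j (Finset.mem_insert_of_mem hj) (Ne.symm hji)
      · exact fun h => absurd hi h
    have oa : ∀ i ∈ s, ε a * ε i = 0 ∧ ε i * ε a = 0 := fun i hi =>
      ⟨o a (Finset.mem_insert_self _ _) i (Finset.mem_insert_of_mem hi)
          (fun h => ha (h ▸ hi)),
        o i (Finset.mem_insert_of_mem hi) a (Finset.mem_insert_self _ _) (fun h => ha (h ▸ hi))⟩
    rw [Finset.sum_insert ha, Finset.sum_insert ha,
      val_add ρ (h a (Finset.mem_insert_self _ _)).1 hidem (h a (Finset.mem_insert_self _ _)).2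
        (Fixd.sum fun i hi => (hs i hi).2)
        (by rw [Finset.mul_sum]; exact Finset.sum_eq_zero fun i hi => (oa i hi).1)
        (by rw [Finset.sum_mul]; exact Finset.sum_eq_zero fun i hi => (oa i hi).2),
      ih hs fun i hi j hj => o i (Finset.mem_insert_of_mem hi) j (Finset.mem_insert_of_mem hj)]

/-- The trace only depends on the idempotent up to equivalence. -/
theorem val_mul_comm {u : G} {x y : KG M G} (hx : Fixd {u} x) (hy : Fixd {u} y)
    (hxy : IsIdempotentElem (x * y)) (hyx : IsIdempotentElem (y * x)) :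
    val ρ u (x * y) = val ρ u (y * x) := by
  set x' := x * y * x with hx'
  set y' := y * x * y with hy'
  have exy : x' * y' = x * y := by
    calc x' * y' = (x * y * (x * y)) * (x * y) := by simp only [hx', hy', mul_assoc]
      _ = x * y := by rw [hxy.eq, hxy.eq]
  have eyx : y' * x' = y * x := by
    calc y' * x' = (y * x * (y * x)) * (y * x) := by simp only [hx', hy', mul_assoc]
      _ = y * x := by rw [hyx.eq, hyx.eq]
  obtain ⟨e, he, hef, her⟩ := exists_idem_lift hxy (hx.mul hy)
  obtain ⟨X₀, hX₀, hX₀r⟩ := exists_fixd_lift ((hx.mul hy).mul hx)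
  obtain ⟨Y₀, hY₀, hY₀r⟩ := exists_fixd_lift ((hy.mul hx).mul hy)
  set X := e * X₀ with hX
  set Y := Y₀ * e with hY
  have hXr : red M G X = x' := by
    rw [hX, map_mul, her, hX₀r]
    calc x * y * (x * y * x) = (x * y * (x * y)) * x := by simp only [mul_assoc]
      _ = x' := by rw [hxy.eq]
  have hYr : red M G Y = y' := by
    rw [hY, map_mul, her, hY₀r]
    calc y * x * y * (x * y) = y * (x * y * (x * y)) := by simp only [mul_assoc]
      _ = y' := by rw [hxy.eq, hy', mul_assoc]
  set W := X * Y + (1 - e) with hW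
  obtain ⟨w, hw⟩ : IsUnit W := isUnit_of_isUnit_red (by
    rw [hW, map_add, map_mul, map_sub, map_one, hXr, hYr, exy, her, add_sub_cancel]
    exact isUnit_one)
  have hWf : Fixd {u} (w : OG M G) := by
    rw [hw]
    exact ((hef.mul hX₀).mul (hY₀.mul hef)).add ((Fixd.one _).sub hef)
  have hWinv : Fixd {u} ((w⁻¹ : (OG M G)ˣ) : OG M G) :=
    fixd_iff_commute.mpr fun v hv => (fixd_iff_commute.mp hWf v hv).units_inv_right
  have h1e : (1 - e) * (w : OG M G) = 1 - e := by
    rw [hw, hW, mul_add, ← mul_assoc, hX, ← mul_assoc (1 - e) e, sub_mul (1 : OG M G) e e, one_mul,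
      he.eq, sub_self, zero_mul, zero_mul, zero_add, he.one_sub.eq]
  set Y' := Y * ↑w⁻¹ with hY'
  have hXY : X * Y' = e := by
    have h2 : X * Y = (w : OG M G) - (1 - e) := by rw [hw, hW, add_sub_cancel_right]
    have h3 : (1 - e) * ↑w⁻¹ = (1 - e : OG M G) := by
      conv_lhs => rw [← h1e, mul_assoc, Units.mul_inv, mul_one]
    rw [hY', ← mul_assoc, h2, sub_mul, Units.mul_inv, h3, sub_sub_cancel]
  have hidem : IsIdempotentElem (Y' * X) := by
    show Y' * X * (Y' * X) = Y' * X
    rw [mul_assoc, ← mul_assoc X, hXY, hX, ← mul_assoc e e, he.eq]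
  have hY'r : red M G Y' = y' := by
    rw [hY', map_mul, hYr]
    have h1 : red M G (↑w⁻¹ : OG M G) = 1 := by
      have h2 := congrArg (red M G) w.inv_mul
      rw [map_mul, hw, map_one, hW, map_add, map_mul, map_sub, map_one, hXr, hYr,
        exy, her, add_sub_cancel, mul_one] at h2
      exact h2
    rw [h1, mul_one]
  have hf' : Fixd {u} (Y' * X) := ((hY₀.mul hef).mul hWinv).mul (hef.mul hX₀)
  rw [val_eq ρ he hef her, val_eq ρ hidem hf' (by rw [map_mul, hY'r, hXr, eyx]), ← hXY,
    ← mul_assoc, tau_mul_comm ρ _ Y', ← mul_assoc,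
    (fixd_iff_commute.mp ((hY₀.mul hef).mul hWinv) u rfl).symm.eq, mul_assoc]

omit [Finite G] in
theorem tau_cj (g : G) (a : OG M G) : tau ρ (cj g a) = tau ρ a := by
  rw [cj, tau_mul_comm, ← mul_assoc, ← map_mul, inv_mul_cancel, map_one, one_mul]

theorem val_cj (t u : G) (ε : KG M G) : val ρ (t * u * t⁻¹) (cj t ε) = val ρ u ε := by
  have key : ∀ (t u : G) {e : OG M G}, IsIdempotentElem e → Fixd {u} e →
      val ρ (t * u * t⁻¹) (cj t (red M G e)) = tau ρ (MonoidAlgebra.of _ G u * e) := by
    intro t u e he hef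
    have hif : Fixd {t * u * t⁻¹} (cj t e) := by
      rintro _ rfl
      rw [cj_cj, show t * u * t⁻¹ * t = t * u by group, ← cj_cj, hef u rfl]
    rw [val_eq ρ (e := cj t e) (by show _ * _ = _; rw [← cj_mul, he.eq]) hif (red_cj t e),
      show MonoidAlgebra.of (localRing M) G (t * u * t⁻¹) = cj t (MonoidAlgebra.of _ G u) by
        rw [cj, ← map_mul, ← map_mul], ← cj_mul, tau_cj]
  by_cases h : ∃ e : OG M G, IsIdempotentElem e ∧ Fixd {u} e ∧ red M G e = ε
  · obtain ⟨e, he, hef, rfl⟩ := h
    rw [key t u he hef, val_eq ρ he hef rfl]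
  · rw [val, val, dif_neg h, dif_neg]
    rintro ⟨e, he, hef, her⟩
    refine h ⟨cj t⁻¹ e, by show _ * _ = _; rw [← cj_mul, he.eq], ?_, ?_⟩
    · rintro v rfl
      rw [cj_cj, show v * t⁻¹ = t⁻¹ * (t * v * t⁻¹) by group, ← cj_cj, hef _ rfl]
    · rw [red_cj, her, cj_cj, inv_mul_cancel, cj_one]

/-! ### Vanishing -/

omit hP [Finite G] in
theorem fixd_zpowers {k : Type*} [CommRing k] {u : G} {a : MonoidAlgebra k G} :
    Fixd (Subgroup.zpowers u : Set G) a ↔ Fixd {u} a := by
  refine ⟨fun h => h.mono (Set.singleton_subset_iff.mpr (Subgroup.mem_zpowers u)), fun h v hv => ?_⟩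
  have hsub : Subgroup.zpowers u ≤
      { carrier := {g : G | cj g a = a}
        mul_mem' := fun {x y} hx hy => by
          show cj (x * y) a = a
          rw [← cj_cj, show cj y a = a from hy, show cj x a = a from hx]
        one_mem' := cj_one a
        inv_mem' := fun {x} hx => by
          show cj x⁻¹ a = a
          conv_lhs => rw [← show cj x a = a from hx]
          rw [cj_cj, inv_mul_cancel, cj_one] } :=
    Subgroup.zpowers_le.mpr (h u rfl)
  exact hsub hv

/-- An idempotent that is a relative trace from `⟨u ^ p⟩` has trace zero at `u`. -/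
theorem tau_of_mul_eq_zero (hM : IsPModular p M) {u : G} {n : ℕ} (hu : orderOf u = p ^ (n + 1))
    {e C : OG M G} (he : IsIdempotentElem e) (hef : Fixd {u} e) (hC : Fixd {u ^ p} C)
    (heC : e * C = C) (hCe : C * e = C)
    (hsum : ∑ l ∈ Finset.range p, cj (u ^ l) C = e) :
    tau ρ (MonoidAlgebra.of _ G u * e) = 0 := by
  have hp : p.Prime := hM.1
  have : Fact p.Prime := ⟨hp⟩
  have := charP_res (M := M) hM
  let f : OG M G →+* Module.End ℂ V := ρ.asAlgebraHom.toRingHom.comp
    (MonoidAlgebra.mapRingHom G (localRing M).subtype)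
  have hf : ∀ a, tau ρ a = LinearMap.trace ℂ V (f a) := fun a => rfl
  have hfs : ∀ (r : localRing M) (a : OG M G), f (r • a) = (r : ℂ) • f a := by
    intro r a
    have h1 : algebraMap (localRing M) (OG M G) r = MonoidAlgebra.single 1 r := by
      simp [MonoidAlgebra.coe_algebraMap]
    rw [Algebra.smul_def, map_mul, h1, Algebra.smul_def]
    congr 1
    show ρ.asAlgebraHom (MonoidAlgebra.mapRingHom G (localRing M).subtype _) = _
    rw [MonoidAlgebra.mapRingHom_single, Representation.asAlgebraHom_single, map_one,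
      Algebra.algebraMap_eq_smul_one]
    rfl
  set U := MonoidAlgebra.of (localRing M) G u with hU
  have hUp : ∀ l : ℕ, U ^ l = MonoidAlgebra.of (localRing M) G (u ^ l) := fun l =>
    (map_pow _ u l).symm
  have hUe : Commute U e := fixd_iff_commute.mp hef u rfl
  have hCW : Commute (U ^ p) C := by
    rw [hUp]
    exact fixd_iff_commute.mp hC _ rfl
  -- the conjugates of `C`
  set D : ℕ → OG M G := fun l => cj (u ^ l)⁻¹ C with hD
  have hUD : ∀ l, C * U ^ l = U ^ l * D l := fun l => by
    rw [hUp, hD]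
    simp only [cj]
    rw [← mul_assoc, ← mul_assoc, ← map_mul, mul_inv_cancel, map_one, one_mul, inv_inv]
  have hDsum : ∑ l ∈ Finset.range p, D l = e := by
    have h1 := congrArg (cj (u ^ (p - 1))⁻¹) hsum
    rw [cj_sum, show cj (u ^ (p - 1))⁻¹ e = e from
      fixd_zpowers.mpr hef _ (Subgroup.inv_mem _ (Subgroup.pow_mem _ (Subgroup.mem_zpowers u) _)),
      ← Finset.sum_range_reflect] at h1
    refine Eq.trans (Finset.sum_congr rfl fun l hl => ?_) h1
    have hl' := Finset.mem_range.mp hl
    rw [cj_cj]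
    simp only [hD]
    congr 1
    obtain ⟨q, hq⟩ : ∃ q, p - 1 = q + l := ⟨p - 1 - l, by omega⟩
    rw [show p - 1 - l = q by omega, hq, pow_add, mul_inv_rev, mul_assoc, inv_mul_cancel, mul_one]
  have hDC : ∀ l, Commute (U ^ p) (D l) := fun l => by
    have h : Fixd ({u ^ p} : Set G) (D l) := by
      rintro v rfl
      rw [hD, cj_cj, show u ^ p * (u ^ l)⁻¹ = (u ^ l)⁻¹ * u ^ p by
        rw [← zpow_natCast, ← zpow_natCast]; group, ← cj_cj, hC _ rfl]
    rw [hUp]
    exact fixd_iff_commute.mp h _ rfl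
  have hUm : (U ^ p) ^ (p ^ n) = 1 := by
    rw [← pow_mul, ← pow_succ', hUp, ← hu, pow_orderOf_eq_one, map_one]
  -- roots of unity
  obtain ⟨z, hz⟩ : ∃ z : ℂ, IsPrimitiveRoot z (p ^ (n + 1)) :=
    ⟨_, Complex.isPrimitiveRoot_exp _ (pow_ne_zero _ hp.ne_zero)⟩
  set ω : ℂ := z ^ p ^ n with hω
  have hωp : IsPrimitiveRoot ω p := hz.pow (pow_pos hp.pos _) (pow_succ p n)
  set η : ℂ := z ^ p with hη
  have hηp : IsPrimitiveRoot η (p ^ n) := hz.pow (pow_pos hp.pos _) (pow_succ' p n)
  have hzO : ∀ i : ℕ, MemLocalRing M (z ^ i) := fun i =>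
    memLocalRing_of_isIntegral (IsIntegral.of_pow (pow_pos hp.pos (n + 1))
      (by rw [hz.pow_eq_one]; exact isIntegral_one)) |> fun h => (localRing M).pow_mem h i
  have hω_sum : ∀ i : ℕ, ∑ r ∈ Finset.range p, (ω ^ i) ^ r = if p ∣ i then (p : ℂ) else 0 := by
    intro i
    split_ifs with h
    · rw [(hωp.pow_eq_one_iff_dvd i).mpr h]; simp
    · refine (mul_eq_zero.mp ?_).resolve_right
        (sub_ne_zero.mpr fun h1 => h ((hωp.pow_eq_one_iff_dvd i).mp h1))
      rw [geom_sum_mul, ← pow_mul, mul_comm, pow_mul, hωp.pow_eq_one, one_pow, sub_self]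
  -- the eigenprojections of `u ^ p`
  set m := p ^ n with hm
  have hm0 : (m : ℂ) ≠ 0 := Nat.cast_ne_zero.mpr (pow_ne_zero _ hp.ne_zero)
  let Q : ℕ → Module.End ℂ V := fun j =>
    (m : ℂ)⁻¹ • ∑ i ∈ Finset.range m, ((η ^ j) ^ i) • f ((U ^ p) ^ i)
  have hQsum : ∑ j ∈ Finset.range m, Q j = 1 := by
    simp only [Q, ← Finset.smul_sum]
    rw [Finset.sum_comm]
    simp only [← Finset.sum_smul]
    rw [Finset.sum_eq_single 0]
    · simp [smul_smul, inv_mul_cancel₀ hm0]
    · intro i hi h0
      suffices h : ∑ j ∈ Finset.range m, (η ^ j) ^ i = 0 by rw [h, zero_smul]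
      simp only [← pow_mul, mul_comm _ i]
      simp only [pow_mul]
      refine (mul_eq_zero.mp ?_).resolve_right (sub_ne_zero.mpr
        (hηp.pow_ne_one_of_pos_of_lt h0 (Finset.mem_range.mp hi)))
      rw [geom_sum_mul, ← pow_mul, mul_comm, pow_mul, hηp.pow_eq_one, one_pow, sub_self]
    · intro h
      exact absurd (Finset.mem_range.mpr (pow_pos hp.pos n)) h
  have hWQ : ∀ j, η ^ j • (f (U ^ p) * Q j) = Q j := by
    intro j
    simp only [Q, mul_smul_comm, Finset.mul_sum, ← map_mul, ← pow_succ', Finset.smul_sum,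
      smul_smul]
    set g : ℕ → Module.End ℂ V := fun i => ((m : ℂ)⁻¹ * (η ^ j) ^ i) • f ((U ^ p) ^ i)
    have hg : g m = g 0 := by
      simp only [g]
      rw [hUm, pow_zero, pow_zero, ← pow_mul, mul_comm j, pow_mul, hηp.pow_eq_one, one_pow]
    have hshift : ∑ i ∈ Finset.range m, g (i + 1) = ∑ i ∈ Finset.range m, g i := by
      have h1 := Finset.sum_range_succ' g m
      rw [Finset.sum_range_succ, hg] at h1
      exact (add_right_cancel h1).symm
    refine Eq.trans (Finset.sum_congr rfl fun i _ => ?_) hshift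
    simp only [g]
    congr 1
    ring
  have hQcomm : ∀ (j : ℕ) (a : OG M G), Commute (U ^ p) a → Commute (f a) (Q j) := by
    intro j a ha
    refine Commute.smul_right (Commute.sum_right _ _ _ fun i _ => Commute.smul_right ?_ _) _
    exact ((ha.symm.pow_right i).map f)
  have hQidem : ∀ j, Q j * Q j = Q j := by
    intro j
    have hpw : ∀ i, ((η ^ j) ^ i) • (f ((U ^ p) ^ i) * Q j) = Q j := by
      intro i
      induction i with
      | zero => simp
      | succ i ih =>
        rw [pow_succ, pow_succ (U ^ p) i, map_mul, mul_assoc, mul_smul, ← mul_smul_comm, hWQ, ih]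
    calc Q j * Q j = (m : ℂ)⁻¹ • ∑ i ∈ Finset.range m, ((η ^ j) ^ i) • (f ((U ^ p) ^ i) * Q j) := by
          conv_lhs => arg 1; rw [show Q j = (m : ℂ)⁻¹ • ∑ i ∈ Finset.range m,
            ((η ^ j) ^ i) • f ((U ^ p) ^ i) from rfl]
          simp only [smul_mul_assoc, Finset.sum_mul]
      _ = Q j := by
        rw [Finset.sum_congr rfl fun i _ => hpw i, Finset.sum_const, Finset.card_range,
          ← Nat.cast_smul_eq_nsmul ℂ, smul_smul, inv_mul_cancel₀ hm0, one_smul]
  -- the projections built from `C`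
  let ξ : ℕ → ℕ → localRing M := fun j i =>
    (⟨z, by simpa using hzO 1⟩ : localRing M) ^ (j + p ^ n * i)
  have hξ : ∀ j i, ((ξ j i : localRing M) : ℂ) = z ^ j * ω ^ i := fun j i => by
    simp [ξ, hω, hm, pow_add, pow_mul]
  have hξp : ∀ j i, ((ξ j i : localRing M) : ℂ) ^ p = η ^ j := fun j i => by
    rw [hξ, mul_pow, ← pow_mul z j, mul_comm j, pow_mul, ← pow_mul ω, mul_comm i, pow_mul,
      hωp.pow_eq_one, one_pow, mul_one]
  let Z : ℕ → ℕ → OG M G := fun j i => ∑ l ∈ Finset.range p, (ξ j i ^ l) • U ^ l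
  have hUZ : ∀ j i l, ((ξ j i : localRing M) : ℂ) ^ l • (f (U ^ l) * (f (Z j i) * Q j)) =
      f (Z j i) * Q j := by
    intro j i l
    induction l with
    | zero => simp
    | succ l ih =>
      rw [pow_succ, pow_succ U, map_mul, mul_assoc, mul_smul, ← mul_smul_comm]
      suffices h : ((ξ j i : localRing M) : ℂ) • (f U * (f (Z j i) * Q j)) = f (Z j i) * Q j by
        rw [h, ih]
      set g : ℕ → Module.End ℂ V := fun r =>
        ((ξ j i : localRing M) : ℂ) ^ r • (f (U ^ r) * Q j)
      have hg : g p = g 0 := by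
        simp only [g, hξp, hWQ, pow_zero, map_one, one_mul, one_smul]
      have hexp : f (Z j i) * Q j = ∑ r ∈ Finset.range p, g r := by
        simp only [Z, map_sum, hfs, Finset.sum_mul, smul_mul_assoc, g]
        exact Finset.sum_congr rfl fun r _ => by push_cast; rfl
      rw [hexp, Finset.mul_sum, Finset.smul_sum]
      have hshift : ∑ r ∈ Finset.range p, g (r + 1) = ∑ r ∈ Finset.range p, g r := by
        have h1 := Finset.sum_range_succ' g p
        rw [Finset.sum_range_succ, hg] at h1
        exact (add_right_cancel h1).symm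
      refine Eq.trans (Finset.sum_congr rfl fun r _ => ?_) hshift
      simp only [g]
      rw [mul_smul_comm, smul_smul, ← mul_assoc, ← map_mul, ← pow_succ', ← pow_succ']
  have hZU : ∀ j i l, Commute (U ^ l) (Z j i) := fun j i l =>
    Commute.sum_right _ _ _ fun r _ => ((Commute.refl U).pow_pow l r).smul_right _
  have hUU : Commute (U ^ p) U := (Commute.refl U).pow_left p
  have hZQ : ∀ j i, Commute (f (Z j i)) (Q j) := fun j i => hQcomm j _ (hZU j i p)
  let R : ℕ → ℕ → OG M G := fun j i => Z j i * C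
  have hCQ : ∀ j, Commute (f C) (Q j) := fun j => hQcomm j _ hCW
  have hRQ : ∀ j i, Commute (f (R j i)) (Q j) := fun j i => by
    rw [map_mul]
    exact (hZQ j i).mul_left (hCQ j)
  have hRR : ∀ j i, f (R j i) * f (R j i) * Q j = f (R j i) * Q j := by
    intro j i
    have step : f C * (f (Z j i) * Q j) =
        ∑ l ∈ Finset.range p, ((ξ j i : localRing M) : ℂ) ^ l • (f (U ^ l) * (f (D l) * Q j)) := by
      simp only [Z, map_sum, hfs, Finset.sum_mul, Finset.mul_sum, smul_mul_assoc, mul_smul_comm]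
      refine Finset.sum_congr rfl fun l _ => ?_
      rw [← mul_assoc, ← map_mul, hUD, map_mul, mul_assoc]
      push_cast
      rfl
    calc f (R j i) * f (R j i) * Q j
        = f (Z j i) * (f C * (f (Z j i) * Q j)) * f C := by
          simp only [R, map_mul, mul_assoc, (hCQ j).eq]
      _ = (∑ l ∈ Finset.range p, f (Z j i) * Q j * f (D l)) * f C := by
          rw [step, Finset.mul_sum]
          refine congrArg (· * f C) (Finset.sum_congr rfl fun l _ => ?_)
          conv_rhs => rw [← hUZ j i l]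
          rw [mul_smul_comm, smul_mul_assoc, ← mul_assoc, ← map_mul, (hZU j i l).eq.symm, map_mul,
            (hQcomm j _ (hDC l)).eq]
          simp only [mul_assoc]
      _ = f (R j i) * Q j := by
          rw [← Finset.mul_sum, ← map_sum, hDsum, mul_assoc, ← map_mul, heC]
          simp only [R, map_mul, mul_assoc, (hCQ j).eq]
  -- modulo the local ideal the projections are idempotent up to a nilpotent
  set π := Ideal.Quotient.mk (localIdeal M)
  have hz1 : π (⟨z, by simpa using hzO 1⟩ : localRing M) = 1 := by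
    rw [← sub_eq_zero, ← map_one π, ← map_sub, residue_eq_zero_iff]
    exact memLocalIdeal_sub_one_of_pow hM hz.pow_eq_one
  set u' := red M G U with hu'
  set c := red M G C with hc
  set zs : KG M G := ∑ l ∈ Finset.range p, u' ^ l with hzs
  set r := zs * c with hr
  have hredR : ∀ j i, red M G (R j i) = r := fun j i => by
    simp only [R, Z, map_mul, map_sum, red_smul, ξ, map_pow, hz1, one_pow, one_smul, hr, hzs, hu',
      hc, π]
  obtain ⟨X, hXc, hX⟩ : ∃ X : KG M G, Commute (u' ^ p) X ∧ r * r - r = (u' ^ p - 1) * X := by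
    have hcomm : ∀ {a : OG M G}, Commute (U ^ p) a → Commute (u' ^ p) (red M G a) := fun h => by
      have := h.map (red M G)
      rwa [map_pow] at this
    refine ⟨∑ l ∈ Finset.range p, (∑ i ∈ Finset.range l, u' ^ i) * red M G (D l) * c,
      Commute.sum_right _ _ _ fun l _ => ((Commute.sum_right _ _ _ fun i _ =>
        (Commute.refl u').pow_pow p i).mul_right (hcomm (hDC l))).mul_right (hcomm hCW), ?_⟩
    have hzl : ∀ l, zs * u' ^ l = zs + (u' ^ p - 1) * ∑ i ∈ Finset.range l, u' ^ i := by
      intro l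
      rw [← geom_sum_mul u' p, mul_assoc, mul_geom_sum, mul_sub, mul_one, add_sub_cancel, hzs]
    calc r * r - r = (∑ l ∈ Finset.range p, zs * u' ^ l * red M G (D l)) * c - r := by
          congr 1
          rw [hr]
          calc zs * c * (zs * c) = zs * (c * zs) * c := by simp only [mul_assoc]
            _ = _ := by
              congr 1
              rw [hzs, Finset.mul_sum, Finset.mul_sum]
              refine Finset.sum_congr rfl fun l _ => ?_
              rw [mul_assoc, hc, hu', ← map_pow, ← map_mul, hUD, map_mul]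
      _ = _ := by
        simp only [hzl, add_mul, Finset.sum_add_distrib, Finset.sum_mul, Finset.mul_sum, mul_assoc]
        rw [← Finset.mul_sum, show ∑ l ∈ Finset.range p, red M G (D l) * c = c by
          rw [← Finset.sum_mul, ← map_sum, hDsum, hc, ← map_mul, heC], hr]
        abel
  have hnil : IsNilpotent (r * r - r) := by
    rw [hX]
    refine Commute.isNilpotent_mul_right (hXc.sub_left (Commute.one_left X)) ⟨p ^ n, ?_⟩
    have : CharP (KG M G) p :=
      charP_of_injective_algebraMap (algebraMap (Res M) (KG M G)).injective p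
    rw [sub_pow_char_pow_of_commute p n (Commute.one_right _), one_pow, hu', ← map_pow, ← map_pow,
      hUm, map_one, sub_self]
  have hconst : ∀ j i, LinearMap.trace ℂ V (f (R j i) * Q j) =
      LinearMap.trace ℂ V (f (R j 0) * Q j) := by
    intro j i
    set a := R j 0
    set b := R j i
    obtain ⟨v, hv⟩ : IsUnit (b * a + (1 - b) * (1 - a)) := isUnit_of_isUnit_red (by
      rw [map_add, map_mul (red M G) b a, map_mul (red M G) (1 - b) (1 - a), map_sub, map_sub,
        map_one, hredR, hredR,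
        show r * r + (1 - r) * (1 - r) = 1 + ((r * r - r) + (r * r - r)) by noncomm_ring]
      exact IsNilpotent.isUnit_one_add
        ((Commute.refl _).isNilpotent_add hnil hnil))
    have hRc : ∀ i, Commute (U ^ p) (R j i) := fun i => (hZU j i p).mul_right hCW
    have hvQ : Commute (f ↑v) (Q j) := hQcomm j _ (by
      rw [hv]
      exact ((hRc i).mul_right (hRc 0)).add_right
        (((Commute.one_right _).sub_right (hRc i)).mul_right
          ((Commute.one_right _).sub_right (hRc 0))))
    have key : f ↑v * f a * Q j = f b * f ↑v * Q j := by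
      rw [hv]
      simp only [map_add, map_mul, map_sub, map_one]
      have ha2 : f a * f a * Q j = f a * Q j := hRR j 0
      have hb2 : f b * f b * Q j = f b * Q j := hRR j i
      have hz1 : (1 - f a) * f a * Q j = 0 := by rw [sub_mul, one_mul, sub_mul, ha2, sub_self]
      have hz2 : f b * (1 - f b) * Q j = 0 := by rw [mul_sub, mul_one, sub_mul, hb2, sub_self]
      have hz2' : f b * ((1 - f b) * ((1 - f a) * Q j)) = 0 := by
        have hc0 : Commute (1 - f a) (Q j) := (Commute.one_left _).sub_left (hRQ j 0)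
        rw [hc0.eq, ← mul_assoc (1 - f b), ← mul_assoc, ← mul_assoc, hz2, zero_mul]
      have hba : f b * (f b * (f a * Q j)) = f b * (f a * Q j) := by
        rw [(hRQ j 0).eq, ← mul_assoc (f b) (Q j), ← mul_assoc, ← mul_assoc, hb2]
      rw [add_mul, mul_add, add_mul, add_mul, mul_assoc ((1 - f b)) (1 - f a),
        mul_assoc (1 - f b) ((1 - f a) * f a), hz1, mul_zero, add_zero]
      simp only [mul_assoc]
      rw [hz2', add_zero, hba, ← mul_assoc (f a), ha2]
    have hbb : f b * Q j = f ↑v * f a * Q j * f ↑v⁻¹ := by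
      rw [key, mul_assoc (f b), hvQ.eq, ← mul_assoc, mul_assoc (f b * Q j), ← map_mul,
        Units.mul_inv, map_one, mul_one]
    rw [hbb, LinearMap.trace_mul_comm, ← mul_assoc, ← mul_assoc, ← map_mul, Units.inv_mul, map_one,
      one_mul]
  -- conclusion
  have hUe' : f (U * e) = ∑ l ∈ Finset.range p, f (U * cj (u ^ l) C) := by
    rw [← hsum, Finset.mul_sum, map_sum]
  rw [hf, ← mul_one (f _), ← hQsum, Finset.mul_sum, map_sum]
  refine Finset.sum_eq_zero fun j _ => ?_
  rw [hUe', Finset.sum_mul, map_sum]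
  have hterm : ∀ l, LinearMap.trace ℂ V (f (U * cj (u ^ l) C) * Q j) =
      LinearMap.trace ℂ V (f (U * C) * Q j) := by
    intro l
    have h1 : U * cj (u ^ l) C = U ^ l * (U * C * MonoidAlgebra.of _ G (u ^ l)⁻¹) := by
      simp only [cj, hUp]
      rw [← mul_assoc, ← mul_assoc, hU, ← map_mul, ← mul_assoc, ← mul_assoc, ← map_mul,
        show u * u ^ l = u ^ l * u from ((Commute.refl u).pow_left l).eq.symm]
    have hcom : Commute (U ^ p) (MonoidAlgebra.of (localRing M) G (u ^ l)⁻¹) := by
      rw [hUp]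
      exact (((Commute.refl u).pow_pow p l).inv_right).map _
    rw [h1, map_mul f, mul_assoc, map_mul f (U * C), mul_assoc, (hQcomm j _ hcom).eq,
      LinearMap.trace_mul_comm,
      mul_assoc, mul_assoc, ← map_mul, hUp, ← map_mul, inv_mul_cancel, map_one, map_one, mul_one]
  rw [Finset.sum_congr rfl fun l _ => hterm l, Finset.sum_const, Finset.card_range]
  suffices h : LinearMap.trace ℂ V (f (U * C) * Q j) = 0 by rw [h, smul_zero]
  -- average over the roots above `η ^ j`
  have hsel : ∑ i ∈ Finset.range p, ((ξ j i : localRing M) : ℂ) ^ (p - 1) •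
      (f (R j i) * Q j) = ((p : ℂ) * η ^ j) • (f (U * C) * Q j) := by
    simp only [R, Z, Finset.sum_mul, map_sum, smul_mul_assoc, hfs, Finset.smul_sum, smul_smul]
    rw [Finset.sum_comm]
    simp only [← Finset.sum_smul]
    have hcoef : ∀ l, l < p → ∑ i ∈ Finset.range p, ((ξ j i : localRing M) : ℂ) ^ (p - 1) *
        ((ξ j i ^ l : localRing M) : ℂ) = if l = 1 then (p : ℂ) * η ^ j else 0 := by
      intro l hl
      have e1 : ∀ i, ((ξ j i : localRing M) : ℂ) ^ (p - 1) * ((ξ j i ^ l : localRing M) : ℂ) =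
          (z ^ j) ^ (p - 1 + l) * (ω ^ (p - 1 + l)) ^ i := fun i => by
        push_cast
        rw [← pow_add, hξ, mul_pow, ← pow_mul ω, ← pow_mul ω, mul_comm i]
      rw [Finset.sum_congr rfl fun i _ => e1 i, ← Finset.mul_sum, hω_sum]
      have hp2 := hp.two_le
      by_cases hl1 : l = 1
      · subst hl1
        rw [if_pos (by rw [Nat.sub_add_cancel hp.pos]), if_pos rfl, Nat.sub_add_cancel hp.pos,
          ← pow_mul, mul_comm j, pow_mul, mul_comm]
      · rw [if_neg hl1, if_neg, mul_zero]
        intro hd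
        rcases Nat.eq_zero_or_pos l with rfl | hpos
        · exact absurd (Nat.le_of_dvd (by omega) hd) (by omega)
        · have : p - 1 + l = p + (l - 1) := by omega
          rw [this] at hd
          exact absurd (Nat.le_of_dvd (by omega) ((Nat.dvd_add_right dvd_rfl).mp hd)) (by omega)
    rw [Finset.sum_congr rfl fun l hl => by rw [hcoef l (Finset.mem_range.mp hl)],
      Finset.sum_eq_single 1]
    · rw [if_pos rfl, pow_one]
    · intro l _ hl
      rw [if_neg hl, zero_smul]
    · intro h1
      exact absurd (Finset.mem_range.mpr hp.one_lt) h1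
  have h0 := congrArg (LinearMap.trace ℂ V) hsel
  rw [map_smul, map_sum] at h0
  simp only [map_smul, hconst, smul_eq_mul] at h0
  rw [← Finset.sum_mul, show ∑ i ∈ Finset.range p, ((ξ j i : localRing M) : ℂ) ^ (p - 1) = 0 by
    simp only [hξ, mul_pow, ← Finset.mul_sum]
    rw [Finset.sum_congr rfl (g := fun i => (ω ^ (p - 1)) ^ i) fun i _ => by
      rw [← pow_mul ω i, ← pow_mul ω (p - 1), mul_comm i], hω_sum, if_neg, mul_zero]
    intro hd
    have := hp.two_le
    exact absurd (Nat.le_of_dvd (by omega) hd) (by omega), zero_mul] at h0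
  refine (mul_eq_zero.mp h0.symm).resolve_left (mul_ne_zero (Nat.cast_ne_zero.mpr hp.ne_zero) ?_)
  exact pow_ne_zero _ (hηp.ne_zero (pow_ne_zero _ hp.ne_zero))

/-- The trace at `u` of an idempotent with trivial Brauer image at `u` vanishes. -/
theorem val_eq_zero (hM : IsPModular p M) {u : G} (hu : ∃ n : ℕ, orderOf u = p ^ n)
    {ε : KG M G} (hε : IsIdempotentElem ε) (hf : Fixd {u} ε)
    (hbr : br (Subgroup.zpowers u) ε = 0) : val ρ u ε = 0 := by
  classical
  have : Fact p.Prime := ⟨hM.1⟩
  have := charP_res (M := M) hM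
  obtain ⟨n, hn⟩ := hu
  rcases n with _ | n
  · rw [pow_zero, orderOf_eq_one_iff] at hn
    subst hn
    rw [br_eq_self] at hbr
    · rw [hbr, val_zero]
    · intro x _
      rw [Subgroup.mem_centralizer_iff]
      intro y hy
      have : y = 1 := by simpa using hy
      rw [this, one_mul, mul_one]
  set H := Subgroup.zpowers u with hH
  have hHp : IsPGroup p H := IsPGroup.of_card (n := n + 1) (by rw [hH, Nat.card_zpowers, hn])
  have hfH : Fixd (H : Set G) ε := fixd_zpowers.mpr hf
  obtain ⟨d, j, hj, ho, hs⟩ := exists_prim_decomposition (H : Set G) ε hε hfH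
  rw [← hs, val_sum ρ Finset.univ j
    (fun i _ => ⟨(hj i).1.idem, fixd_zpowers.mp (hj i).1.fixd⟩) (fun i _ k _ h => ho i k h)]
  refine Finset.sum_eq_zero fun i _ => ?_
  obtain ⟨hprim, hεj, -⟩ := hj i
  have hbrj : br H (j i) = 0 := by
    rw [← hεj, br_mul hHp hfH hprim.fixd, hbr, zero_mul]
  set H' := Subgroup.zpowers (u ^ p) with hH'
  have hH'H : H' ≤ H := Subgroup.zpowers_le.mpr (Subgroup.pow_mem _ (Subgroup.mem_zpowers u) p)
  have hcard : Nat.card H' = p ^ n := by
    rw [hH', Nat.card_zpowers, orderOf_pow_of_dvd hM.1.ne_zero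
      (by rw [hn]; exact dvd_pow_self p n.succ_ne_zero), hn, pow_succ,
      Nat.mul_div_cancel _ hM.1.pos]
  have hidx : (H'.subgroupOf H).index = p := by
    have h1 := (H'.subgroupOf H).card_mul_index
    rw [Nat.card_congr (Subgroup.subgroupOfEquivOfLe hH'H).toEquiv, hcard, hH, Nat.card_zpowers,
      hn, pow_succ] at h1
    exact Nat.eq_of_mul_eq_mul_left (pow_pos hM.1.pos n) h1
  have : IsMulCommutative H := hH ▸ inferInstance
  have hnorm : (H'.subgroupOf H).Normal := ⟨fun a ha g => by
    rw [mul_comm' g a, mul_inv_cancel_right]; exact ha⟩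
  have hnot : u ∉ H' := by
    intro h
    have h1 : H ≤ H' := Subgroup.zpowers_le.mpr h
    have h2 := Subgroup.card_le_of_le h1
    rw [hcard, hH, Nat.card_zpowers, hn] at h2
    exact absurd h2 (not_le.mpr (Nat.pow_lt_pow_right hM.1.one_lt n.lt_succ_self))
  obtain ⟨y, hy, -, hyj⟩ := exists_trRel_eq hH'H hprim.fixd fun g hg r hr hrg => by
    by_contra hrH'
    apply hg
    have hgen : H ≤ Subgroup.zpowers r := by
      obtain ⟨l, rfl⟩ := Subgroup.mem_zpowers_iff.mp hr
      have hpl : ¬ (p : ℤ) ∣ l := by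
        rintro ⟨q, rfl⟩
        exact hrH' (Subgroup.mem_zpowers_iff.mpr ⟨q, by rw [zpow_mul, zpow_natCast]⟩)
      obtain ⟨a, b, hab⟩ := ((Nat.prime_iff_prime_int.mp hM.1).coprime_iff_not_dvd.mpr hpl).pow_left
        (m := n + 1)
      refine Subgroup.zpowers_le.mpr (Subgroup.mem_zpowers_iff.mpr ⟨b, ?_⟩)
      rw [← zpow_mul, show l * b = 1 + (orderOf u : ℤ) * (-a) by
        rw [hn]; push_cast; linarith, zpow_add, zpow_one, zpow_mul, zpow_natCast,
        pow_orderOf_eq_one, one_zpow, mul_one]
    have hgC : g ∈ Subgroup.centralizer (H : Set G) := Subgroup.mem_centralizer_iff.mpr fun x hx => by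
      obtain ⟨q, rfl⟩ := Subgroup.mem_zpowers_iff.mp (hgen hx)
      have hc : Commute r g := mul_inv_eq_iff_eq_mul.mp hrg
      exact (hc.zpow_left q).eq
    have := congrArg (fun a => a.coeff g) hbrj
    simpa [coeff_br, hgC] using this
  rw [trRel_eq_sum_pow hidx (Subgroup.mem_zpowers u) hnot hy] at hyj
  obtain ⟨e, he, hef, her⟩ := exists_idem_lift hprim.idem (fixd_zpowers.mp hprim.fixd)
  obtain ⟨c, hcf, hcr⟩ := exists_fixd_lift (fixd_zpowers.mp hy)
  have hef' : Fixd {u ^ p} e := (fixd_zpowers.mpr hef).mono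
    (Set.singleton_subset_iff.mpr (Subgroup.pow_mem _ (Subgroup.mem_zpowers u) p))
  set w := ∑ l ∈ Finset.range p, cj (u ^ l) (e * c * e) with hw
  have hepow : ∀ l : ℕ, cj (u ^ l) e = e := fun l =>
    fixd_zpowers.mpr hef _ (Subgroup.pow_mem _ (Subgroup.mem_zpowers u) l)
  have hew : e * w = w := by
    rw [hw, Finset.mul_sum]
    refine Finset.sum_congr rfl fun l _ => ?_
    rw [show e * cj (u ^ l) (e * c * e) = cj (u ^ l) e * cj (u ^ l) (e * c * e) by rw [hepow],
      ← cj_mul, ← mul_assoc, ← mul_assoc, he.eq]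
  have hwe : w * e = w := by
    rw [hw, Finset.sum_mul]
    refine Finset.sum_congr rfl fun l _ => ?_
    rw [show cj (u ^ l) (e * c * e) * e = cj (u ^ l) (e * c * e) * cj (u ^ l) e by rw [hepow],
      ← cj_mul, mul_assoc _ e e, he.eq]
  have hwf : Fixd {u} w := by
    rintro v rfl
    rw [hw, cj_sum]
    have hperiod : cj (v ^ p) (e * c * e) = e * c * e := (hef'.mul hcf).mul hef' _ rfl
    have h1 := Finset.sum_range_succ' (fun l => cj (v ^ l) (e * c * e)) p
    rw [Finset.sum_range_succ, hperiod, pow_zero, cj_one] at h1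
    simp only [cj_cj, ← pow_succ']
    exact (add_right_cancel h1).symm
  have hwr : red M G w = j i := by
    rw [hw, map_sum]
    calc ∑ l ∈ Finset.range p, red M G (cj (u ^ l) (e * c * e))
        = j i * (∑ l ∈ Finset.range p, cj (u ^ l) y) * j i := by
          rw [Finset.mul_sum, Finset.sum_mul]
          refine Finset.sum_congr rfl fun l _ => ?_
          rw [red_cj, map_mul, map_mul, her, hcr, cj_mul, cj_mul,
            show cj (u ^ l) (j i) = j i from
              hprim.fixd _ (Subgroup.pow_mem _ (Subgroup.mem_zpowers u) l)]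
      _ = j i := by rw [hyj, hprim.idem.eq, hprim.idem.eq]
  obtain ⟨W, hW⟩ : IsUnit (w + (1 - e)) := isUnit_of_isUnit_red (by
    rw [map_add, map_sub, map_one, her, hwr, add_sub_cancel]; exact isUnit_one)
  have hWe : Commute e (W : OG M G) := by
    rw [hW]
    exact Commute.add_right (hew.trans hwe.symm) ((Commute.one_right e).sub_right (Commute.refl e))
  have hWf : Fixd {u} (↑W⁻¹ : OG M G) := fixd_iff_commute.mpr fun v hv =>
    (show Commute (MonoidAlgebra.of (localRing M) G v) (W : OG M G) from hW ▸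
      fixd_iff_commute.mp (hwf.add ((Fixd.one _).sub hef)) v hv).units_inv_right
  have hwW : w * ↑W⁻¹ = e := by
    have h1 : e * (W : OG M G) = w := by rw [hW, mul_add, hew, mul_sub, mul_one, he.eq, sub_self,
      add_zero]
    rw [← h1, mul_assoc, Units.mul_inv, mul_one]
  rw [val_eq ρ he hef her]
  refine tau_of_mul_eq_zero ρ hM hn he hef (C := e * c * e * ↑W⁻¹)
    (((hef'.mul hcf).mul hef').mul (by
      rintro v rfl
      exact fixd_zpowers.mpr hWf _ (Subgroup.pow_mem _ (Subgroup.mem_zpowers u) p)))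
    (by rw [← mul_assoc, ← mul_assoc, ← mul_assoc, he.eq])
    (by rw [mul_assoc (e * c * e), (hWe.units_inv_right).eq.symm, ← mul_assoc,
      mul_assoc (e * c) e e, he.eq]) ?_
  rw [Finset.sum_congr rfl fun l _ => by
    rw [cj_mul, show cj (u ^ l) (↑W⁻¹ : OG M G) = ↑W⁻¹ from
      fixd_zpowers.mpr hWf _ (Subgroup.pow_mem _ (Subgroup.mem_zpowers u) l)], ← Finset.sum_mul]
  exact hwW

end Cfsg.Agent.BC85.Star
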