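import Cfsg.Agent.BC85.Star.Blocks

/-!
# The Brauer image of a primitive idempotent

The trace at a `p`-element only depends on the Brauer image, and below the pair picked out by a
primitive idempotent there is only one block at each subgroup.
-/

namespace Cfsg.Agent.BC85.Star

open BlocksCore BlocksDefect Polynomial
open scoped Classical

section Algebra

variable {k : Type*} [Field k] {G : Type*} [Group G]

local notation "B" => MonoidAlgebra k G

omit [Field k] in
theorem eq_zero_of_idem_of_nilpotent {A : Type*} [Semiring A] {x : A} (hx : IsIdempotentElem x)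
    (hn : IsNilpotent x) : x = 0 := by
  obtain ⟨n, hn⟩ := hn
  rw [← hx.pow_succ_eq n, pow_succ, hn, zero_mul]

theorem Fixd.pow {S : Set G} {a : B} (h : Fixd S a) (n : ℕ) : Fixd S (a ^ n) := by
  induction n with
  | zero => rw [pow_zero]; exact Fixd.one S
  | succ n ih => rw [pow_succ]; exact ih.mul h

variable [Finite G] {p : ℕ} [Fact p.Prime] [CharP k p]

theorem br_pow {Q : Subgroup G} (hQ : IsPGroup p Q) {a : B} (ha : Fixd (Q : Set G) a) (n : ℕ) :
    br Q (a ^ n) = br Q a ^ n := by
  induction n with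
  | zero => rw [pow_zero, pow_zero, br_one]
  | succ n ih => rw [pow_succ, pow_succ, br_mul hQ (ha.pow n) ha, ih]

theorem br_trRel_top_eq_zero {U R : Subgroup G} (hU : IsPGroup p U) (hRU : R < U) (c : B) :
    br U (trRel U R c) = 0 := by
  have := Fintype.ofFinite (U ⧸ R.subgroupOf U)
  refine MonoidAlgebra.ext (Finsupp.ext fun x => ?_)
  rw [coeff_br]
  split_ifs with hx
  · rw [trRel_def, MonoidAlgebra.coeff_sum, Finsupp.finsetSum_apply,
      Finset.sum_congr rfl (g := fun _ => c.coeff x) fun q _ => by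
        rw [coeff_cj, mul_assoc, ← Subgroup.mem_centralizer_iff.mp hx _ q.out.2,
          inv_mul_cancel_left]]
    rw [Finset.sum_const, Finset.card_univ, ← Nat.card_eq_fintype_card]
    obtain ⟨n, hn⟩ := hU.index (R.subgroupOf U)
    have hn0 : n ≠ 0 := by
      rintro rfl
      rw [pow_zero, Subgroup.index_eq_one, Subgroup.subgroupOf_eq_top] at hn
      exact hRU.not_ge hn
    rw [← Subgroup.index, hn, ← Nat.cast_smul_eq_nsmul k, Nat.cast_pow, CharP.cast_eq_zero,
      zero_pow hn0, zero_smul]
    rfl
  · rfl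

variable [IsAlgClosed k]

/-- In the Brauer image of a primitive idempotent an idempotent is `0` or the whole. -/
theorem prim_br_dichotomy {U : Subgroup G} (hU : IsPGroup p U) {ε c : B}
    (hε : IsPrim (U : Set G) ε) (hc : IsIdempotentElem c) (hcf : Fixd (U : Set G) c)
    (hcomm : Commute (br U ε) (br U c)) :
    br U ε * br U c = 0 ∨ br U ε * br U c = br U ε := by
  have hy : IsIdempotentElem (br U ε) := by
    show _ * _ = _
    rw [← br_mul hU hε.fixd hε.fixd, hε.idem.eq]
  have hC : IsIdempotentElem (br U c) := by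
    show _ * _ = _
    rw [← br_mul hU hcf hcf, hc.eq]
  set z := ε * c * ε with hz
  have hzc : InCorner (U : Set G) ε z := InCorner.mk' hε hcf
  have hbz : br U z = br U ε * br U c := by
    rw [hz, br_mul hU (hε.fixd.mul hcf) hε.fixd, br_mul hU hε.fixd hcf, mul_assoc, ← hcomm.eq,
      ← mul_assoc, hy.eq]
  by_cases h : resid ε z = 0
  · left
    obtain ⟨n, hn⟩ := isNilpotent_of_resid_eq_zero hε hzc h
    refine eq_zero_of_idem_of_nilpotent (IsIdempotentElem.mul_of_commute hcomm hy hC) ⟨n, ?_⟩
    rw [← hbz, ← br_pow hU hzc.fixd, hn, br_zero]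
  · right
    obtain ⟨w, hw, hzw, -⟩ := exists_inverse hε hzc h
    have h1 : br U ε * br U c * br U w = br U ε := by
      rw [← hbz, ← br_mul hU hzc.fixd hw.fixd, hzw]
    have h2 : br U ε * br U c * br U ε = br U ε * br U c := by
      rw [mul_assoc, ← hcomm.eq, ← mul_assoc, hy.eq]
    calc br U ε * br U c = br U ε * br U c * br U ε := h2.symm
      _ = br U ε * br U c * (br U ε * br U c * br U w) := by rw [h1]
      _ = br U ε * br U c * (br U ε * br U c) * br U w := by simp only [mul_assoc]
      _ = br U ε := by rw [(IsIdempotentElem.mul_of_commute hcomm hy hC).eq, h1]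

omit [Fact p.Prime] [CharP k p] [IsAlgClosed k] in
/-- Fitting decomposition of an element of the corner of an idempotent. -/
theorem exists_fitting {S : Set G} {x z : B} (hxz : x * z = z)
    (hzx : z * x = z) (hzf : Fixd S z) :
    ∃ (q w : B) (m : ℕ), IsIdempotentElem q ∧ Fixd S q ∧ Fixd S w ∧ x * q = q ∧ q * x = q ∧
      z * w = q ∧ w * z = q ∧ Commute q z ∧ (x - q) * z ^ (m + 1) = 0 := by
  have : Module.Finite k B := MonoidAlgebra.moduleFinite
  have hint : IsIntegral k z := Algebra.IsIntegral.isIntegral z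
  obtain ⟨r, hr, hrX⟩ := exists_eq_pow_rootMultiplicity_mul_and_not_dvd (minpoly k z)
    (minpoly.ne_zero hint) 0
  set m := rootMultiplicity 0 (minpoly k z)
  rw [C_0, sub_zero] at hr hrX
  obtain ⟨a, b, hab⟩ : IsCoprime ((X : k[X]) ^ (m + 1)) r :=
    ((irreducible_X.coprime_iff_not_dvd).mpr hrX).pow_left
  have hann : aeval z (X ^ (m + 1) * r) = 0 := by
    rw [show (X : k[X]) ^ (m + 1) * r = X * (X ^ m * r) by ring, map_mul, ← hr, minpoly.aeval,
      mul_zero]
  have hxc : ∀ f : k[X], Commute x (aeval z f) := fun f =>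
    Algebra.commute_of_mem_adjoin_singleton_of_commute (aeval_mem_adjoin_singleton _ z)
      (show Commute x z from hxz.trans hzx.symm)
  obtain ⟨q, hq⟩ : ∃ q, q = aeval z (a * X ^ (m + 1)) := ⟨_, rfl⟩
  obtain ⟨w, hw⟩ : ∃ w, w = aeval z (a * X ^ m * (a * X ^ (m + 1))) := ⟨_, rfl⟩
  have hzX : aeval z (X : k[X]) = z := aeval_X z
  have hqq : IsIdempotentElem q := by
    have e : a * X ^ (m + 1) * (a * X ^ (m + 1)) =
        a * X ^ (m + 1) - a * b * (X ^ (m + 1) * r) := by
      linear_combination (a * X ^ (m + 1)) * hab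
    show q * q = q
    rw [hq, ← map_mul, e, map_sub, map_mul _ (a * b), hann, mul_zero, sub_zero]
  have hzw : z * w = q := by
    have e : (X : k[X]) * (a * X ^ m * (a * X ^ (m + 1))) =
        a * X ^ (m + 1) * (a * X ^ (m + 1)) := by ring
    calc z * w = aeval z (X : k[X]) * w := by rw [hzX]
      _ = aeval z (a * X ^ (m + 1) * (a * X ^ (m + 1))) := by rw [hw, ← map_mul, e]
      _ = q := by rw [map_mul, ← hq, hqq.eq]
  have hcz : ∀ f : k[X], Commute (aeval z f) z := fun f => by
    have h : Commute (aeval z f) (aeval z (X : k[X])) := (Commute.all f X).map (aeval z)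
    rwa [hzX] at h
  have hxz' : x * z ^ (m + 1) = z ^ (m + 1) := by rw [pow_succ', ← mul_assoc, hxz]
  have hXp : aeval z ((X : k[X]) ^ (m + 1)) = z ^ (m + 1) := by rw [map_pow, hzX]
  have hxq : x * q = q := by
    rw [hq, map_mul, hXp, ← mul_assoc, (hxc a).eq, mul_assoc, hxz']
  have hqx : q * x = q := by rw [hq, ← (hxc _).eq, ← hq, hxq]
  refine ⟨q, w, m, hqq, hq ▸ hzf.aeval _, hw ▸ hzf.aeval _, hxq, hqx, hzw, ?_, hq ▸ hcz _, ?_⟩
  · rw [hw, (hcz _).eq, ← hw, hzw]
  · have e : (X : k[X]) ^ (m + 1) - a * X ^ (m + 1) * X ^ (m + 1) =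
        b * (X ^ (m + 1) * r) := by linear_combination (-(X : k[X]) ^ (m + 1)) * hab
    rw [sub_mul, hxz', ← hXp, hq, ← map_mul, ← map_sub, e, map_mul, hann, mul_zero]

end Algebra

/-! ### Traces and Brauer images -/

section Val

variable {M : Ideal AlgInt} [hP : M.IsPrime] {p : ℕ} {G : Type*} [Group G] [Finite G]
  {V : Type*} [AddCommGroup V] [Module ℂ V] (ρ : Representation ℂ G V)

theorem val_eq_of_br_eq (hM : IsPModular p M) {u : G} (hu : ∃ n : ℕ, orderOf u = p ^ n)
    {x y : KG M G} (hx : IsIdempotentElem x) (hy : IsIdempotentElem y) (hxf : Fixd {u} x)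
    (hyf : Fixd {u} y) (h : br (Subgroup.zpowers u) x = br (Subgroup.zpowers u) y) :
    val ρ u x = val ρ u y := by
  have : Fact p.Prime := ⟨hM.1⟩
  have := charP_res (M := M) hM
  set H := Subgroup.zpowers u with hH
  have hHp : IsPGroup p H := by
    obtain ⟨n, hn⟩ := hu
    exact IsPGroup.of_card (n := n) (by rw [hH, Nat.card_zpowers, hn])
  have hfH : ∀ {a : KG M G}, Fixd {u} a → Fixd (H : Set G) a := fun h => fixd_zpowers.mpr h
  set z := x * y * x with hz
  have hzf : Fixd {u} z := (hxf.mul hyf).mul hxf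
  obtain ⟨q, w, m, hq, hqf, hwf, hxq, hqx, hzw, hwz, hqz, hkill⟩ :=
    exists_fitting (S := ({u} : Set G)) (x := x) (z := z)
      (by rw [hz, ← mul_assoc, ← mul_assoc, hx.eq]) (by rw [hz, mul_assoc, hx.eq]) hzf
  set X := br H x with hX
  have hXX : X * X = X := by rw [hX, ← br_mul hHp (hfH hxf) (hfH hxf), hx.eq]
  have hbz : br H z = X := by
    rw [hz, br_mul hHp (hfH (hxf.mul hyf)) (hfH hxf), br_mul hHp (hfH hxf) (hfH hyf), ← h, ← hX,
      hXX, hXX]
  have hxq0 : br H (x - q) = 0 := by
    have h1 := congrArg (br H) hkill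
    rw [br_mul hHp (hfH (hxf.sub hqf)) (hfH (hzf.pow _)), br_pow hHp (hfH hzf), hbz, br_zero,
      IsIdempotentElem.pow_succ_eq m (show IsIdempotentElem X from hXX), hX,
      ← br_mul hHp (hfH (hxf.sub hqf)) (hfH hxf), sub_mul, hx.eq, hqx] at h1
    exact h1
  have hbq : br H q = X := by
    have h1 := hxq0
    rw [br_sub] at h1
    exact (sub_eq_zero.mp h1).symm
  have hXw : X * br H w = X := by
    rw [← hbz, ← br_mul hHp (hfH hzf) (hfH hwf), hzw, hbq, hbz]
  have hqzw : q * z * q * w = q := by
    rw [mul_assoc q z q, ← hqz.eq, ← mul_assoc, hq.eq, mul_assoc, hzw, hq.eq]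
  have hqyq : q * y * q = q * z * q := by
    calc q * y * q = q * x * y * (x * q) := by rw [hqx, hxq]
      _ = q * z * q := by simp only [hz, mul_assoc]
  have hab : q * y * (y * q * w) = q := by
    rw [← mul_assoc, ← mul_assoc, mul_assoc q y y, hy.eq, hqyq, hqzw]
  have hba : y * q * w * (q * y) = y * (q * w * q) * y := by simp only [mul_assoc]
  have hyq' : IsIdempotentElem (y * q * w * (q * y)) := by
    show _ * _ = _
    calc y * q * w * (q * y) * (y * q * w * (q * y))
        = y * q * w * (q * y * (y * q * w)) * (q * y) := by simp only [mul_assoc]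
      _ = y * q * w * (q * y) := by rw [hab]; simp only [mul_assoc]; rw [← mul_assoc q q, hq.eq]
  have hyq'f : Fixd {u} (y * q * w * (q * y)) :=
    (((hyf.mul hqf).mul hwf)).mul (hqf.mul hyf)
  have hyq0 : br H (y - y * q * w * (q * y)) = 0 := by
    rw [br_sub, br_mul hHp (hfH ((hyf.mul hqf).mul hwf)) (hfH (hqf.mul hyf)),
      br_mul hHp (hfH (hyf.mul hqf)) (hfH hwf), br_mul hHp (hfH hyf) (hfH hqf),
      br_mul hHp (hfH hqf) (hfH hyf), ← h, hbq, hXX, hXw, hXX, sub_self]
  have hyl : y * (y * q * w * (q * y)) = y * q * w * (q * y) := by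
    simp only [← mul_assoc, hy.eq]
  have hyr : y * q * w * (q * y) * y = y * q * w * (q * y) := by
    simp only [mul_assoc, hy.eq]
  have hdiff : IsIdempotentElem (y - y * q * w * (q * y)) := by
    show _ * _ = _
    rw [sub_mul, mul_sub, mul_sub, hy.eq, hyl, hyr, hyq'.eq]
    abel
  have hdiff' : IsIdempotentElem (x - q) := by
    show _ * _ = _
    rw [sub_mul, mul_sub, mul_sub, hx.eq, hxq, hqx, hq.eq]
    abel
  calc val ρ u x = val ρ u (q + (x - q)) := by rw [add_sub_cancel]
    _ = val ρ u q := by
      rw [val_add ρ hq hdiff' hqf (hxf.sub hqf) (by rw [mul_sub, hqx, hq.eq, sub_self])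
        (by rw [sub_mul, hxq, hq.eq, sub_self]),
        val_eq_zero ρ hM hu hdiff' (hxf.sub hqf) hxq0, add_zero]
    _ = val ρ u (q * y * (y * q * w)) := by rw [hab]
    _ = val ρ u (y * q * w * (q * y)) :=
      val_mul_comm ρ (hqf.mul hyf) ((hyf.mul hqf).mul hwf) (by rw [hab]; exact hq) hyq'
    _ = val ρ u (y * q * w * (q * y) + (y - y * q * w * (q * y))) := by
      rw [val_add ρ hyq' hdiff hyq'f (hyf.sub hyq'f) (by rw [mul_sub, hyr, hyq'.eq, sub_self])
        (by rw [sub_mul, hyl, hyq'.eq, sub_self]),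
        val_eq_zero ρ hM hu hdiff (hyf.sub hyq'f) hyq0, add_zero]
    _ = val ρ u y := by rw [add_sub_cancel]

end Val

/-! ### The pair below -/

section Pairs

universe u

variable {G : Type u} [Group G] [Fintype G] {p : ℕ} [Fact p.Prime] {M : Ideal AlgInt}
  [hP : M.IsPrime]

/-- A primitive idempotent with Brauer image in the block of a pair meets, at every smaller
subgroup, only the pair below it. -/
theorem br_mul_bk_below (hM : IsPModular p M) {U : Subgroup G}
    {e : Set (IrrCharacter (Subgroup.centralizer (U : Set G)))} (he : IsBrauerPair p M U e)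
    {ε : KG M G} (hε : IsPrim (U : Set G) ε) (hεU : br U ε ≠ 0)
    (hεe : br U ε * bk M (⟨U, e⟩ : BrauerPairIdx G) = br U ε) :
    ∀ n : ℕ, ∀ R : Subgroup G, Nat.card U ≤ Nat.card R + n →
      ∀ f : Set (IrrCharacter (Subgroup.centralizer (R : Set G))), SubpairLE p M R f U e →
        br R ε * bk M (⟨R, f⟩ : BrauerPairIdx G) = br R ε := by
  have := charP_res (M := M) hM
  have hU := he.1
  intro n
  induction n with
  | zero =>
    intro R hn f hle
    obtain rfl : R = U := Subgroup.eq_of_le_of_card_ge (subpairLE_le hle) (by simpa using hn)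
    rw [subpairLE_self_eq hM hle]
    exact hεe
  | succ n ih =>
    intro R hn f hle
    by_cases hEq : R = U
    · subst hEq
      rw [subpairLE_self_eq hM hle]
      exact hεe
    have hRU : R < U := lt_of_le_of_ne (subpairLE_le hle) hEq
    have hRp : IsPGroup p R := hU.to_le hRU.le
    set R' := U ⊓ Subgroup.normalizer (R : Set G) with hR'
    have hlt : R < R' := exists_lt_normalizer hU hRU
    obtain ⟨g', hg'⟩ := exists_below hM he (inf_le_left : R' ≤ U)
    obtain ⟨f₀, hf₀⟩ := exists_normalSubpair hM (subpairLE_isBrauerPair hg' he) hlt.le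
      (inf_le_right : R' ≤ Subgroup.normalizer (R : Set G))
    obtain rfl : f₀ = f := below_unique hM he (Relation.ReflTransGen.head
      (show NormalSubpairRel p M ⟨R, f₀⟩ ⟨R', g'⟩ from hf₀) hg') hle
    set a : BrauerPairIdx G := ⟨R, f₀⟩ with ha_def
    have hf₀' := (isNormalSubpair_iff hM).mp hf₀
    have ha : a ∈ pairsAt M R := mk_mem_pairsAt hf₀'.1.2
    set x := br R ε * (1 - bk M a) with hxdef
    have hεR : Fixd (R : Set G) ε := hε.fixd.mono (SetLike.coe_subset_coe.mpr hRU.le)
    have hyi : IsIdempotentElem (br R ε) := by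
      show _ * _ = _
      rw [← br_mul hRp hεR hεR, hε.idem.eq]
    have hcomm : Commute (br R ε) (1 - bk M a) :=
      (Commute.one_right _).sub_right (commute_bk_br ha ε).symm
    have hxi : IsIdempotentElem x :=
      IsIdempotentElem.mul_of_commute hcomm hyi (bk_idem hM ha).one_sub
    have hbkf : Fixd (R' : Set G) (bk M a) := by
      intro v hv
      rw [bk, cj_emb]
      congr 1
      funext g
      have := hf₀'.2.2.2.2.1 v⁻¹ (R'.inv_mem hv) g
      rwa [inv_inv] at this
    have hxf : Fixd (R' : Set G) x :=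
      ((hε.fixd.mono (SetLike.coe_subset_coe.mpr inf_le_left)).br fun v hv =>
        (Subgroup.mem_inf.mp hv).2).mul ((Fixd.one _).sub hbkf)
    -- the image vanishes at every larger subgroup of the normalizer
    have hvanish : ∀ R'' : Subgroup G, R < R'' → R'' ≤ R' → br R'' x = 0 := by
      intro R'' h1 h2
      have h2U : R'' ≤ U := h2.trans inf_le_left
      obtain ⟨g'', hg''⟩ := exists_below hM he h2U
      obtain ⟨f₁, hf₁⟩ := exists_normalSubpair hM (subpairLE_isBrauerPair hg'' he) h1.le
        (h2.trans inf_le_right : R'' ≤ Subgroup.normalizer (R : Set G))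
      obtain rfl : f₁ = f₀ := below_unique hM he (Relation.ReflTransGen.head
        (show NormalSubpairRel p M ⟨R, f₁⟩ ⟨R'', g''⟩ from hf₁) hg'')
        (Relation.ReflTransGen.head (show NormalSubpairRel p M ⟨R, f₀⟩ ⟨R', g'⟩ from hf₀) hg')
      have hcard : Nat.card R < Nat.card R'' :=
        lt_of_not_ge fun hge => h1.ne (Subgroup.eq_of_le_of_card_ge h1.le hge)
      have h3 := ih R'' (by omega) g'' hg''
      have hb : (⟨R'', g''⟩ : BrauerPairIdx G) ∈ pairsAt M R'' :=
        mk_mem_pairsAt (subpairLE_isBrauerPair hg'' he).2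
      have hR''p : IsPGroup p R'' := hU.to_le h2U
      have hfix : Fixd (R'' : Set G) (br R ε) :=
        (hε.fixd.mono (SetLike.coe_subset_coe.mpr h2U)).br fun v hv =>
          (Subgroup.mem_inf.mp (h2 hv)).2
      have hfix2 : Fixd (R'' : Set G) (1 - bk M a) :=
        (Fixd.one _).sub (hbkf.mono (SetLike.coe_subset_coe.mpr h2))
      rw [hxdef, br_mul hR''p hfix hfix2, br_mono h1.le, br_sub, br_one, ← h3, mul_assoc, mul_sub,
        mul_one, (commute_bk_br hb (bk M a)).eq, br_bk_mul_of_normal hM (a := (⟨R, f₁⟩ : BrauerPairIdx G)) (b := (⟨R'', g''⟩ : BrauerPairIdx G)) hf₁, sub_self, mul_zero]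
    -- hence it is a trace from `R`
    have hsupp : ∀ g, x.coeff g ≠ 0 → g ∈ Subgroup.centralizer (R : Set G) := by
      intro g hg
      by_contra hgR
      have hR : br R x = x := by
        rw [hxdef, br_mul hRp (fixd_br ε) ((Fixd.one _).sub (fixd_bk ha)), br_mono le_rfl,
          br_sub, br_one, br_bk ha]
      rw [← hR, coeff_br, if_neg hgR] at hg
      exact hg rfl
    have hnorm : (R.subgroupOf R').Normal := by
      refine ⟨fun v hv w => ?_⟩
      exact (Subgroup.mem_normalizer_iff.mp (Subgroup.mem_inf.mp w.2).2 _).mp hv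
    have hst : ∀ g, x.coeff g ≠ 0 → ∀ r ∈ R', r * g * r⁻¹ = g → r ∈ R := by
      intro g hg r hr hrg
      by_contra hrR
      have h1 : R < R ⊔ Subgroup.zpowers r := lt_of_le_of_ne le_sup_left fun h =>
        hrR (h ▸ Subgroup.mem_sup_right (Subgroup.mem_zpowers r))
      have h0 := hvanish _ h1 (sup_le hlt.le (Subgroup.zpowers_le.mpr hr))
      apply hg
      have h2 := congrArg (fun a => a.coeff g) h0
      simp only [coeff_br] at h2
      rw [if_pos] at h2
      · simpa using h2
      · have hle : R ⊔ Subgroup.zpowers r ≤ Subgroup.centralizer ({g} : Set G) :=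
          sup_le (fun v hv => Subgroup.mem_centralizer_singleton_iff.mpr
            (Subgroup.mem_centralizer_iff.mp (hsupp g hg) v hv))
            (Subgroup.zpowers_le.mpr (Subgroup.mem_centralizer_singleton_iff.mpr
              (mul_inv_eq_iff_eq_mul.mp hrg)))
        exact Subgroup.mem_centralizer_iff.mpr fun v hv =>
          Subgroup.mem_centralizer_singleton_iff.mp (hle hv)
    obtain ⟨y, hyR, hysupp, hy⟩ := exists_trRel_eq hlt.le hxf hst
    -- the Brauer image of the trace to `U` is the trace to the normalizer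
    have hbrtr : br R (trRel U R y) = x := by
      have := Fintype.ofFinite (U ⧸ R.subgroupOf U)
      have := Fintype.ofFinite (R' ⧸ R.subgroupOf R')
      refine MonoidAlgebra.ext (Finsupp.ext fun g => ?_)
      rw [coeff_br]
      by_cases hg : g ∈ Subgroup.centralizer (R : Set G)
      · rw [if_pos hg, ← hy, trRel_def, trRel_def, MonoidAlgebra.coeff_sum,
          MonoidAlgebra.coeff_sum, Finsupp.finsetSum_apply, Finsupp.finsetSum_apply]
        refine (Finset.sum_bij_ne_zero (fun (q : R' ⧸ R.subgroupOf R') _ _ =>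
          ((⟨(q.out : G), (Subgroup.mem_inf.mp q.out.2).1⟩ : U) : U ⧸ R.subgroupOf U))
          (fun _ _ _ => Finset.mem_univ _) (fun q₁ _ _ q₂ _ _ heq => ?_) (fun q _ hq => ?_)
          (fun q _ _ => ?_)).symm
        · rw [← QuotientGroup.out_eq' q₁, ← QuotientGroup.out_eq' q₂]
          exact QuotientGroup.eq.mpr (QuotientGroup.eq.mp heq :)
        · rw [coeff_cj] at hq
          set r := (q.out : G) with hr
          set h := r⁻¹ * g * r with hh
          have hrN : r ∈ Subgroup.normalizer (R : Set G) := by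
            rw [Subgroup.mem_normalizer_iff]
            by_contra hrN
            rw [← Subgroup.mem_normalizer_iff] at hrN
            set S := U ⊓ Subgroup.centralizer ({h} : Set G) with hS
            have hRS : R ≤ S := le_inf hRU.le fun v hv => Subgroup.mem_centralizer_singleton_iff.mpr
              (Subgroup.mem_centralizer_iff.mp (hsupp h (hysupp h hq)) v hv)
            have hSR : S = R := by
              by_contra hne
              obtain ⟨v, hv, hvR⟩ := SetLike.exists_of_lt (exists_lt_normalizer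
                (hU.to_le inf_le_left) (lt_of_le_of_ne hRS (Ne.symm hne)))
              obtain ⟨⟨hvU, hvh⟩, hvN⟩ :=
                (Subgroup.mem_inf.mp hv).imp_left Subgroup.mem_inf.mp
              exact hvR (hst h (hysupp h hq) v (Subgroup.mem_inf.mpr ⟨hvU, hvN⟩)
                (mul_inv_eq_iff_eq_mul.mpr (Subgroup.mem_centralizer_singleton_iff.mp hvh)))
            refine hrN (Subgroup.mem_normalizer_iff.mpr ?_)
            have hconj : ∀ v ∈ R, r⁻¹ * v * r ∈ R := fun v hv => by
              rw [← hSR]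
              refine Subgroup.mem_inf.mpr ⟨U.mul_mem (U.mul_mem (U.inv_mem q.out.2) (hRU.le hv))
                q.out.2, Subgroup.mem_centralizer_singleton_iff.mpr ?_⟩
              rw [hh]
              calc r⁻¹ * v * r * (r⁻¹ * g * r) = r⁻¹ * (v * g) * r := by group
                _ = _ := by rw [Subgroup.mem_centralizer_iff.mp hg v hv]; group
            have hmap : R.map (MulAut.conj r⁻¹).toMonoidHom = R :=
              Subgroup.eq_of_le_of_card_ge (Subgroup.map_le_iff_le_comap.mpr fun v hv => by
                show r⁻¹ * v * (r⁻¹)⁻¹ ∈ R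
                rw [inv_inv]
                exact hconj v hv)
                (Nat.card_congr (R.equivMapOfInjective _ (MulEquiv.injective _)).toEquiv).le
            have hN : r⁻¹ ∈ Subgroup.normalizer (R : Set G) :=
              Subgroup.mem_normalizer_iff.mpr fun v => by
                conv_rhs => rw [← hmap]
                rw [mem_map_conj_iff]
                simp [mul_assoc]
            intro v
            have := Subgroup.inv_mem _ hN
            rw [inv_inv] at this
            exact Subgroup.mem_normalizer_iff.mp this v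
          refine ⟨((⟨r, Subgroup.mem_inf.mpr ⟨q.out.2, hrN⟩⟩ : R') : R' ⧸ R.subgroupOf R'),
            Finset.mem_univ _, ?_, ?_⟩
          · rw [← cj_eq_of_coset hyR (QuotientGroup.out_eq' _).symm, coeff_cj]
            exact hq
          · refine (QuotientGroup.eq.mpr ?_).trans (QuotientGroup.out_eq' q)
            have := QuotientGroup.eq.mp (QuotientGroup.out_eq'
              ((⟨r, Subgroup.mem_inf.mpr ⟨q.out.2, hrN⟩⟩ : R') : R' ⧸ R.subgroupOf R'))
            exact this
        · rw [coeff_cj, coeff_cj]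
          have h1 := cj_eq_of_coset (R := U) (Q := R) hyR (QuotientGroup.out_eq'
            ((⟨(q.out : G), (Subgroup.mem_inf.mp q.out.2).1⟩ : U) : U ⧸ R.subgroupOf U))
          rw [← coeff_cj, ← coeff_cj, h1]
      · rw [if_neg hg]
        by_contra hne
        exact hg (hsupp g (Ne.symm hne))
    -- and so it is nilpotent
    set T := trRel U R y with hT
    have hTf : Fixd (U : Set G) T := fixd_trRel hyR
    set z := ε * T * ε with hz
    have hzc : InCorner (U : Set G) ε z := InCorner.mk' hε hTf
    have hzR : br R z = x := by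
      rw [hz, br_mul hRp (hεR.mul (hTf.mono (SetLike.coe_subset_coe.mpr hRU.le))) hεR,
        br_mul hRp hεR (hTf.mono (SetLike.coe_subset_coe.mpr hRU.le)), hbrtr, hxdef, ← mul_assoc,
        hyi.eq, mul_assoc, ← hcomm.eq, ← mul_assoc, hyi.eq]
    have hres : resid ε z = 0 := by
      by_contra hne
      obtain ⟨w, hw, hzw, -⟩ := exists_inverse hε hzc hne
      apply hεU
      rw [← hzw, br_mul hU hzc.fixd hw.fixd, hz, br_mul hU (hε.fixd.mul hTf) hε.fixd,
        br_mul hU hε.fixd hTf, hT, br_trRel_top_eq_zero hU hRU y, mul_zero, zero_mul, zero_mul]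
    obtain ⟨m, hm⟩ := isNilpotent_of_resid_eq_zero hε hzc hres
    have hx0 : x = 0 := eq_zero_of_idem_of_nilpotent hxi ⟨m, by
      rw [← hzR, ← br_pow hRp (hzc.fixd.mono (SetLike.coe_subset_coe.mpr hRU.le)), hm, br_zero]⟩
    rw [hxdef, mul_sub, mul_one, sub_eq_zero] at hx0
    exact hx0.symm

end Pairs

end Cfsg.Agent.BC85.Star
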